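import Cfsg.Agent.Lib.TwoRank.Basic

/-!
2-groups of automorphisms of a group of order at most eight: quotients by subgroups containing the
squares have order at most four.
-/

set_option autoImplicit false

namespace CfsgLib.TwoRank

variable {W : Type*} [Group W] [Finite W]

theorem card_mulAut_le_six (h4 : Nat.card W ≤ 4) : Nat.card (MulAut W) ≤ 6 := by
  classical
  let g : MulAut W → Equiv.Perm {w : W // w ≠ 1} := fun α =>
    α.toEquiv.subtypeEquiv fun a => (map_ne_one_iff _ (MulEquiv.injective α)).symm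
  have hg : Function.Injective g := fun a b e => by
    apply MulEquiv.ext
    intro w
    by_cases hw : w = 1
    · rw [hw, map_one, map_one]
    · exact congrArg Subtype.val (Equiv.congr_fun e ⟨w, hw⟩)
  refine (Nat.card_le_card_of_injective g hg).trans ?_
  rw [Nat.card_perm]
  refine (Nat.factorial_le (m := Nat.card {w : W // w ≠ 1}) (n := 3) ?_).trans le_rfl
  haveI := Fintype.ofFinite W
  rw [Nat.card_eq_fintype_card, Fintype.card_subtype_compl, Fintype.card_subtype_eq,
    ← Nat.card_eq_fintype_card]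
  omega

/-- A 2-group `A` of automorphisms of a group of order eight fixing a subgroup `L` of order four
and an involution `s` of `L` has at most four cosets of a subgroup containing the squares. -/
theorem aut_eight (h8 : Nat.card W = 8) (L : Subgroup W) (hL4 : Nat.card L = 4) (s : W)
    (hsL : s ∈ L) (hs1 : s ≠ 1) (hs2 : s * s = 1) {A K : Subgroup (MulAut W)} (hA : IsPGroup 2 A)
    (hAK : SqLE A K) (hL' : ∀ α ∈ A, ∀ w ∈ L, α w ∈ L) (hs' : ∀ α ∈ A, α s = s) :
    Nat.card A ≤ 4 * Nat.card K := by
  classical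
  haveI : Fact (Nat.Prime 2) := ⟨Nat.prime_two⟩
  haveI : Finite (MulAut W) := Finite.of_injective _ MulEquiv.toEquiv_injective
  have hidx : L.index = 2 := by
    have := L.card_mul_index
    rw [h8, hL4] at this
    omega
  obtain ⟨v, hv⟩ : ∃ v, v ∉ L := by
    by_contra h
    push_neg at h
    rw [Subgroup.index_eq_one.mpr (eq_top_iff.mpr fun x _ => h x)] at hidx
    omega
  have hins : ∀ w, w ∉ L → v⁻¹ * w ∈ L := fun w hw =>
    (Subgroup.mul_mem_iff_of_index_two hidx).mpr
      ⟨fun e => absurd ((Subgroup.inv_mem_iff _).mp e) hv, fun e => absurd e hw⟩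
  have hzs : ∀ l ∈ Subgroup.zpowers s, l = 1 ∨ l = s := by
    rintro l ⟨k, rfl⟩
    rcases Int.even_or_odd k with ⟨j, hj⟩ | ⟨j, hj⟩
    · left
      show s ^ k = 1
      rw [hj, ← two_mul, zpow_mul, zpow_two, hs2, one_zpow]
    · right
      show s ^ k = s
      rw [hj, zpow_add, zpow_mul, zpow_two, hs2, one_zpow, one_mul, zpow_one]
  obtain ⟨b, hbL, hb1, hbs⟩ : ∃ b ∈ L, b ≠ 1 ∧ b ≠ s := by
    by_contra h
    push_neg at h
    let g : L → Bool := fun l => decide ((l : W) = 1)
    have hg : Function.Injective g := fun x y e => by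
      have e' := decide_eq_decide.mp e
      by_cases hx : (x : W) = 1
      · exact Subtype.ext (hx.trans (e'.mp hx).symm)
      · have hy : ¬ (y : W) = 1 := fun h' => hx (e'.mpr h')
        exact Subtype.ext ((h x x.2 hx).trans (h y y.2 hy).symm)
    have := Nat.card_le_card_of_injective g hg
    rw [hL4] at this
    simp at this
  -- the four elements of `L`
  have hLel : ∀ l ∈ L, l = 1 ∨ l = s ∨ l = b ∨ l = b * s := by
    have hcard : ({1, s, b, b * s} : Finset W).card = 4 := by
      have h1 : b * s ≠ 1 := fun e => hbs (by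
        rw [← inv_eq_of_mul_eq_one_right hs2]; exact eq_inv_of_mul_eq_one_left e)
      have h2 : b * s ≠ s := fun e => hb1 (mul_eq_right.mp e)
      have h3 : b * s ≠ b := fun e => hs1 (mul_eq_left.mp e)
      simp [Ne.symm hs1, Ne.symm hb1, Ne.symm hbs, Ne.symm h1, Ne.symm h2, Ne.symm h3]
    intro l hl
    by_contra h
    push_neg at h
    have hsub : ∀ x ∈ insert l ({1, s, b, b * s} : Finset W), x ∈ L := by
      intro x hx
      simp only [Finset.mem_insert, Finset.mem_singleton] at hx
      rcases hx with rfl | rfl | rfl | rfl | rfl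
      exacts [hl, L.one_mem, hsL, hbL, L.mul_mem hbL hsL]
    have h5 : (insert l ({1, s, b, b * s} : Finset W)).card = 5 := by
      rw [Finset.card_insert_of_notMem (by simp [h.1, h.2.1, h.2.2.1, h.2.2.2]), hcard]
    have := Nat.card_le_card_of_injective
      (fun x : ↥(insert l ({1, s, b, b * s} : Finset W)) => (⟨x.1, hsub x.1 x.2⟩ : L))
      fun x y e => Subtype.ext (congrArg (fun t : L => (t : W)) e)
    rw [Nat.card_eq_finsetCard, h5, hL4] at this
    omega
  have hpres : ∀ α ∈ A, ∀ w, w ∉ L → α w ∉ L := fun α hα w hw e =>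
    hw (by simpa using hL' α⁻¹ (A.inv_mem hα) _ e)
  have hb' : ∀ α ∈ A, α b = b ∨ α b = b * s := by
    intro α hα
    rcases hLel _ (hL' α hα b hbL) with h | h | h | h
    · exact absurd ((map_eq_one_iff α (MulEquiv.injective α)).mp h) hb1
    · exact absurd (MulEquiv.injective α (h.trans (hs' α hα).symm)) hbs
    · exact Or.inl h
    · exact Or.inr h
  let F : A → Bool × L := fun α =>
    (decide (α.1 b = b), ⟨v⁻¹ * α.1 v, hins _ (hpres _ α.2 v hv)⟩)
  have hF : Function.Injective F := by
    intro α β e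
    have e1 : decide (α.1 b = b) = decide (β.1 b = b) := congrArg Prod.fst e
    have ev : α.1 v = β.1 v := mul_left_cancel (congrArg (fun t : Bool × L => (t.2 : W)) e)
    have eb : α.1 b = β.1 b := by
      have e1' := decide_eq_decide.mp e1
      rcases hb' _ α.2 with h | h
      · rw [h, e1'.mp h]
      · rcases hb' _ β.2 with h' | h'
        · rw [e1'.mpr h', h']
        · rw [h, h']
    have eL : ∀ l ∈ L, α.1 l = β.1 l := by
      intro l hl
      rcases hLel l hl with rfl | rfl | rfl | rfl
      · simp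
      · rw [hs' _ α.2, hs' _ β.2]
      · exact eb
      · rw [map_mul, map_mul, eb, hs' _ α.2, hs' _ β.2]
    apply Subtype.ext
    apply MulEquiv.ext
    intro w
    by_cases hw : w ∈ L
    · exact eL w hw
    · calc α.1 w = α.1 (v * (v⁻¹ * w)) := by rw [mul_inv_cancel_left]
        _ = β.1 (v * (v⁻¹ * w)) := by
          rw [map_mul α.1 v, ev, eL _ (hins w hw), ← map_mul]
        _ = β.1 w := by rw [mul_inv_cancel_left]
  have h8A : Nat.card A ≤ 8 := by
    refine (Nat.card_le_card_of_injective F hF).trans ?_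
    rw [Nat.card_prod, hL4]
    simp
  rcases Nat.lt_or_ge (Nat.card K) 2 with hK | hK
  swap
  · omega
  have hK1 : K = ⊥ := Subgroup.eq_bot_of_card_le K (by omega)
  by_contra hlt
  have hA8 : Nat.card A = 8 := by
    obtain ⟨n, hn⟩ := IsPGroup.iff_card.mp hA
    have h0 : 0 < Nat.card K := Nat.card_pos
    rw [hn] at h8A hlt ⊢
    have h3 : n = 3 := by
      have hle : n ≤ 3 := by
        by_contra hc
        have : 2 ^ 4 ≤ 2 ^ n := Nat.pow_le_pow_right (by norm_num) (by omega)
        omega
      by_contra hne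
      have : 2 ^ n ≤ 2 ^ 2 := Nat.pow_le_pow_right (by norm_num) (by omega)
      omega
    rw [h3]
    norm_num
  have hbij : Function.Bijective F := by
    haveI := Fintype.ofFinite A
    haveI := Fintype.ofFinite L
    rw [Fintype.bijective_iff_injective_and_card]
    refine ⟨hF, ?_⟩
    simp only [← Nat.card_eq_fintype_card, Nat.card_prod, hA8, hL4]
    simp
  obtain ⟨φ, hφ⟩ := hbij.2 (true, ⟨b, hbL⟩)
  obtain ⟨χ, hχ⟩ := hbij.2 (false, ⟨1, L.one_mem⟩)
  have hφb : φ.1 b = b := by simpa [F] using congrArg Prod.fst hφ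
  have hφv : φ.1 v = v * b := by
    have : v⁻¹ * φ.1 v = b := congrArg (fun t : Bool × L => (t.2 : W)) hφ
    rw [← this, mul_inv_cancel_left]
  have hχv : χ.1 v = v := by
    have : v⁻¹ * χ.1 v = 1 := congrArg (fun t : Bool × L => (t.2 : W)) hχ
    exact (inv_mul_eq_one.mp this).symm
  have hχb : χ.1 b = b * s := (hb' _ χ.2).resolve_left (by simpa [F] using congrArg Prod.fst hχ)
  have hcomm : φ.1 * χ.1 = χ.1 * φ.1 := by
    have := hAK.comm_mem φ.2 χ.2
    rw [hK1, Subgroup.mem_bot] at this
    exact mul_inv_eq_one.mp (by rw [← this]; group)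
  have e := congrArg (fun f : MulAut W => f v) hcomm
  simp only [MulAut.mul_apply, hχv, hφv, map_mul, hχb] at e
  exact hs1 (mul_eq_left.mp (mul_left_cancel e).symm)

end CfsgLib.TwoRank
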