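import Cfsg.Agent.Lib.TwoRank.Induced
import Cfsg.Agent.Lib.TwoRank.AutEight

/-!
MacWilliams' four generator theorem: a 2-group without normal elementary abelian subgroups of
order eight has sectional rank at most four.
-/

set_option autoImplicit false

namespace CfsgLib.TwoRank

open Mat

theorem fixed_codes_card : ({0, qI, qN, qI + qN} : Finset Q4).card = 4 := by decide

theorem code_zero_flip : (0 : Q4) + flipQ 0 = 0 := by decide

theorem code_add_eq_zero : ∀ a b : Q4, a + b = 0 → b = a := by decide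

variable {P : Type*} [Group P] [Finite P] {W : Subgroup P}

section

variable [W.Normal]

local notation "φ" => (MulAut.conjNormal : P →* MulAut W)

theorem card_ker_part_le (hP : IsPGroup 2 P) (hW : IsCore W) (hno : NoEight P) {Y L : Subgroup P}
    (hY : Y ≤ (φ).ker) (hYL : SqLE Y L) : Nat.card Y ≤ 4 * Nat.card L :=
  card_le_omega_of_le hP (Subgroup.centralizer (W : Set P))
    (fun c hc h4c g hg =>
      (Subgroup.mem_centralizer_iff.mp hg _ (hW.mem_of_pow_four hP hc h4c)).symm)
    hW.omega (fun c hc h2 => ⟨hW.mem_of_pow_four hP hc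
      (by rw [show (4 : ℕ) = 2 * 2 from rfl, pow_mul, h2, one_pow]), h2⟩)
    (hW.omega_card_le hno) (mem_ker_conjNormal (W := W) ▸ hY) hYL

/-- With at most eight cosets in the image, a free element with central image settles the bound. -/
theorem Coord.card_le_of_free (C : Coord W) (hP : IsPGroup 2 P) (hW : IsCore W) (hno : NoEight P)
    (h16 : Nat.card W = 16) {X K : Subgroup P} (h : SqLE X K)
    (hA8 : Nat.card (X.map φ) ≤ 8 * Nat.card (K.map φ)) {x : P} (hxX : x ∈ X) {q : Q4}
    (hq : IsFreeCode q) (hx : C.mat (φ x) = kOf q)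
    (hcent : q = qN ∨ ∀ g : P, ∃ r, C.mat (φ g) = kOf r) :
    Nat.card X ≤ 16 * Nat.card K := by
  by_contra hgt
  obtain ⟨hxF, hxC⟩ := C.isFree hW hq hx
  let K0 : Subgroup P := Subgroup.closure {z | ∃ c ∈ X ⊓ (φ).ker, z = c * c}
  have hK0 : K0 ≤ K ⊓ (φ).ker := (Subgroup.closure_le _).mpr (by
    rintro _ ⟨c, hc, rfl⟩; exact (h.inf (φ).ker).2 c hc)
  have hsqK0 : SqLE (X ⊓ (φ).ker) K0 := ⟨hK0.trans (inf_le_inf_right _ h.1),
    fun c hc => Subgroup.subset_closure ⟨c, hc, rfl⟩⟩
  have hbig : ¬ Nat.card (X ⊓ (φ).ker : Subgroup P) ≤ 2 * Nat.card (K ⊓ (φ).ker : Subgroup P) :=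
    fun hle => hgt ((card_le_split φ hle hA8).trans (by norm_num))
  have h1 := card_ker_part_le hP hW hno inf_le_right hsqK0
  have hlow : Nat.card (K ⊓ (φ).ker : Subgroup P) < 2 * Nat.card K0 := by
    by_contra hh
    push_neg at hh
    exact hbig (h1.trans (by omega))
  have heq : K ⊓ (φ).ker = K0 := by
    refine (Subgroup.eq_of_le_of_card_ge hK0 ?_).symm
    have := le_of_lt_two_mul hP (K ⊓ (φ).ker) K0 0 (by simpa using hlow)
    simpa using this
  have hxx : x * x ∈ sqC W := by
    have hxx : x * x ∈ K ⊓ (φ).ker :=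
      ⟨h.2 x hxX, by rw [mem_ker_conjNormal]; exact C.sq_mem_centralizer hx⟩
    rw [heq] at hxx
    refine (Subgroup.closure_le _).mpr ?_ hxx
    rintro _ ⟨c, hc, rfl⟩
    exact Subgroup.subset_closure ⟨c, mem_ker_conjNormal (W := W) ▸ hc.2, rfl⟩
  exact hxF.false_of_central hP hno h16 hxC hxx (C.central hx hcent)

theorem Coord.card_le (C : Coord W) (hP : IsPGroup 2 P) (hW : IsCore W) (hno : NoEight P)
    (h16 : Nat.card W = 16) {X K : Subgroup P} (h : SqLE X K) :
    Nat.card X ≤ 16 * Nat.card K := by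
  classical
  haveI : Fact (Nat.Prime 2) := ⟨Nat.prime_two⟩
  haveI : Finite (MulAut W) := Finite.of_injective _ MulEquiv.toEquiv_injective
  have hker4 := card_ker_part_le hP hW hno inf_le_right (h.inf (φ).ker)
  set A := X.map φ with hA
  set K' := K.map φ with hK'
  have hAK : SqLE A K' := h.map φ
  have hAR : A ≤ (φ).range := Subgroup.map_le_range φ X
  set V := C.codes A with hV
  have hVR : V ≤ C.codes (φ).range := fun q ⟨α, hα, hq⟩ => ⟨α, hAR hα, hq⟩
  have hV8 : Nat.card V ≤ 8 :=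
    (Nat.card_le_card_of_injective _ (AddSubgroup.inclusion_injective hVR)).trans
      (C.card_codes_range_le hP hW hno h16)
  obtain ⟨hA2, hAeq⟩ := C.card_le_codes hAR
  rw [← hV] at hA2 hAeq
  have hK0 : 0 < Nat.card K' := Nat.card_pos
  have hfixV : ∀ g ∈ A, ∀ r, C.mat g = tOf r → K' = ⊥ → ∀ q ∈ V, flipQ q = q := by
    rintro g hg r hr hbot q ⟨α, hα, hq⟩
    have hcm := hAK.comm_mem hg hα
    rw [hbot, Subgroup.mem_bot] at hcm
    have e : g * α = α * g := mul_inv_eq_iff_eq_mul.mp (mul_inv_eq_one.mp hcm)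
    have e2 := congrArg C.mat e
    rw [C.mat_mul, C.mat_mul, hr, hq, tOf_kOf, kOf_tOf, add_comm q r] at e2
    exact add_left_cancel (tOf_inj _ _ e2)
  have hA8 : Nat.card A ≤ 8 * Nat.card K' := by
    by_cases hall : ∀ α ∈ A, ∃ q, C.mat α = kOf q
    · rw [hAeq hall]; omega
    rcases Nat.lt_or_ge (Nat.card K') 2 with h1 | h2
    swap
    · omega
    have hbot : K' = ⊥ := Subgroup.eq_bot_of_card_le K' (by omega)
    push_neg at hall
    obtain ⟨g, hg, hgK⟩ := hall
    obtain ⟨gp, hgpX, rfl⟩ := hg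
    obtain ⟨r, hr⟩ := (C.cases gp).resolve_left (fun ⟨q, hq⟩ => hgK q hq)
    let s : Finset Q4 := {0, qI, qN, qI + qN}
    have hV4 := Nat.card_le_card_of_injective
      (fun q : V => (⟨q.1, by
        simp only [s, Finset.mem_insert, Finset.mem_singleton]
        exact flip_fixed_cases q (hfixV _ ⟨gp, hgpX, rfl⟩ r hr hbot q q.2)⟩ : s))
      fun a b e => Subtype.ext (congrArg (fun t : s => (t : Q4)) e)
    rw [Nat.card_eq_finsetCard, fixed_codes_card] at hV4
    omega
  by_cases hN : qN ∈ V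
  · obtain ⟨_, ⟨x, hxX, rfl⟩, hx⟩ := hN
    exact C.card_le_of_free hP hW hno h16 h hA8 hxX (Or.inl rfl) hx (Or.inl rfl)
  by_cases hall : ∀ α ∈ A, ∃ q, C.mat α = kOf q
  swap
  · -- the image has at most four cosets
    refine (card_le_split φ hker4 (b := 4) ?_).trans (by norm_num)
    push_neg at hall
    obtain ⟨g, hg, hgK⟩ := hall
    obtain ⟨r, hr⟩ := (show (∃ q, C.mat g = kOf q) ∨ ∃ q, C.mat g = tOf q by
      obtain ⟨gp, -, rfl⟩ := hg; exact C.cases gp).resolve_left (fun ⟨q, hq⟩ => hgK q hq)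
    have hflip : ∀ q ∈ V, flipQ q ∈ V := by
      rintro q ⟨α, hα, hq⟩
      refine ⟨g * α * g⁻¹, A.mul_mem (A.mul_mem hg hα) (A.inv_mem hg), ?_⟩
      have hmem : g * α * g⁻¹ ∈ A := A.mul_mem (A.mul_mem hg hα) (A.inv_mem hg)
      have e : C.mat (g * α) = mul4 (C.mat (g * α * g⁻¹)) (C.mat g) := by
        rw [← C.mat_mul, inv_mul_cancel_right]
      rw [C.mat_mul, hr, hq, tOf_kOf] at e
      obtain ⟨p, -, hp⟩ := hmem
      rw [← hp] at e ⊢
      rcases C.cases p with ⟨s, hs⟩ | ⟨s, hs⟩ <;> rw [hs] at e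
      · rw [kOf_tOf, add_comm r] at e
        rw [hs, add_right_cancel (tOf_inj _ _ e)]
      · rw [tOf_tOf] at e
        exact absurd (e ▸ kOf_inK _) (tOf_not_inK _)
    let d : V →+ Q4 :=
      { toFun := fun q => (q : Q4) + flipQ q
        map_zero' := code_zero_flip
        map_add' := fun a b => by
          rw [AddSubgroup.coe_add, flipQ_add]; exact add_add_add_comm _ _ _ _ }
    have hfix2 : ∀ S : AddSubgroup Q4, S ≤ V → (∀ q ∈ S, flipQ q = q) → Nat.card S ≤ 2 := by
      intro S hS hf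
      refine le_trans (Nat.card_le_card_of_injective (fun q : S => decide ((q : Q4) = 0))
        fun a b e => ?_) (by simp)
      have e' := decide_eq_decide.mp e
      by_cases ha : (a : Q4) = 0
      · exact Subtype.ext (ha.trans (e'.mp ha).symm)
      · by_contra hne
        rcases flip_fix_sum a b (hf a a.2) (hf b b.2) ha (fun h' => ha (e'.mpr h'))
          (fun h' => hne (Subtype.ext h')) with h' | h' | h'
        · exact hN (h' ▸ hS a.2)
        · exact hN (h' ▸ hS b.2)
        · exact hN (h' ▸ hS (S.add_mem a.2 b.2))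
    have hd := d.ker.card_mul_index
    rw [AddSubgroup.index_ker] at hd
    have h1 : Nat.card d.range ≤ 2 := hfix2 d.range
      (by rintro _ ⟨q, rfl⟩; exact V.add_mem q.2 (hflip q q.2))
      (by rintro _ ⟨q, rfl⟩; exact flip_sum_fixed _)
    have h2 : Nat.card d.ker ≤ 2 := by
      have := hfix2 (d.ker.map V.subtype) (by rintro _ ⟨q, -, rfl⟩; exact q.2)
        (by
          rintro _ ⟨q, hq, rfl⟩
          have hz : (q : Q4) + flipQ q = 0 := hq
          exact code_add_eq_zero _ _ hz)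
      rwa [AddSubgroup.card_map_of_injective V.subtype_injective] at this
    show Nat.card A ≤ 4 * Nat.card K'
    rcases Nat.lt_or_ge (Nat.card K') 2 with h1' | h2'
    swap
    · nlinarith
    have hbot : K' = ⊥ := Subgroup.eq_bot_of_card_le K' (by omega)
    have := hfix2 V le_rfl (hfixV g hg r hr hbot)
    omega
  -- the image fixes the involutions
  by_cases hA4 : Nat.card A ≤ 4
  · exact (card_le_split φ hker4 (b := 4) (show Nat.card A ≤ 4 * Nat.card K' by omega)).trans
      (by norm_num)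
  have hV8' : Nat.card V = 8 := by
    have e := hAeq hall
    obtain ⟨a, ha⟩ := AddSubgroup.card_addSubgroup_dvd_card V
    rw [show Nat.card Q4 = 16 by simp] at ha
    have : a = 2 := by
      rcases a with _ | _ | _ | _ | a <;> first | omega | nlinarith
    subst this
    omega
  have hidx : V.index = 2 := by
    have := V.card_mul_index
    rw [hV8', show Nat.card Q4 = 16 by simp] at this
    omega
  have hsum : ∀ q r, q ∉ V → r ∉ V → q + r ∈ V := fun q r hq hr =>
    (AddSubgroup.add_mem_iff_of_index_two hidx).mpr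
      ⟨fun h' => absurd h' hq, fun h' => absurd h' hr⟩
  have hVeq : V = C.codes (φ).range := by
    refine le_antisymm hVR fun q hq => ?_
    by_contra hqV
    have hlt : Nat.card V < Nat.card (C.codes (φ).range) :=
      Set.Finite.card_lt_card (Set.toFinite _) (SetLike.coe_ssubset_coe.mpr
        (lt_of_le_of_ne hVR fun e => hqV (e ▸ hq)))
    have := C.card_codes_range_le hP hW hno h16
    omega
  by_cases hPK : ∀ g : P, ∃ r, C.mat (φ g) = kOf r
  · obtain ⟨q, hq, hqV⟩ : ∃ q, IsFreeCode q ∧ q ∈ V := by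
      by_contra hcon
      push_neg at hcon
      have h1 := hsum _ _ (hcon qN (Or.inl rfl)) (hcon qB (Or.inr (Or.inl rfl)))
      have h2 := hsum _ _ (hcon qR (Or.inr (Or.inr (Or.inr (Or.inl rfl)))))
        (hcon qS (Or.inr (Or.inr (Or.inr (Or.inr rfl)))))
      exact hcon qC (Or.inr (Or.inr (Or.inl rfl))) (triple_eq ▸ V.add_mem h1 h2)
    obtain ⟨_, ⟨x, hxX, rfl⟩, hx⟩ := hqV
    exact C.card_le_of_free hP hW hno h16 h hA8 hxX hq hx (Or.inr hPK)
  · exfalso
    push_neg at hPK
    obtain ⟨g, hgK⟩ := hPK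
    obtain ⟨r, hr⟩ := (C.cases g).resolve_left (fun ⟨q, hq⟩ => hgK q hq)
    have hflip : ∀ q ∈ V, flipQ q ∈ V := by
      rintro q ⟨α, ⟨a, -, rfl⟩, hq⟩
      rw [hVeq]
      refine ⟨φ (g * a * g⁻¹), ⟨_, rfl⟩, ?_⟩
      have e : C.mat (φ (g * a)) = mul4 (C.mat (φ (g * a * g⁻¹))) (C.mat (φ g)) := by
        rw [← C.mat_mul, ← map_mul, inv_mul_cancel_right]
      rw [map_mul φ g a, C.mat_mul, hr, hq, tOf_kOf] at e
      rcases C.cases (g * a * g⁻¹) with ⟨s, hs⟩ | ⟨s, hs⟩ <;> rw [hs] at e
      · rw [kOf_tOf, add_comm r] at e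
        rw [hs, add_right_cancel (tOf_inj _ _ e)]
      · rw [tOf_tOf] at e
        exact absurd (e ▸ kOf_inK _) (tOf_not_inK _)
    by_cases he : qE ∈ V
    · exact hN (qE_flip.1 ▸ V.add_mem he (hflip _ he))
    · exact hN (qE_flip.2 ▸ V.add_mem (hsum _ _ hN he) (hflip _ (hsum _ _ hN he)))

end

/-- MacWilliams' theorem. -/
theorem card_le_of_noEight {P : Type*} [Group P] [Finite P] (hP : IsPGroup 2 P) (hno : NoEight P)
    {X K : Subgroup P} (h : SqLE X K) : Nat.card X ≤ 16 * Nat.card K := by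
  haveI : Fact (Nat.Prime 2) := ⟨Nat.prime_two⟩
  obtain ⟨W, hW⟩ := exists_core P
  haveI := hW.normal
  by_cases h16 : Nat.card W = 16
  · obtain ⟨C⟩ := exists_coord hP hW hno h16
    exact C.card_le hP hW hno h16 h
  set φ := (MulAut.conjNormal : P →* MulAut W)
  haveI : Finite (MulAut W) := Finite.of_injective _ MulEquiv.toEquiv_injective
  refine (card_le_split φ (card_ker_part_le hP hW hno inf_le_right (h.inf φ.ker)) (b := 4) ?_).trans
    (by norm_num)
  have hle := hW.card_le_sixteen hno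
  obtain ⟨n, hn⟩ := IsPGroup.iff_card.mp (hP.to_subgroup W)
  have hn3 : n ≤ 3 := by
    by_contra hc
    have : 2 ^ 4 ≤ 2 ^ n := Nat.pow_le_pow_right (by norm_num) (by omega)
    omega
  have hK0 : 0 < Nat.card (K.map φ) := Nat.card_pos
  rcases Nat.lt_or_ge n 3 with hn2 | hn3'
  · have h4 : Nat.card W ≤ 4 := by
      rw [hn]
      exact le_of_le_of_eq (Nat.pow_le_pow_right (by norm_num) (by omega : n ≤ 2)) rfl
    have h6 := (Subgroup.card_le_card_group (X.map φ)).trans (card_mulAut_le_six h4)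
    obtain ⟨m, hm⟩ := IsPGroup.iff_card.mp ((hP.to_subgroup X).map φ)
    rw [hm] at h6 ⊢
    have : m ≤ 2 := by
      by_contra hc
      have : 2 ^ 3 ≤ 2 ^ m := Nat.pow_le_pow_right (by norm_num) (by omega)
      omega
    have : 2 ^ m ≤ 4 := le_of_le_of_eq (Nat.pow_le_pow_right (by norm_num) this) rfl
    omega
  · have h8 : Nat.card W = 8 := by rw [hn, show n = 3 by omega]; norm_num
    -- the involutions form a subgroup of order four, the squares one of order two
    have hsp := hW.card_sqHom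
    rw [h8] at hsp
    have ho := hW.omega_card_le hno
    have hr := Subgroup.card_le_card_group hW.sqHom.range
    obtain ⟨ho4, hr2⟩ : Nat.card hW.omega = 4 ∧ Nat.card hW.sqHom.range = 2 := by
      generalize Nat.card hW.omega = o at hsp ho hr
      generalize Nat.card hW.sqHom.range = t at hsp hr
      interval_cases o <;> omega
    obtain ⟨⟨s, hs⟩, hs1⟩ := Subgroup.ne_bot_iff_exists_ne_one.1
      (fun e : hW.sqHom.range = ⊥ => by rw [e, Subgroup.card_bot] at hr2; omega)
    obtain ⟨v, hv⟩ := hs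
    have hrange : ∀ t ∈ hW.sqHom.range, t = 1 ∨ t = s := by
      intro t ht
      by_contra hc
      push_neg at hc
      obtain ⟨y, -, hy⟩ := (Nat.card_eq_two_iff' (1 : hW.sqHom.range)).mp hr2
      have h1 := hy ⟨t, ht⟩ (fun e => hc.1 (congrArg Subtype.val e))
      have h2 := hy ⟨s, ⟨v, hv⟩⟩ hs1
      exact hc.2 (congrArg Subtype.val (h1.trans h2.symm))
    refine aut_eight h8 (hW.omega.subgroupOf W) ?_ ⟨s, hW.omega_le s.2⟩
      (Subgroup.mem_subgroupOf.mpr s.2) ?_ ?_ ((hP.to_subgroup X).map φ) (h.map φ) ?_ ?_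
    · rw [Nat.card_congr (Subgroup.subgroupOfEquivOfLe hW.omega_le).toEquiv, ho4]
    · intro e
      exact hs1 (Subtype.ext (Subtype.ext (congrArg (fun w : W => (w : P)) e :)))
    · exact Subtype.ext (by rw [Subgroup.coe_mul, ← pow_two]; exact s.2.2)
    · intro α _ w hw
      refine Subgroup.mem_subgroupOf.mpr ⟨(α w).2, ?_⟩
      have hw2 : w ^ 2 = 1 := Subtype.ext (Subgroup.mem_subgroupOf.mp hw).2
      exact congrArg Subtype.val (show (α w) ^ 2 = 1 by rw [← map_pow, hw2, map_one])
    · intro α _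
      have hsq : (⟨s, hW.omega_le s.2⟩ : W) = v ^ 2 := Subtype.ext (by rw [← hv]; rfl)
      have hmem : hW.sqHom (α v) ∈ hW.sqHom.range := ⟨_, rfl⟩
      rw [hsq, map_pow]
      rcases hrange _ hmem with e | e
      · exfalso
        have h1 : (α v) ^ 2 = 1 := Subtype.ext (congrArg (fun t : hW.omega => (t : P)) e :)
        rw [← map_pow, map_eq_one_iff α (MulEquiv.injective α)] at h1
        exact hs1 (Subtype.ext (hv.symm.trans (Subtype.ext (congrArg (fun w : W => (w : P)) h1 :))))
      · apply Subtype.ext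
        have e1 : ((α v : W) : P) ^ 2 = s := congrArg Subtype.val e
        rw [SubgroupClass.coe_pow, SubgroupClass.coe_pow, e1, ← hv]
        rfl

end CfsgLib.TwoRank
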