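import Cfsg.Prelude.Def_CaseTheorems
import Cfsg.Prelude.Def_Transfer
import Cfsg.Agent.Lib.PSolvable.Omega

/-!
Counting the elementary abelian sections of a 2-group: for subgroups `K ≤ X` with all squares of
`X` in `K` we bound `|X|` by a multiple of `|K|`.
-/

set_option autoImplicit false

namespace CfsgLib.TwoRank

universe u

variable {G Q : Type*} [Group G] [Group Q]

/-- `K` lies in `X` and contains every square of an element of `X`. -/
def SqLE (X K : Subgroup G) : Prop := K ≤ X ∧ ∀ x ∈ X, x * x ∈ K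

theorem SqLE.conj_mem {X K : Subgroup G} (h : SqLE X K) {x k : G} (hx : x ∈ X) (hk : k ∈ K) :
    x * k * x⁻¹ ∈ K := by
  have e : x * k * x⁻¹ = (x * k) * (x * k) * k⁻¹ * (x * x)⁻¹ := by group
  rw [e]
  exact K.mul_mem (K.mul_mem (h.2 _ (X.mul_mem hx (h.1 hk))) (K.inv_mem hk))
    (K.inv_mem (h.2 x hx))

theorem SqLE.comm_mem {X K : Subgroup G} (h : SqLE X K) {x y : G} (hx : x ∈ X) (hy : y ∈ X) :
    x * y * x⁻¹ * y⁻¹ ∈ K := by
  have e : x * y * x⁻¹ * y⁻¹ = (x * x) * ((x⁻¹ * y) * (x⁻¹ * y)) * (y * y)⁻¹ := by group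
  rw [e]
  exact K.mul_mem (K.mul_mem (h.2 x hx) (h.2 _ (X.mul_mem (X.inv_mem hx) hy)))
    (K.inv_mem (h.2 y hy))

theorem SqLE.inf {X K : Subgroup G} (h : SqLE X K) (D : Subgroup G) : SqLE (X ⊓ D) (K ⊓ D) :=
  ⟨inf_le_inf_right D h.1, fun x hx => ⟨h.2 x hx.1, D.mul_mem hx.2 hx.2⟩⟩

theorem SqLE.map {X K : Subgroup G} (h : SqLE X K) (f : G →* Q) : SqLE (X.map f) (K.map f) := by
  refine ⟨Subgroup.map_mono h.1, ?_⟩
  rintro _ ⟨x, hx, rfl⟩
  exact ⟨x * x, h.2 x hx, map_mul f x x⟩

theorem card_split [Finite G] (f : G →* Q) (X : Subgroup G) :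
    Nat.card X = Nat.card (X ⊓ f.ker : Subgroup G) * Nat.card (X.map f) := by
  have h1 := Subgroup.relIndex_ker (K := X) f
  have h2 := (f.ker.subgroupOf X).card_mul_index
  have h3 : Nat.card (f.ker.subgroupOf X) = Nat.card (X ⊓ f.ker : Subgroup G) := by
    rw [← Subgroup.inf_subgroupOf_left]
    exact Nat.card_congr (Subgroup.subgroupOfEquivOfLe inf_le_left).toEquiv
  rw [← h2, h3, ← h1]
  rfl

/-- Bounds for the part inside the kernel and for the image combine. -/
theorem card_le_split [Finite G] (f : G →* Q) {X K : Subgroup G} {a b : ℕ}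
    (ha : Nat.card (X ⊓ f.ker : Subgroup G) ≤ a * Nat.card (K ⊓ f.ker : Subgroup G))
    (hb : Nat.card (X.map f) ≤ b * Nat.card (K.map f)) :
    Nat.card X ≤ a * b * Nat.card K := by
  rw [card_split f X, card_split f K]
  refine (Nat.mul_le_mul ha hb).trans (le_of_eq ?_)
  ring

theorem exists_two_pow [Finite G] (hG : IsPGroup 2 G) (X : Subgroup G) :
    ∃ n : ℕ, Nat.card X = 2 ^ n := IsPGroup.iff_card.mp (hG.to_subgroup X)

/-- A strict bound by the double of a power of two gives the bound by that power. -/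
theorem le_of_lt_two_mul [Finite G] (hG : IsPGroup 2 G) (X K : Subgroup G) (j : ℕ)
    (h : Nat.card X < 2 ^ (j + 1) * Nat.card K) : Nat.card X ≤ 2 ^ j * Nat.card K := by
  obtain ⟨a, ha⟩ := exists_two_pow hG X
  obtain ⟨b, hb⟩ := exists_two_pow hG K
  rw [ha, hb, ← pow_add] at h ⊢
  have := (Nat.pow_lt_pow_iff_right Nat.one_lt_two).mp h
  exact Nat.pow_le_pow_right Nat.two_pos (by omega)

theorem sectional_of_sqLE {G : Type*} [Group G] [Finite G] {k : ℕ}
    (h : ∀ X K : Subgroup G, SqLE X K → Nat.card X ≤ 2 ^ k * Nat.card K) :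
    Cfsg.SectionalPRankLE 2 k G := by
  intro H N _ A _ hA2
  let X := A.comap (QuotientGroup.mk' N)
  have hNX : N ≤ X := fun n hn => by
    show QuotientGroup.mk' N n ∈ A
    rw [QuotientGroup.mk'_apply, (QuotientGroup.eq_one_iff n).mpr hn]
    exact A.one_mem
  have hsq : SqLE (X.map H.subtype) (N.map H.subtype) := by
    refine ⟨Subgroup.map_mono hNX, ?_⟩
    rintro _ ⟨x, hx, rfl⟩
    refine ⟨x * x, ?_, map_mul H.subtype x x⟩
    apply (QuotientGroup.eq_one_iff (x * x)).mp
    show QuotientGroup.mk' N (x * x) = 1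
    rw [map_mul, ← pow_two]
    exact hA2 _ hx
  have h1 := h _ _ hsq
  rw [Subgroup.card_map_of_injective H.subtype_injective,
    Subgroup.card_map_of_injective H.subtype_injective, card_split (QuotientGroup.mk' N) X,
    QuotientGroup.ker_mk', inf_eq_right.mpr hNX,
    Subgroup.map_comap_eq_self_of_surjective (QuotientGroup.mk'_surjective N), mul_comm] at h1
  exact Nat.le_of_mul_le_mul_right h1 Nat.card_pos

/-- Elements of order at most four are central. -/
def OmTwoCentral (G : Type*) [Group G] : Prop := ∀ x : G, x ^ 4 = 1 → ∀ g, g * x = x * g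

/-- The subgroup of central involutions. -/
def omegaOne (h : OmTwoCentral G) : Subgroup G where
  carrier := {x | x ^ 2 = 1}
  one_mem' := one_pow 2
  mul_mem' {a b} ha hb := by
    have ha4 : a ^ 4 = 1 := by rw [show (4 : ℕ) = 2 * 2 from rfl, pow_mul, ha, one_pow]
    show (a * b) ^ 2 = 1
    rw [Commute.mul_pow (h a ha4 b).symm, ha, hb, one_mul]
  inv_mem' {a} ha := by
    show a⁻¹ ^ 2 = 1
    rw [inv_pow, ha, inv_one]

theorem omegaOne_normal (h : OmTwoCentral G) : (omegaOne h).Normal := ⟨fun n (hn : n ^ 2 = 1) g => by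
  show (g * n * g⁻¹) ^ 2 = 1
  rw [conj_pow, hn, mul_one, mul_inv_cancel]⟩

theorem OmTwoCentral.subgroup (h : OmTwoCentral G) (X : Subgroup G) : OmTwoCentral X :=
  fun x hx g => Subtype.ext (h x.1 (by rw [← SubgroupClass.coe_pow, hx, X.coe_one]) g.1)

/-- If elements of order at most four are central, then modulo the involutions as well. -/
theorem OmTwoCentral.quotient [Finite G] (hG : IsPGroup 2 G) (h : OmTwoCentral G) (f : G →* Q)
    (hf : Function.Surjective f) (hker : ∀ x : G, f x = 1 ↔ x ^ 2 = 1) : OmTwoCentral Q := by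
  haveI : Fact (Nat.Prime 2) := ⟨Nat.prime_two⟩
  intro q hq q'
  obtain ⟨x, rfl⟩ := hf q
  obtain ⟨g, rfl⟩ := hf q'
  have h8 : (x ^ 2) ^ 4 = 1 := by
    rw [← map_pow, hker] at hq
    rw [← pow_mul, show 2 * 4 = 4 * 2 from rfl, pow_mul, hq]
  have hc := h _ h8
  have hinv : x * (x⁻¹ * (g * x * g⁻¹)) * x⁻¹ = (x⁻¹ * (g * x * g⁻¹))⁻¹ := by
    have e1 : (g * x * g⁻¹) * (g * x * g⁻¹) = x * x := by
      have : g * x * g⁻¹ * (g * x * g⁻¹) = g * x ^ 2 * g⁻¹ := by rw [pow_two]; group
      rw [this, hc g, mul_inv_cancel_right, pow_two]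
    rw [mul_inv_rev, inv_inv, ← mul_assoc, mul_inv_cancel, one_mul, eq_inv_mul_iff_mul_eq,
      ← mul_assoc, e1, mul_inv_cancel_right]
  set u := x⁻¹ * (g * x * g⁻¹) with hu
  obtain ⟨m, hm⟩ := IsPGroup.iff_orderOf.mp hG u
  have hu2 : u ^ 2 = 1 := by
    rcases lt_or_ge m 2 with hm2 | hm2
    · rw [← orderOf_dvd_iff_pow_eq_one, hm]
      interval_cases m <;> norm_num
    · exfalso
      have hz4 : (u ^ 2 ^ (m - 2)) ^ 4 = 1 := by
        rw [← pow_mul, show 2 ^ (m - 2) * 4 = 2 ^ m by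
          rw [show (4 : ℕ) = 2 ^ 2 from rfl, ← pow_add, Nat.sub_add_cancel hm2], ← hm,
          pow_orderOf_eq_one]
      have hz2 : u ^ 2 ^ (m - 1) = 1 := by
        have e := h _ hz4 x
        have e' : x * u ^ 2 ^ (m - 2) * x⁻¹ = (u ^ 2 ^ (m - 2))⁻¹ := by
          rw [← conj_pow, hinv, inv_pow]
        rw [e, mul_inv_cancel_right, eq_inv_iff_mul_eq_one, ← pow_add, ← two_mul, ← pow_succ',
          show m - 2 + 1 = m - 1 by omega] at e'
        exact e'
      have := orderOf_dvd_of_pow_eq_one hz2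
      rw [hm, Nat.pow_dvd_pow_iff_le_right (by norm_num)] at this
      omega
  have e3 : f g * f x * (f g)⁻¹ = f x := by
    have := (hker u).mpr hu2
    rw [hu, map_mul, map_inv, map_mul, map_mul, map_inv, inv_mul_eq_one] at this
    exact this.symm
  exact mul_inv_eq_iff_eq_mul.mp e3

/-- The basic bound: at most as many cosets of `K` as there are solutions of `x² = 1`. -/
theorem card_le_omega {G : Type u} [Group G] [Finite G] (hG : IsPGroup 2 G) (h : OmTwoCentral G)
    (K : Subgroup G) (hK : ∀ x, x * x ∈ K) :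
    Nat.card G ≤ Nat.card {x : G // x ^ 2 = 1} * Nat.card K := by
  suffices H : ∀ (n : ℕ) (G : Type u) [Group G] [Finite G], Nat.card G ≤ n → IsPGroup 2 G →
      OmTwoCentral G → ∀ K : Subgroup G, (∀ x : G, x * x ∈ K) →
      Nat.card G ≤ Nat.card {x : G // x ^ 2 = 1} * Nat.card K from
    H _ G le_rfl hG h K hK
  intro n
  induction n with
  | zero =>
    intro G _ _ hn
    exact absurd hn (not_le.mpr Nat.card_pos)
  | succ n ih =>
    intro G _ _ hn hG h K hK
    haveI : Fact (Nat.Prime 2) := ⟨Nat.prime_two⟩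
    by_cases htriv : Nat.card G = 1
    · rw [htriv]
      exact Nat.mul_pos (Nat.card_pos_iff.mpr ⟨⟨⟨1, one_pow 2⟩⟩, inferInstance⟩) Nat.card_pos
    haveI := omegaOne_normal h
    set f := QuotientGroup.mk' (omegaOne h)
    have hker : ∀ x, f x = 1 ↔ x ^ 2 = 1 := fun x => QuotientGroup.eq_one_iff x
    have hO : Nat.card (omegaOne h) = Nat.card {x : G // x ^ 2 = 1} := rfl
    have hOgt : 1 < Nat.card (omegaOne h) := by
      obtain ⟨y, hy⟩ := exists_prime_orderOf_dvd_card' 2
        ((hG.card_eq_or_dvd).resolve_left htriv)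
      have hy1 : y ^ 2 = 1 := by rw [← hy]; exact pow_orderOf_eq_one y
      haveI : Nontrivial (omegaOne h) := ⟨⟨y, hy1⟩, 1, fun e => by
        have : y = 1 := congrArg Subtype.val e
        rw [this, orderOf_one] at hy
        omega⟩
      exact Finite.one_lt_card
    have hGsplit := Subgroup.card_eq_card_quotient_mul_card_subgroup (omegaOne h)
    have hQn : Nat.card (G ⧸ omegaOne h) ≤ n := by
      have : 0 < Nat.card (G ⧸ omegaOne h) := Nat.card_pos
      nlinarith
    have h1 := ih _ hQn (hG.to_quotient _)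
      (h.quotient hG f (QuotientGroup.mk'_surjective _) hker) (K.map f)
      (fun q => by
        obtain ⟨x, rfl⟩ := QuotientGroup.mk'_surjective _ q
        exact ⟨x * x, hK x, map_mul f x x⟩)
    have h2 : Nat.card {q : G ⧸ omegaOne h // q ^ 2 = 1} ≤ Nat.card (K ⊓ f.ker : Subgroup G) := by
      have hx : ∀ q : {q : G ⧸ omegaOne h // q ^ 2 = 1}, (q.1.out ^ 2) ^ 2 = 1 := fun q => by
        rw [← hker, map_pow]
        show ((q.1.out : G) : G ⧸ omegaOne h) ^ 2 = 1
        rw [QuotientGroup.out_eq']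
        exact q.2
      let g : {q : G ⧸ omegaOne h // q ^ 2 = 1} → (K ⊓ f.ker : Subgroup G) := fun q =>
        ⟨q.1.out ^ 2, by rw [pow_two]; exact hK _, (hker _).mpr (hx q)⟩
      refine Nat.card_le_card_of_injective g fun q q' e => ?_
      have e' : q.1.out ^ 2 = q'.1.out ^ 2 := congrArg Subtype.val e
      have hq4 : q.1.out ^ 4 = 1 := by rw [show (4 : ℕ) = 2 * 2 from rfl, pow_mul, hx q]
      have hmem : q.1.out⁻¹ * q'.1.out ∈ omegaOne h := by
        show (_ : G) ^ 2 = 1
        rw [Commute.mul_pow (Commute.inv_left (h _ hq4 _).symm), inv_pow, e', inv_mul_cancel]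
      apply Subtype.ext
      have := QuotientGroup.eq.mpr hmem
      rwa [QuotientGroup.out_eq', QuotientGroup.out_eq'] at this
    rw [hGsplit, card_split f K]
    calc Nat.card (G ⧸ omegaOne h) * Nat.card (omegaOne h)
        ≤ (Nat.card {q : G ⧸ omegaOne h // q ^ 2 = 1} * Nat.card (K.map f)) *
            Nat.card (omegaOne h) := Nat.mul_le_mul_right _ h1
      _ ≤ (Nat.card (K ⊓ f.ker : Subgroup G) * Nat.card (K.map f)) * Nat.card (omegaOne h) :=
          Nat.mul_le_mul_right _ (Nat.mul_le_mul_right _ h2)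
      _ = _ := by rw [hO, mul_comm]

/-- The same bound for the subgroups of a subgroup `C`. -/
theorem card_le_omega_of_le {G : Type*} [Group G] [Finite G] (hG : IsPGroup 2 G) (C : Subgroup G)
    (hC : ∀ x ∈ C, x ^ 4 = 1 → ∀ g ∈ C, g * x = x * g) {m : ℕ} (S : Subgroup G)
    (hS : ∀ x ∈ C, x ^ 2 = 1 → x ∈ S) (hm : Nat.card S ≤ m) {X K : Subgroup G} (hX : X ≤ C)
    (h : SqLE X K) : Nat.card X ≤ m * Nat.card K := by
  have hom : OmTwoCentral X := fun x hx g => Subtype.ext
    (hC x.1 (hX x.2) (by rw [← SubgroupClass.coe_pow, hx, X.coe_one]) g.1 (hX g.2))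
  have h1 := card_le_omega (hG.to_subgroup X) hom (K.subgroupOf X) (fun x => h.2 x.1 x.2)
  rw [Nat.card_congr (Subgroup.subgroupOfEquivOfLe h.1).toEquiv] at h1
  refine h1.trans (Nat.mul_le_mul_right _ (le_trans ?_ hm))
  let g : {x : X // x ^ 2 = 1} → S := fun x =>
    ⟨x.1.1, hS _ (hX x.1.2) (by rw [← SubgroupClass.coe_pow, x.2, X.coe_one])⟩
  exact Nat.card_le_card_of_injective g fun x y e => Subtype.ext (Subtype.ext
    (congrArg (fun s : S => (s : G)) e))

/-- With at most two solutions of `x² = 1` the group is cyclic. -/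
theorem isCyclic_of_omega_le_two {G : Type*} [Group G] [Finite G] (hG : IsPGroup 2 G)
    (h : OmTwoCentral G) (h2 : Nat.card {x : G // x ^ 2 = 1} ≤ 2) : IsCyclic G := by
  haveI : Fact (Nat.Prime 2) := ⟨Nat.prime_two⟩
  have hsq : ∀ x : G, x * x ∈ frattini G := fun x => by
    rw [← pow_two]; exact (PSolvable.commutator_le_frattini hG).2 x
  have h1 := (card_le_omega hG h (frattini G) hsq).trans (Nat.mul_le_mul_right _ h2)
  by_cases ht : frattini G = ⊤
  · refine ⟨⟨1, fun x => ?_⟩⟩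
    have hb : (⊥ : Subgroup G) = ⊤ := frattini_nongenerating (by rw [ht, sup_top_eq])
    have hx : x ∈ (⊥ : Subgroup G) := hb ▸ Subgroup.mem_top x
    rw [Subgroup.mem_bot.mp hx]
    exact one_mem (Subgroup.zpowers (1 : G))
  obtain ⟨g, -, hg⟩ := SetLike.exists_of_lt (lt_top_iff_ne_top.mpr ht)
  refine ⟨⟨g, fun x => ?_⟩⟩
  have htop : Subgroup.zpowers g ⊔ frattini G = ⊤ := by
    by_contra hne
    have hd := Subgroup.card_dvd_of_le (le_sup_right : frattini G ≤ Subgroup.zpowers g ⊔ frattini G)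
    have hd' := Subgroup.card_subgroup_dvd_card (Subgroup.zpowers g ⊔ frattini G)
    have hne1 : Nat.card (Subgroup.zpowers g ⊔ frattini G : Subgroup G) ≠ Nat.card G :=
      fun e => hne (Subgroup.eq_top_of_card_eq _ e)
    have hne2 : Nat.card (frattini G) ≠
        Nat.card (Subgroup.zpowers g ⊔ frattini G : Subgroup G) := fun e =>
      hg ((Subgroup.eq_of_le_of_card_ge le_sup_right e.ge) ▸
        Subgroup.mem_sup_left (Subgroup.mem_zpowers g))
    obtain ⟨a, ha⟩ := hd
    obtain ⟨b, hb⟩ := hd'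
    have ha2 : 2 ≤ a := by
      rcases a with _ | _ | a
      · simp at ha; exact absurd ha Nat.card_pos.ne'
      · simp at ha; exact absurd ha.symm hne2
      · omega
    have hb2 : 2 ≤ b := by
      rcases b with _ | _ | b
      · simp at hb; exact absurd hb Nat.card_pos.ne'
      · simp at hb; exact absurd hb.symm hne1
      · omega
    have hpos : 0 < Nat.card (frattini G) := Nat.card_pos
    rw [hb, ha] at h1
    nlinarith [Nat.mul_le_mul ha2 hb2]
  show x ∈ Subgroup.zpowers g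
  rw [frattini_nongenerating htop]
  exact Subgroup.mem_top x

end CfsgLib.TwoRank
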