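import Cfsg.Agent.Lib.TwoRank.SelfCentEight
import Cfsg.Agent.Lib.TwoRank.MacWilliams

/-!
Harada's theorem: a 2-group with a self-centralising elementary abelian subgroup of order eight
has sectional rank at most four.
-/

set_option autoImplicit false

namespace CfsgLib.TwoRank

variable {S : Type*} [Group S] [Finite S]

/-- The case of a normal self-centralising subgroup. -/
theorem card_le_normal {E : Subgroup S} [E.Normal] (hS : IsPGroup 2 S) (hE : Elem E)
    (h8 : Nat.card E = 8) (hC : Subgroup.centralizer (E : Set S) = E) {X K : Subgroup S}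
    (hXK : SqLE X K) : Nat.card X ≤ 16 * Nat.card K := by
  haveI : Fact (Nat.Prime 2) := ⟨Nat.prime_two⟩
  set φ := (MulAut.conjNormal : S →* MulAut E) with hφ
  have hker : φ.ker = E := (mem_ker_conjNormal (W := E)).trans hC
  have hr2 := card_map_le_of_eight hS E hE h8 hXK
  rw [← hφ] at hr2
  set Y := X ⊓ φ.ker with hY
  have hY8 : Nat.card Y ≤ 8 := h8 ▸ Subgroup.card_le_of_le (inf_le_right.trans hker.le)
  have hK0 : 0 < Nat.card (K ⊓ φ.ker : Subgroup S) := Nat.card_pos
  by_cases hle : Nat.card Y ≤ 4 * Nat.card (K ⊓ φ.ker : Subgroup S)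
  · exact (card_le_split φ hle hr2).trans (by norm_num)
  have hYE : Y = E := by
    refine Subgroup.eq_of_le_of_card_ge (inf_le_right.trans hker.le) ?_
    obtain ⟨m, hm⟩ := exists_two_pow hS Y
    rw [hm] at hle
    rw [h8, hm]
    have : 3 ≤ m := by
      by_contra hc
      have : 2 ^ m ≤ 2 ^ 2 := Nat.pow_le_pow_right (by norm_num) (by omega)
      omega
    exact le_of_eq_of_le (by norm_num) (Nat.pow_le_pow_right (by norm_num : 0 < 2) this)
  have hKb : K ⊓ φ.ker = ⊥ := Subgroup.eq_bot_of_card_le (K ⊓ φ.ker) (by omega)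
  have hXE : X ≤ E := by
    intro x hx
    rw [← hC]
    refine Subgroup.mem_centralizer_iff.mpr fun e he => ?_
    have heX : e ∈ Y := by rw [hYE]; exact he
    have hce : cm x e ∈ K ⊓ φ.ker := ⟨hXK.comm_mem hx heX.1, by
      rw [hker]; exact cm_mem_of_normalize (fun f hf => Subgroup.Normal.conj_mem inferInstance f hf x) he⟩
    rw [hKb, Subgroup.mem_bot] at hce
    exact (cm_eq_one.mp hce).symm
  have := Subgroup.card_le_of_le hXE
  have : 0 < Nat.card K := Nat.card_pos
  omega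

namespace Setting

variable {A E : Subgroup S} (h : Setting A E)
include h

theorem card_fixed_eight (h8 : Nat.card E = 8) {a : S} (ha : a ∈ A) (haE : a ∉ E) :
    Nat.card (E ⊓ Subgroup.centralizer {a} : Subgroup S) = 4 ∧
      Nat.card (cmImg E h.hE a (h.norm a)) = 2 := by
  have h1 := card_cmImg E h.hE a (h.norm a)
  have h2 := h.fixed_le_four ha haE
  have h3 := Subgroup.card_le_of_le (cmImg_le_fixed (h.hA.sq a ha) :
    cmImg E h.hE a (h.norm a) ≤ E ⊓ Subgroup.centralizer {a})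
  rw [h8] at h1
  generalize Nat.card (E ⊓ Subgroup.centralizer {a} : Subgroup S) = F at h1 h2 h3
  generalize Nat.card (cmImg E h.hE a (h.norm a)) = I at h1 h3
  interval_cases F <;> omega

omit [Finite S] in
theorem cm_congr {a v e : S} (hva : v * a⁻¹ ∈ E) (he : e ∈ E) : cm v e = cm a e := by
  have e1 : v = (v * a⁻¹) * a := by group
  have hc := h.hE.comm _ hva _ (h.norm a e he)
  calc cm v e = (v * a⁻¹) * (a * e * a⁻¹) * (v * a⁻¹)⁻¹ * e⁻¹ := by simp only [cm]; group
    _ = cm a e := by rw [hc, mul_inv_cancel_right]; rfl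

/-- The bound when `|E| = 8` and `A ⊓ E` has order two. -/
theorem card_le_eight_two (hmax : ∀ F : Subgroup S, F.Normal → Elem F → Nat.card F ≤ 8)
    (h8 : Nat.card E = 8) (h2 : Nat.card (A ⊓ E : Subgroup S) = 2) {X K : Subgroup S}
    (hXK : SqLE X K) : Nat.card X ≤ 16 * Nat.card K := by
  obtain ⟨a, ha, haE⟩ := h.exists_outside fun e => by
    rw [e, inf_idem, h8] at h2; omega
  set Z := A ⊓ E
  have himg : ∀ v ∈ A, v ∉ E → cmImg E h.hE v (h.norm v) = Z := by
    intro v hv hvE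
    obtain ⟨b, hb, hbE, hvbE⟩ := h.exists_second h2 hv
    have h1 := (h.card_fixed_eight h8 hv hvE).2
    set I := cmImg E h.hE v (h.norm v) with hI
    refine Subgroup.eq_of_le_of_card_ge (fun x hx => ?_) (by rw [h1, h2])
    by_cases hx1 : x = 1
    · rw [hx1]; exact Z.one_mem
    have hx' := cmImg_le_fixed (h.hA.sq v hv) hx
    have hinv : b * x * b⁻¹ ∈ I := by
      obtain ⟨e, he, rfl⟩ := mem_cmImg.mp hx
      rw [hI, mem_cmImg]
      refine ⟨b * e * b⁻¹, h.norm b e he, ?_⟩
      have hc : Commute b v := h.hA.comm b hb v hv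
      calc cm v (b * e * b⁻¹) = (v * b) * e * (v * b)⁻¹ * (b * e⁻¹ * b⁻¹) := by
            simp only [cm]; group
        _ = (b * v) * e * (b * v)⁻¹ * (b * e⁻¹ * b⁻¹) := by rw [hc.eq]
        _ = _ := by simp only [cm]; group
    obtain ⟨y, -, hy⟩ := (Nat.card_eq_two_iff' (1 : I)).mp h1
    have hbx : b * x * b⁻¹ ≠ 1 := fun e => hx1 (conj_eq_one_iff.mp e)
    have e := (hy ⟨_, hinv⟩ (fun e => hbx (congrArg Subtype.val e :))).trans
      (hy ⟨x, hx⟩ (fun e => hx1 (congrArg Subtype.val e :))).symm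
    exact h.mem_inf_two h2 hv hvE hb hbE hvbE hx'.1
      (Subgroup.mem_centralizer_singleton_iff.mp hx'.2).symm
      (mul_inv_eq_iff_eq_mul.mp (congrArg Subtype.val e :))
  have hT : ∀ v ∈ A, v ∉ E → ∀ e ∈ E, cm v e ∈ Z := fun v hv hvE e he =>
    himg v hv hvE ▸ mem_cmImg.mpr ⟨e, he, rfl⟩
  have hkill : ∀ v ∈ A, v ∉ E → ∀ d ∈ Subgroup.centralizer (E : Set S),
      (∀ w ∈ A, cm w d ∈ E) → cm v d ∈ Z → d ∈ E := by
    intro v hv hvE d hd hall hvd
    obtain ⟨b, hb, hbE, hvbE⟩ := h.exists_second h2 hv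
    obtain ⟨e, he, hed⟩ := h.mem_sup_two h2 hv hvE hb hbE hvbE ((himg v hv hvE).symm ▸ hvd)
      (hall b hb) (fun l hl => Subgroup.mem_centralizer_iff.mp hd l hl.2)
    exact (E.mul_mem_cancel_left he).mp (h.inf_centralizer hed
      ((Subgroup.centralizer (E : Set S)).mul_mem (h.le_centralizer he) hd))
  have hsq : ∀ d ∈ Subgroup.centralizer (E : Set S), d ∉ E → d * d ∈ E → (∀ g, cm g d ∈ E) →
      d * d ∈ Z := fun d hd _ hdd hdc => ⟨h.center_mem (h.sq_central hd hdc), hdd⟩
  obtain ⟨h16, hcen⟩ := h.card_centralizer_le h8 Z h2 hT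
    (fun v hv hvE => himg v hv hvE ▸ cmImg_le_fixed (h.hA.sq v hv)) hkill hsq ha haE
  refine h.card_le_tail h8 h16 Z h2 inf_le_right (hT a ha haE) (fun d hd hdE => ?_) hXK
  have hdc := hcen d hd hdE
  have hdd : d * d ∈ E := by
    by_contra hdd
    have := h.card_centralizer_le h8 Z h2 hT
      (fun v hv hvE => himg v hv hvE ▸ cmImg_le_fixed (h.hA.sq v hv)) hkill hsq ha haE
    -- all elements outside `E` form one coset
    have hD2 : Nat.card (Subgroup.centralizer (E : Set S)) ≤ 16 := this.1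
    set D := Subgroup.centralizer (E : Set S)
    have hidx : (E.subgroupOf D).index = 2 := by
      have hm := (E.subgroupOf D).card_mul_index
      rw [Nat.card_congr (Subgroup.subgroupOfEquivOfLe h.le_centralizer).toEquiv, h8] at hm
      have h1 : (E.subgroupOf D).index ≠ 1 := fun e => hdE (Subgroup.mem_subgroupOf.mp
        (Subgroup.index_eq_one.mp e ▸ Subgroup.mem_top (⟨d, hd⟩ : D)))
      have : 0 < (E.subgroupOf D).index := Nat.pos_of_ne_zero Subgroup.index_ne_zero_of_finite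
      omega
    exact hdd (Subgroup.mem_subgroupOf.mp (Subgroup.mul_self_mem_of_index_two hidx (⟨d, hd⟩ : D)))
  exact ⟨hsq d hd hdE hdd hdc, h.sq_ne_one hmax h8 hd hdE hdd hdc, hdc a,
    fun e => hdE (hkill a ha haE d hd (fun w _ => hdc w) e)⟩

/-- The bound when `|E| = 8` and `A ⊓ E` has order four. -/
theorem card_le_eight_four (hmax : ∀ F : Subgroup S, F.Normal → Elem F → Nat.card F ≤ 8)
    (h8 : Nat.card E = 8) (h4 : Nat.card (A ⊓ E : Subgroup S) = 4) {X K : Subgroup S}
    (hXK : SqLE X K) : Nat.card X ≤ 16 * Nat.card K := by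
  classical
  haveI : Fact (Nat.Prime 2) := ⟨Nat.prime_two⟩
  haveI := h.normal
  obtain ⟨a, ha, haE⟩ := h.exists_outside fun e => by
    rw [e, inf_idem, h8] at h4; omega
  set D := Subgroup.centralizer (E : Set S) with hD
  set f := QuotientGroup.mk' E with hf
  set L := A ⊓ E with hL
  have hLfix : E ⊓ Subgroup.centralizer {a} = L := h.fixed_four h4 ha haE
  set Z := cmImg E h.hE a (h.norm a) with hZdef
  have hZ : Nat.card Z = 2 := (h.card_fixed_eight h8 ha haE).2
  have hZL : Z ≤ L := hLfix ▸ cmImg_le_fixed (h.hA.sq a ha)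
  have hZidx : (Z.subgroupOf L).index = 2 := by
    have hm := (Z.subgroupOf L).card_mul_index
    rw [Nat.card_congr (Subgroup.subgroupOfEquivOfLe hZL).toEquiv, hZ, h4] at hm
    omega
  have hZmul : ∀ x ∈ L, x ∉ Z → ∀ y ∈ L, y ∉ Z → x * y ∈ Z := fun x hx hxZ y hy hyZ =>
    Subgroup.mem_subgroupOf.mp ((Subgroup.mul_mem_iff_of_index_two hZidx
      (a := ⟨x, hx⟩) (b := ⟨y, hy⟩)).mpr
      ⟨fun e => absurd (Subgroup.mem_subgroupOf.mp e) hxZ,
        fun e => absurd (Subgroup.mem_subgroupOf.mp e) hyZ⟩)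
  have hmod : ∀ v ∈ A, v ∉ E → v * a⁻¹ ∈ E := by
    intro v hv hvE
    by_contra hne
    have hva : Nat.card (A.map f) = 2 := by
      have : Nat.card (A ⊓ E : Subgroup S) * Nat.card (A.map f) = 8 := h.card_map_mk
      rw [← hL, h4] at this
      omega
    obtain ⟨y, -, hy⟩ := (Nat.card_eq_two_iff' (1 : A.map f)).mp hva
    have e := (hy ⟨f v, v, hv, rfl⟩
        (fun e => hvE ((QuotientGroup.eq_one_iff v).mp (congrArg Subtype.val e :)))).trans
      (hy ⟨f a, a, ha, rfl⟩
        (fun e => haE ((QuotientGroup.eq_one_iff a).mp (congrArg Subtype.val e :)))).symm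
    apply hne
    apply (QuotientGroup.eq_one_iff _).mp
    show f (v * a⁻¹) = 1
    rw [map_mul, map_inv, show f v = f a from congrArg Subtype.val e, mul_inv_cancel]
  have hT : ∀ v ∈ A, v ∉ E → ∀ e ∈ E, cm v e ∈ Z := fun v hv hvE e he => by
    rw [h.cm_congr (hmod v hv hvE) he]
    exact mem_cmImg.mpr ⟨e, he, rfl⟩
  have hfixZ : ∀ v ∈ A, v ∉ E → Z ≤ E ⊓ Subgroup.centralizer {v} := fun v hv hvE => by
    rw [h.fixed_four h4 hv hvE]; exact hZL
  have hZimg : ∀ v ∈ A, v ∉ E → ∀ x ∈ Z, x ∈ cmImg E h.hE v (h.norm v) := by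
    intro v hv hvE x hx
    obtain ⟨e, he, rfl⟩ := mem_cmImg.mp hx
    exact mem_cmImg.mpr ⟨e, he, h.cm_congr (hmod v hv hvE) he⟩
  have hkill : ∀ v ∈ A, v ∉ E → ∀ d ∈ D, (∀ w ∈ A, cm w d ∈ E) → cm v d ∈ Z → d ∈ E := by
    intro v hv hvE d hd _ hvd
    obtain ⟨e, he, hed⟩ := h.mem_sup_four h4 hv hvE (hZimg v hv hvE _ hvd)
      (fun l hl => Subgroup.mem_centralizer_iff.mp hd l hl.2)
    exact (E.mul_mem_cancel_left he).mp (h.inf_centralizer hed (D.mul_mem (h.le_centralizer he) hd))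
  by_cases hmov : ∃ g : S, cm a g ∈ E ∧ ∃ l ∈ L, l * g ≠ g * l
  · -- some element moves `L`
    obtain ⟨g, hg, l, hl, hlg⟩ := hmov
    obtain ⟨⟨z, hzZ⟩, hz1, hzu⟩ := (Nat.card_eq_two_iff' (1 : Z)).mp hZ
    have hz1' : z ≠ 1 := fun e => hz1 (Subtype.ext e)
    have hgz : g * z = z * g := by
      obtain ⟨e, he, hez⟩ := mem_cmImg.mp hzZ
      have hga : g * a * g⁻¹ = (cm a g)⁻¹ * a := by simp only [cm]; group
      have hin : g * z * g⁻¹ ∈ Z := by
        have he' : g * e * g⁻¹ ∈ E := h.norm g e he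
        have e1 : g * z * g⁻¹ = cm (g * a * g⁻¹) (g * e * g⁻¹) := by
          rw [← hez]; simp only [cm]; group
        rw [e1, h.cm_congr (a := a) (by
          rw [hga, mul_inv_cancel_right]; exact E.inv_mem hg) he']
        exact mem_cmImg.mpr ⟨_, he', rfl⟩
      have hne : g * z * g⁻¹ ≠ 1 := fun e' => hz1' (conj_eq_one_iff.mp e')
      have := (hzu ⟨_, hin⟩ (fun e' => hne (congrArg Subtype.val e' :))).trans
        (hzu ⟨z, hzZ⟩ hz1).symm
      exact mul_inv_eq_iff_eq_mul.mp (congrArg Subtype.val this :)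
    have hsq : ∀ d ∈ D, d ∉ E → d * d ∈ E → (∀ g, cm g d ∈ E) → d * d ∈ Z := by
      intro d hd _ hdd hdc
      have hdL : d * d ∈ L := ⟨h.center_mem (h.sq_central hd hdc), hdd⟩
      by_contra hdZ
      have hlZ : l ∉ Z := fun hlZ => hlg (by
        by_cases hl1 : l = 1
        · rw [hl1, one_mul, mul_one]
        · have := (hzu ⟨l, hlZ⟩ (fun e => hl1 (congrArg Subtype.val e :))).trans
            (hzu ⟨z, hzZ⟩ hz1).symm
          rw [show l = z from congrArg Subtype.val this]
          exact hgz.symm)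
      have hprod := hZmul l hl hlZ (d * d) hdL hdZ
      apply hlg
      have hc1 : Commute g (l * (d * d)) := by
        by_cases h1 : l * (d * d) = 1
        · rw [h1]; exact Commute.one_right g
        · have := (hzu ⟨_, hprod⟩ (fun e => h1 (congrArg Subtype.val e :))).trans
            (hzu ⟨z, hzZ⟩ hz1).symm
          rw [show l * (d * d) = z from congrArg Subtype.val this]
          exact hgz
      have hc2 : Commute g (d * d) := h.sq_central hd hdc g
      have := (hc1.mul_right hc2.inv_right).eq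
      rw [mul_inv_cancel_right] at this
      exact this.symm
    obtain ⟨h16, hcen⟩ := h.card_centralizer_le h8 Z hZ hT hfixZ hkill hsq ha haE
    rw [← hD] at h16
    refine h.card_le_tail h8 h16 Z hZ cmImg_le
      (fun e he => mem_cmImg.mpr ⟨e, he, rfl⟩) (fun d hd hdE => ?_) hXK
    have hdc := hcen d hd hdE
    have hidx : (E.subgroupOf D).index = 2 := by
      have hm := (E.subgroupOf D).card_mul_index
      rw [Nat.card_congr (Subgroup.subgroupOfEquivOfLe h.le_centralizer).toEquiv, h8] at hm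
      have h1 : (E.subgroupOf D).index ≠ 1 := fun e => hdE (Subgroup.mem_subgroupOf.mp
        (Subgroup.index_eq_one.mp e ▸ Subgroup.mem_top (⟨d, hd⟩ : D)))
      have : 0 < (E.subgroupOf D).index := Nat.pos_of_ne_zero Subgroup.index_ne_zero_of_finite
      omega
    have hdd : d * d ∈ E :=
      Subgroup.mem_subgroupOf.mp (Subgroup.mul_self_mem_of_index_two hidx (⟨d, hd⟩ : D))
    exact ⟨hsq d hd hdE hdd hdc, h.sq_ne_one hmax h8 hd hdE hdd hdc, hdc a,
      fun e => hdE (hkill a ha haE d hd (fun w _ => hdc w) e)⟩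
  -- every element centralising `a` modulo `E` fixes `L`
  push_neg at hmov
  have hker : f.ker = E := QuotientGroup.ker_mk' E
  have hQ := h.pgroup.to_quotient E
  have hAf : Nat.card (A.map f) = 2 := by
    have : Nat.card (A ⊓ E : Subgroup S) * Nat.card (A.map f) = 8 := h.card_map_mk
    rw [← hL, h4] at this
    omega
  have hcm : ∀ s : S, f s * f a = f a * f s → cm a s ∈ E := fun s hs => by
    apply (QuotientGroup.eq_one_iff _).mp
    show f (cm a s) = 1
    simp only [cm, map_mul, map_inv, ← hs]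
    group
  have hin : ∀ s : S, cm a s ∈ Z → f s ∈ A.map f := by
    intro s hs
    obtain ⟨e, he, hes⟩ := h.mem_sup_four h4 ha haE hs (hmov s (cmImg_le hs))
    exact ⟨e * s, hes, by rw [map_mul, show f e = 1 from (QuotientGroup.eq_one_iff e).mpr he,
      one_mul]⟩
  have ht : Nat.card (Subgroup.centralizer ({f a} : Set (S ⧸ E))) ≤ 4 := by
    refine le_trans (card_le_two_mul_of_mul_mem _ (A.map f) ?_) (by rw [hAf])
    intro q hq hqn r hr hrn
    obtain ⟨s, rfl⟩ := QuotientGroup.mk'_surjective E q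
    obtain ⟨t, rfl⟩ := QuotientGroup.mk'_surjective E r
    have hs := hcm s (Subgroup.mem_centralizer_singleton_iff.mp hq)
    have ht := hcm t (Subgroup.mem_centralizer_singleton_iff.mp hr)
    have hsL : cm a s ∈ L := hLfix ▸ h.fixed_mem ha hs
    have htL : cm a t ∈ L := hLfix ▸ h.fixed_mem ha ht
    have hsZ : cm a s ∉ Z := fun e => hqn (hin s e)
    have htZ : cm a t ∉ Z := fun e => hrn (hin t e)
    rw [← map_mul]
    refine hin (s * t) ?_
    rw [cm_mul_right, ← hmov s hs _ htL, mul_inv_cancel_right]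
    exact hZmul _ hsL hsZ _ htL htZ
  have hr2 := card_le_four_mul hQ (f a) ht (hXK.map f)
  have hY8 : Nat.card (X ⊓ f.ker : Subgroup S) ≤ 8 :=
    h8 ▸ Subgroup.card_le_of_le (inf_le_right.trans hker.le)
  have hK0 : 0 < Nat.card (K ⊓ f.ker : Subgroup S) := Nat.card_pos
  rcases Nat.lt_or_ge (Nat.card (X.map f)) (4 * Nat.card (K.map f)) with hsmall | hbig
  · exact (card_le_split f (a := 8) (by omega)
      (le_of_lt_two_mul hQ (X.map f) (K.map f) 1 hsmall)).trans (by norm_num)
  refine (card_le_split f (a := 4) ?_ hr2).trans (by norm_num)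
  by_contra hgt
  have hYE : X ⊓ f.ker = E := by
    refine Subgroup.eq_of_le_of_card_ge (inf_le_right.trans hker.le) ?_
    obtain ⟨m, hm⟩ := exists_two_pow h.pgroup (X ⊓ f.ker)
    rw [hm] at hgt
    rw [h8, hm]
    have : 3 ≤ m := by
      by_contra hc
      have : 2 ^ m ≤ 2 ^ 2 := Nat.pow_le_pow_right (by norm_num) (by omega)
      omega
    exact le_of_eq_of_le (by norm_num) (Nat.pow_le_pow_right (by norm_num : 0 < 2) this)
  have hKb : K ⊓ f.ker = ⊥ := Subgroup.eq_bot_of_card_le (K ⊓ f.ker) (by omega)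
  have hEX : ∀ e ∈ E, e ∈ X ⊓ f.ker := fun e he => by rw [hYE]; exact he
  have hXD : X ≤ D := fun x hx => by
    refine Subgroup.mem_centralizer_iff.mpr fun e he => ?_
    have hce : cm x e ∈ K ⊓ f.ker :=
      ⟨hXK.comm_mem hx (hEX e he).1, by rw [hker]; exact h.cm_mem x he⟩
    rw [hKb, Subgroup.mem_bot] at hce
    exact (cm_eq_one.mp hce).symm
  have hDE : ¬ D ≤ E := fun hle => by
    have e : X.map f = ⊥ := (Subgroup.map_eq_bot_iff _).mpr (by rw [hker]; exact hXD.trans hle)
    rw [e, Subgroup.card_bot] at hbig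
    have : 0 < Nat.card (K.map f) := Nat.card_pos
    omega
  haveI : D.Normal := by rw [hD]; infer_instance
  obtain ⟨d, hd, hdE, hdd, hdc⟩ := exists_central_mod h.pgroup E D hDE
  have hzc : ∀ q, q * f d = f d * q := by
    intro q
    obtain ⟨g, rfl⟩ := QuotientGroup.mk'_surjective E q
    have : f (cm g d) = 1 := (QuotientGroup.eq_one_iff _).mpr (hdc g)
    simp only [cm, map_mul, map_inv] at this
    exact mul_inv_eq_iff_eq_mul.mp (mul_inv_eq_one.mp this)
  obtain ⟨x, hx, hxd⟩ := mem_of_four_mul hQ (f a) ht (hXK.map f) hbig hzc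
    (by rw [← map_mul]; exact (QuotientGroup.eq_one_iff _).mpr hdd)
  have hxd' : x * d⁻¹ ∈ E := by
    apply (QuotientGroup.eq_one_iff _).mp
    show f (x * d⁻¹) = 1
    rw [map_mul, map_inv, hxd, mul_inv_cancel]
  have hdX : d ∈ X := by
    have := X.mul_mem (X.inv_mem (hEX _ hxd').1) hx
    rwa [mul_inv_rev, inv_inv, inv_mul_cancel_right] at this
  have hmem : d * d ∈ K ⊓ f.ker := ⟨hXK.2 d hdX, by rw [hker]; exact hdd⟩
  rw [hKb, Subgroup.mem_bot] at hmem
  exact h.sq_ne_one hmax h8 hd hdE hdd hdc hmem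

end Setting

/-- Harada's theorem. -/
theorem card_le_of_selfCentralizing (hS : IsPGroup 2 S) (A : Subgroup S) (hA : Elem A)
    (hA8 : Nat.card A = 8) (hC : Subgroup.centralizer (A : Set S) = A) {X K : Subgroup S}
    (hXK : SqLE X K) : Nat.card X ≤ 16 * Nat.card K := by
  haveI : Fact (Nat.Prime 2) := ⟨Nat.prime_two⟩
  by_cases hno : NoEight S
  · exact card_le_of_noEight hS hno hXK
  have hmk : ∀ F : Subgroup S, IsMulCommutative F → (∀ x ∈ F, x ^ 2 = 1) → Elem F := fun F hc hs =>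
    ⟨fun x hx y hy => congrArg Subtype.val (hc.is_comm.comm (⟨x, hx⟩ : F) ⟨y, hy⟩),
      fun x hx => by rw [← pow_two]; exact hs x hx⟩
  simp only [NoEight, not_forall, not_le] at hno
  obtain ⟨E0, hE0n, hE0c, hE0s, hE04⟩ := hno
  -- a maximal one
  obtain ⟨E, ⟨hEn, hEe⟩, hEmax⟩ := Set.Finite.exists_maximalFor (fun F : Subgroup S => Nat.card F)
    {F : Subgroup S | F.Normal ∧ Elem F} (Set.toFinite _) ⟨E0, hE0n, hmk E0 hE0c hE0s⟩
  have hge : Nat.card E0 ≤ Nat.card E := by
    by_contra hc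
    exact hc (hEmax ⟨hE0n, hmk E0 hE0c hE0s⟩ (le_of_lt (not_le.mp hc)))
  have hmax : ∀ F : Subgroup S, F.Normal → Elem F → Nat.card F ≤ Nat.card E := by
    intro F hFn hFe
    by_contra hc
    exact hc (hEmax ⟨hFn, hFe⟩ (le_of_lt (not_le.mp hc)))
  obtain ⟨m, hm⟩ := exists_two_pow hS E
  have hE8 : 8 ≤ Nat.card E := by
    rw [hm]
    have : 3 ≤ m := by
      by_contra hc
      have : 2 ^ m ≤ 2 ^ 2 := Nat.pow_le_pow_right (by norm_num) (by omega)
      omega
    exact le_of_eq_of_le (by norm_num) (Nat.pow_le_pow_right (by norm_num : 0 < 2) this)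
  have h : Setting A E := ⟨hS, hA, hA8, hC, hEn, hEe, hE8⟩
  haveI := hEn
  by_cases hAE : A = E
  · exact card_le_normal hS hEe (hAE ▸ hA8) (by rw [← hAE]; exact hC) hXK
  obtain ⟨a, ha, haE⟩ := h.exists_outside hAE
  have hle := h.cardE_le ha haE
  by_cases h16 : Nat.card E = 16
  · exact h.card_le_sixteen_case h16 hXK
  have h8 : Nat.card E = 8 := by
    rw [hm] at hE8 hle h16 ⊢
    have hm4 : m ≤ 4 := (Nat.pow_le_pow_iff_right (by norm_num)).mp (hle.trans_eq (by norm_num))
    interval_cases m <;> simp_all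
  have hmax' : ∀ F : Subgroup S, F.Normal → Elem F → Nat.card F ≤ 8 := h8 ▸ hmax
  rcases h.card_inf with h2 | h4 | hAE'
  · exact h.card_le_eight_two hmax' h8 h2 hXK
  · exact h.card_le_eight_four hmax' h8 h4 hXK
  · exact absurd hAE' hAE

end CfsgLib.TwoRank
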