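import Cfsg.Agent.Lib.TwoRank.Basic
import Cfsg.Agent.Lib.Critical.Basic

/-!
2-groups with an element whose centraliser has order at most four: they have a cyclic subgroup of
index at most two, so their subgroups need at most two generators.
-/

set_option autoImplicit false

namespace CfsgLib.TwoRank

universe u

/-- A cyclic subgroup of index at most two, unless the order is at most four. -/
theorem exists_cyclic_half {G : Type u} [Group G] [Finite G] (hG : IsPGroup 2 G) (t : G)
    (ht : Nat.card (Subgroup.centralizer ({t} : Set G)) ≤ 4) :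
    Nat.card G ≤ 4 ∨ ∃ u : G, Nat.card G ≤ 2 * orderOf u := by
  suffices H : ∀ (n : ℕ) (G : Type u) [Group G] [Finite G], Nat.card G ≤ n → IsPGroup 2 G →
      ∀ t : G, Nat.card (Subgroup.centralizer ({t} : Set G)) ≤ 4 →
      Nat.card G ≤ 4 ∨ ∃ u : G, Nat.card G ≤ 2 * orderOf u from H _ G le_rfl hG t ht
  intro n
  induction n with
  | zero => intro G _ _ hn; exact absurd hn (not_le.mpr Nat.card_pos)
  | succ n ih =>
    intro G _ _ hn hG t ht
    haveI : Fact (Nat.Prime 2) := ⟨Nat.prime_two⟩
    by_cases h4 : Nat.card G ≤ 4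
    · exact Or.inl h4
    right
    haveI := hG.isNilpotent
    obtain ⟨k, hk⟩ := IsPGroup.iff_card.mp hG
    have hk3 : 3 ≤ k := by
      by_contra hc
      have : 2 ^ k ≤ 2 ^ 2 := Nat.pow_le_pow_right (by norm_num) (by omega)
      omega
    have hnotc : ∃ g, g * t ≠ t * g := by
      by_contra hc
      push_neg at hc
      have e : Subgroup.centralizer ({t} : Set G) = ⊤ :=
        eq_top_iff.mpr fun g _ => Subgroup.mem_centralizer_singleton_iff.mpr (hc g)
      rw [e, Subgroup.card_top] at ht
      exact h4 ht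
    by_cases hk4 : k = 3
    · -- order eight: not of exponent two
      obtain ⟨g, hg⟩ : ∃ g : G, g * g ≠ 1 := by
        by_contra hc
        push_neg at hc
        obtain ⟨g, hg⟩ := hnotc
        have h1 := inv_eq_of_mul_eq_one_right (hc (g * t))
        rw [mul_inv_rev, inv_eq_of_mul_eq_one_right (hc g), inv_eq_of_mul_eq_one_right (hc t)] at h1
        exact hg h1.symm
      obtain ⟨m, hm⟩ := IsPGroup.iff_orderOf.mp hG g
      refine ⟨g, ?_⟩
      have hm2 : 2 ≤ m := by
        by_contra hc
        apply hg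
        rw [← pow_two, ← orderOf_dvd_iff_pow_eq_one, hm]
        exact pow_dvd_pow 2 (show m ≤ 1 by omega) |>.trans (by norm_num)
      have : 2 ^ 2 ≤ 2 ^ m := Nat.pow_le_pow_right (by norm_num) hm2
      rw [hk, hk4, hm]
      omega
    -- a central involution
    haveI : Nontrivial G := Finite.one_lt_card_iff_nontrivial.mp (by omega)
    have hcne : Subgroup.center G ≠ ⊥ := hG.bot_lt_center.ne'
    obtain ⟨⟨z, hzc⟩, hz⟩ := exists_prime_orderOf_dvd_card' 2
      ((hG.to_subgroup (Subgroup.center G)).card_eq_or_dvd.resolve_left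
        (fun e => hcne (Subgroup.eq_bot_of_card_eq _ e)))
    have hzo : orderOf z = 2 := by rw [← hz, Subgroup.orderOf_mk]
    have hz2 : z * z = 1 := by rw [← pow_two, ← hzo, pow_orderOf_eq_one]
    have hz1 : z ≠ 1 := fun e => by rw [e, orderOf_one] at hzo; omega
    have hzc' : ∀ g : G, g * z = z * g := fun g => Subgroup.mem_center_iff.mp hzc g
    set Z := Subgroup.zpowers z with hZdef
    haveI hZn : Z.Normal := ⟨fun w hw g => by
      obtain ⟨i, rfl⟩ := hw
      exact ⟨i, by rw [((show Commute g z from hzc' g).zpow_right i).eq, mul_inv_cancel_right]⟩⟩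
    have hZ2 : Nat.card Z = 2 := by rw [hZdef, Nat.card_zpowers, hzo]
    set f := QuotientGroup.mk' Z
    have hQ : Nat.card G = Nat.card (G ⧸ Z) * 2 := by
      rw [← hZ2]; exact Subgroup.card_eq_card_quotient_mul_card_subgroup Z
    have hQp : IsPGroup 2 (G ⧸ Z) := hG.to_quotient Z
    have hCQ : Nat.card (Subgroup.centralizer ({f t} : Set (G ⧸ Z))) ≤ 4 := by
      set P' := (Subgroup.centralizer ({f t} : Set (G ⧸ Z))).comap f with hP'
      have hsplit := card_split f P'
      have hker : P' ⊓ f.ker = Z := by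
        rw [QuotientGroup.ker_mk']
        exact inf_eq_right.mpr fun w hw => Subgroup.mem_comap.mpr (by
          rw [show f w = 1 from (QuotientGroup.eq_one_iff w).mpr hw]; exact one_mem _)
      rw [hker, hZ2, Subgroup.map_comap_eq_self_of_surjective (QuotientGroup.mk'_surjective Z)]
        at hsplit
      have hmem : ∀ g : P', (g : G) * t * (g : G)⁻¹ * t⁻¹ ∈ Z := fun g => by
        have h := Subgroup.mem_centralizer_singleton_iff.mp (Subgroup.mem_comap.mp g.2)
        apply (QuotientGroup.eq_one_iff _).mp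
        show f _ = 1
        rw [map_mul, map_mul, map_mul, map_inv, map_inv, h]
        group
      -- an injection of `P'` into `Z` times the centraliser
      classical
      let r : Z → G := fun w => if h : ∃ g : P', (g : G) * t * (g : G)⁻¹ * t⁻¹ = w
        then (h.choose : G) else 1
      have hr : ∀ g : P', r ⟨_, hmem g⟩ * t * (r ⟨_, hmem g⟩)⁻¹ * t⁻¹ =
          (g : G) * t * (g : G)⁻¹ * t⁻¹ := by
        intro g
        have h : ∃ g' : P', (g' : G) * t * (g' : G)⁻¹ * t⁻¹ = (g : G) * t * (g : G)⁻¹ * t⁻¹ :=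
          ⟨g, rfl⟩
        simp only [r, dif_pos h]
        exact h.choose_spec
      have hle := Nat.card_le_card_of_injective
        (fun g : P' => ((⟨(r ⟨_, hmem g⟩)⁻¹ * g, by
          have h := mul_right_cancel (hr g)
          rw [Subgroup.mem_centralizer_singleton_iff, mul_assoc, inv_mul_eq_iff_eq_mul]
          calc (g : G) * t = ((g : G) * t * (g : G)⁻¹) * g := by group
            _ = (r ⟨_, hmem g⟩ * t * (r ⟨_, hmem g⟩)⁻¹) * g := by rw [h]
            _ = _ := by group⟩ : Subgroup.centralizer ({t} : Set G)),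
            (⟨_, hmem g⟩ : Z)))
        (fun g g' e => by
          have e2 : (⟨_, hmem g⟩ : Z) = ⟨_, hmem g'⟩ := congrArg Prod.snd e
          have e1 := congrArg (fun p : Subgroup.centralizer ({t} : Set G) × Z => (p.1 : G)) e
          simp only [e2] at e1
          exact Subtype.ext (mul_left_cancel e1))
      rw [Nat.card_prod, hZ2] at hle
      omega
    have hQbig : ¬ Nat.card (G ⧸ Z) ≤ 4 := by
      have : 2 ^ 4 ≤ 2 ^ k := Nat.pow_le_pow_right (by norm_num) (by omega)
      omega
    obtain ⟨uq, hu⟩ := (ih (G ⧸ Z) (by omega) hQp (f t) hCQ).resolve_left hQbig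
    obtain ⟨u, rfl⟩ := QuotientGroup.mk'_surjective Z uq
    refine ⟨u, ?_⟩
    have hdvd : orderOf (f u) ∣ orderOf u := orderOf_map_dvd f u
    obtain ⟨m, hm⟩ := IsPGroup.iff_orderOf.mp hQp (f u)
    obtain ⟨m', hm'⟩ := IsPGroup.iff_orderOf.mp hG u
    rw [hm, hm', Nat.pow_dvd_pow_iff_le_right (by norm_num)] at hdvd
    have hm2 : 2 ≤ m := by
      by_contra hc
      have : 2 ^ m ≤ 2 ^ 1 := Nat.pow_le_pow_right (by norm_num) (by omega)
      have : 2 ^ 4 ≤ 2 ^ k := Nat.pow_le_pow_right (by norm_num) (by omega)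
      rw [hm] at hu
      omega
    by_cases hlt : m < m'
    · have : 2 ^ (m + 1) ≤ 2 ^ m' := Nat.pow_le_pow_right (by norm_num) (by omega)
      rw [pow_succ] at this
      rw [hm'] ; rw [hm] at hu
      omega
    exfalso
    have hmm : m' = m := by omega
    rw [hmm] at hm' hlt
    -- `u` and `z` generate an abelian subgroup of index two
    set U := Subgroup.zpowers u ⊔ Z with hU
    have hzu : z ∉ Subgroup.zpowers u := by
      rintro ⟨i, hi⟩
      change u ^ i = z at hi
      have h1 : f u ^ i = 1 := by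
        rw [← map_zpow, hi]
        exact (QuotientGroup.eq_one_iff z).mpr (Subgroup.mem_zpowers z)
      rw [← orderOf_dvd_iff_zpow_eq_one, hm, ← hm', orderOf_dvd_iff_zpow_eq_one, hi] at h1
      exact hz1 h1
    have hUcard : Nat.card U = Nat.card (Subgroup.zpowers (f u)) * 2 := by
      rw [card_split f U, QuotientGroup.ker_mk', inf_eq_right.mpr le_sup_right, hZ2, hU,
        Subgroup.map_sup, MonoidHom.map_zpowers,
        (Subgroup.map_eq_bot_iff _).mpr (QuotientGroup.ker_mk' Z).ge, sup_bot_eq, mul_comm]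
    rw [Nat.card_zpowers, hm] at hUcard
    have hUc : ∀ a ∈ U, ∀ b ∈ U, b * a = a * b := by
      have hle : U ≤ Subgroup.centralizer (U : Set G) := by
        refine sup_le ?_ fun w hw => Subgroup.mem_centralizer_iff.mpr fun b _ => ?_
        · refine Subgroup.zpowers_le.mpr (Subgroup.mem_centralizer_iff.mpr fun b hb => ?_)
          have hle' : U ≤ Subgroup.centralizer ({u} : Set G) := sup_le
            (Subgroup.zpowers_le.mpr (Subgroup.mem_centralizer_singleton_iff.mpr rfl))
            (Subgroup.zpowers_le.mpr (Subgroup.mem_centralizer_singleton_iff.mpr (hzc' u).symm))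
          exact Subgroup.mem_centralizer_singleton_iff.mp (hle' hb)
        · obtain ⟨i, rfl⟩ := hw
          exact ((show Commute b z from hzc' b).zpow_right i).eq
      exact fun a ha b hb => Subgroup.mem_centralizer_iff.mp (hle ha) b hb
    have htU : t ∉ U := fun h => by
      have := Subgroup.card_le_of_le (show U ≤ Subgroup.centralizer ({t} : Set G) from
        fun a ha => Subgroup.mem_centralizer_singleton_iff.mpr (hUc t h a ha))
      have : 2 ^ 2 ≤ 2 ^ m := Nat.pow_le_pow_right (by norm_num) hm2
      omega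
    have hUidx : U.index = 2 := by
      have hmul := U.card_mul_index
      rw [hUcard, hQ] at hmul
      rw [hm] at hu
      have hne1 : U.index ≠ 1 := fun e => htU (Subgroup.index_eq_one.mp e ▸ Subgroup.mem_top t)
      have hpos : 0 < U.index := Nat.pos_of_ne_zero Subgroup.index_ne_zero_of_finite
      have hpm : 0 < 2 ^ m := Nat.two_pow_pos m
      by_contra hne
      have : 3 ≤ U.index := by omega
      nlinarith
    haveI := Subgroup.normal_of_index_eq_two hUidx
    set w := u ^ 2 ^ (m - 1) with hw
    have hw2 : w * w = 1 := by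
      rw [hw, ← pow_add, ← two_mul, ← pow_succ', Nat.sub_add_cancel (by omega : 1 ≤ m), ← hm',
        pow_orderOf_eq_one]
    have hw1 : w ≠ 1 := fun e => by
      have := orderOf_dvd_of_pow_eq_one e
      rw [hm', Nat.pow_dvd_pow_iff_le_right (by norm_num)] at this
      omega
    have htw : t * w = w * t := by
      have hconj : t * u * t⁻¹ ∈ U :=
        Subgroup.Normal.conj_mem inferInstance u (Subgroup.mem_sup_left (Subgroup.mem_zpowers u)) t
      obtain ⟨a, ha, b, hb, hab⟩ := Subgroup.mem_sup_of_normal_right.mp hconj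
      obtain ⟨i, rfl⟩ := ha
      obtain ⟨j, rfl⟩ := hb
      have e : t * w * t⁻¹ = w ^ i := by
        have h1 : t * w * t⁻¹ = (t * u * t⁻¹) ^ 2 ^ (m - 1) := by rw [hw, conj_pow]
        rw [h1, ← hab, Commute.mul_pow ((show Commute u z from hzc' u).zpow_zpow i j)]
        have hzj : (z ^ j) ^ 2 ^ (m - 1) = 1 := by
          rw [show 2 ^ (m - 1) = 2 * 2 ^ (m - 2) by rw [← pow_succ']; congr 1; omega, pow_mul,
            pow_two, ← zpow_add, ← two_mul, zpow_mul, zpow_two, hz2, one_zpow, one_pow]
        rw [hzj, mul_one, hw, ← zpow_natCast, ← zpow_natCast, ← zpow_mul, ← zpow_mul, mul_comm]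
      rcases Int.even_or_odd i with ⟨c, hc⟩ | ⟨c, hc⟩
      · exfalso
        rw [hc, ← two_mul, zpow_mul, zpow_two, hw2, one_zpow, mul_inv_eq_one] at e
        exact hw1 (mul_eq_left.mp e)
      · rw [hc, zpow_add, zpow_mul, zpow_two, hw2, one_zpow, one_mul, zpow_one] at e
        exact mul_inv_eq_iff_eq_mul.mp e
    -- five elements in the centraliser
    set C := Subgroup.centralizer ({t} : Set G)
    have hwC : w ∈ C := Subgroup.mem_centralizer_singleton_iff.mpr htw.symm
    have hzC : z ∈ C := Subgroup.mem_centralizer_singleton_iff.mpr (hzc' t).symm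
    have htC : t ∈ C := Subgroup.mem_centralizer_singleton_iff.mpr rfl
    have hwU : w ∈ U := Subgroup.mem_sup_left (Subgroup.pow_mem _ (Subgroup.mem_zpowers u) _)
    have hzU : z ∈ U := Subgroup.mem_sup_right (Subgroup.mem_zpowers z)
    have hwz : w ≠ z := fun e => hzu (e ▸ Subgroup.pow_mem _ (Subgroup.mem_zpowers u) _)
    have hwz1 : w * z ≠ 1 := fun e => hwz (by
      rw [eq_inv_of_mul_eq_one_left e, inv_eq_of_mul_eq_one_right hz2])
    classical
    have h5 : ({1, z, w, w * z, t} : Finset G).card = 5 := by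
      have a1 : t ≠ 1 := fun e => htU (e ▸ U.one_mem)
      have a2 : t ≠ z := fun e => htU (e ▸ hzU)
      have a3 : t ≠ w := fun e => htU (e ▸ hwU)
      have a4 : t ≠ w * z := fun e => htU (e ▸ U.mul_mem hwU hzU)
      have a5 : w * z ≠ z := fun e => hw1 (mul_eq_right.mp e)
      have a6 : w * z ≠ w := fun e => hz1 (mul_eq_left.mp e)
      simp [Ne.symm hz1, Ne.symm hw1, Ne.symm hwz, Ne.symm hwz1, Ne.symm a1, Ne.symm a2,
        Ne.symm a3, Ne.symm a4, Ne.symm a5, Ne.symm a6]
    have hsub : ∀ x ∈ ({1, z, w, w * z, t} : Finset G), x ∈ C := by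
      intro x hx
      simp only [Finset.mem_insert, Finset.mem_singleton] at hx
      rcases hx with rfl | rfl | rfl | rfl | rfl
      exacts [C.one_mem, hzC, hwC, C.mul_mem hwC hzC, htC]
    have hinj := Nat.card_le_card_of_injective
      (fun x : ↥({1, z, w, w * z, t} : Finset G) => (⟨x.1, hsub x.1 x.2⟩ : C))
      fun a b e => Subtype.ext (congrArg (fun c : C => (c : G)) e)
    rw [Nat.card_eq_finsetCard, h5] at hinj
    omega

/-- All subgroups need at most two generators. -/
theorem card_le_four_mul {G : Type u} [Group G] [Finite G] (hG : IsPGroup 2 G) (t : G)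
    (ht : Nat.card (Subgroup.centralizer ({t} : Set G)) ≤ 4) {X K : Subgroup G} (h : SqLE X K) :
    Nat.card X ≤ 4 * Nat.card K := by
  haveI : Fact (Nat.Prime 2) := ⟨Nat.prime_two⟩
  have hK : 0 < Nat.card K := Nat.card_pos
  rcases exists_cyclic_half hG t ht with h4 | ⟨u, hu⟩
  · exact ((Subgroup.card_le_card_group X).trans h4).trans (by omega)
  set U := Subgroup.zpowers u
  have hUi : U.index ≤ 2 := by
    have := U.card_mul_index
    rw [Nat.card_zpowers] at this
    have : 0 < orderOf u := orderOf_pos u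
    by_contra hc
    nlinarith
  haveI hUn : U.Normal := by
    have h0 : 0 < U.index := Nat.pos_of_ne_zero Subgroup.index_ne_zero_of_finite
    rcases Nat.lt_or_ge U.index 2 with h1 | h2
    · rw [Subgroup.index_eq_one.mp (by omega : U.index = 1)]; infer_instance
    · exact Subgroup.normal_of_index_eq_two (by omega)
  refine card_le_split (QuotientGroup.mk' U) (a := 2) (b := 2) ?_ ?_
  · rw [QuotientGroup.ker_mk']
    haveI : IsCyclic U := inferInstance
    haveI : IsCyclic (X ⊓ U : Subgroup G) := Subgroup.isCyclic_of_le inf_le_right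
    obtain ⟨y, hy⟩ := (Subgroup.isCyclic_iff_exists_zpowers_eq_top (X ⊓ U)).mp inferInstance
    have hyX : y ∈ X ⊓ U := hy ▸ Subgroup.mem_zpowers y
    have hy2 : Subgroup.zpowers (y * y) ≤ K ⊓ U :=
      Subgroup.zpowers_le.mpr ((h.inf U).2 y hyX)
    refine le_trans ?_ (Nat.mul_le_mul_left 2 (Subgroup.card_le_of_le hy2))
    rw [← hy, Nat.card_zpowers, Nat.card_zpowers, ← pow_two, orderOf_pow]
    have hd : Nat.gcd (orderOf y) 2 ∣ orderOf y := Nat.gcd_dvd_left _ _
    obtain ⟨c, hc⟩ := hd
    have hle : Nat.gcd (orderOf y) 2 ≤ 2 := Nat.le_of_dvd (by norm_num) (Nat.gcd_dvd_right _ _)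
    have hpos : 0 < Nat.gcd (orderOf y) 2 := Nat.gcd_pos_of_pos_right _ (by norm_num)
    generalize Nat.gcd (orderOf y) 2 = g at hc hle hpos
    rw [hc, Nat.mul_div_cancel_left _ hpos]
    exact Nat.mul_le_mul_right c hle
  · refine ((Subgroup.card_le_card_group _).trans ?_).trans (Nat.le_mul_of_pos_right 2 Nat.card_pos)
    rw [← Subgroup.index_eq_card]
    exact hUi

/-- A central involution lies in every subgroup needing two generators. -/
theorem mem_of_four_mul {G : Type u} [Group G] [Finite G] (hG : IsPGroup 2 G) (t : G)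
    (ht : Nat.card (Subgroup.centralizer ({t} : Set G)) ≤ 4) {X K : Subgroup G} (h : SqLE X K)
    (h4 : 4 * Nat.card K ≤ Nat.card X) {z : G} (hz : ∀ g, g * z = z * g) (hz2 : z * z = 1) :
    z ∈ X := by
  by_contra hzX
  let X' : Subgroup G :=
    { carrier := {g | g ∈ X ∨ g * z ∈ X}
      one_mem' := Or.inl X.one_mem
      mul_mem' := by
        rintro a b (ha | ha) (hb | hb)
        · exact Or.inl (X.mul_mem ha hb)
        · exact Or.inr (by rw [mul_assoc]; exact X.mul_mem ha hb)
        · exact Or.inr (by rw [mul_assoc, hz b, ← mul_assoc]; exact X.mul_mem ha hb)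
        · refine Or.inl ?_
          have e : a * b = (a * z) * (b * z) := by
            calc a * b = a * (z * z) * b := by rw [hz2, mul_one]
              _ = a * z * (z * b) := by group
              _ = _ := by rw [hz b]
          rw [e]; exact X.mul_mem ha hb
      inv_mem' := by
        rintro a (ha | ha)
        · exact Or.inl (X.inv_mem ha)
        · refine Or.inr ?_
          have e : a⁻¹ * z = (a * z)⁻¹ := by
            rw [mul_inv_rev, inv_eq_of_mul_eq_one_right hz2, hz a⁻¹]
          rw [e]; exact X.inv_mem ha }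
  have hX' : SqLE X' K := by
    refine ⟨fun g hg => Or.inl (h.1 hg), ?_⟩
    rintro g (hg | hg)
    · exact h.2 g hg
    · have e : g * g = (g * z) * (g * z) := by
        calc g * g = g * (z * z) * g := by rw [hz2, mul_one]
          _ = g * z * (z * g) := by group
          _ = _ := by rw [hz g]
      rw [e]; exact h.2 _ hg
  have h1 := card_le_four_mul hG t ht hX'
  have hlt : X < X' := lt_of_le_of_ne (fun g hg => Or.inl hg)
    fun e => hzX (e ▸ (Or.inr (by rw [hz2]; exact X.one_mem) : z ∈ X'))
  have h2 : Nat.card X < Nat.card X' :=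
    Set.Finite.card_lt_card (Set.toFinite _) (SetLike.coe_ssubset_coe.mpr hlt)
  omega

end CfsgLib.TwoRank
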