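import Cfsg.Agent.Lib.TwoRank.WreathModel

/-!
The exchange automorphism of `D₈ ≀ C₂`, the extension by it and its central quotient.
-/

set_option autoImplicit false

namespace CfsgLib.DEightWreath

open CfsgLib.SylowWreathFour Equiv

variable {G : Type*} [Group G]

/-- Images of the base. -/
def imgVec (a b t : G) (v : Vec) : G :=
  (if v.toAdd 0 = 1 then a else 1) * (if v.toAdd 1 = 1 then b * a * b else 1) *
    (if v.toAdd 2 = 1 then t * a * t else 1) * (if v.toAdd 3 = 1 then t * (b * a * b) * t else 1)

/-- Images of the top group. -/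
def imgPerm (b t : G) (s : dih) : G :=
  (if (flag s).1 then b else 1) * (if (flag s).2.1 then t * b * t else 1) *
    (if (flag s).2.2 then t else 1)

/-- A homomorphism given by the images of the generators. -/
def homOf (a b t : G) (h1 : ∀ v w, imgVec a b t (v * w) = imgVec a b t v * imgVec a b t w)
    (h2 : ∀ r s, imgPerm b t (r * s) = imgPerm b t r * imgPerm b t s)
    (h3 : ∀ (s : dih) (v : Vec), imgVec a b t (permAut (s : Perm (Fin 4)) v) * imgPerm b t s =
      imgPerm b t s * imgVec a b t v) : M →* G :=
  liftWreath dih (MonoidHom.mk' (imgVec a b t) h1) (MonoidHom.mk' (imgPerm b t) h2) fun s v =>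
    eq_mul_inv_of_mul_eq (h3 s v)

/-- The exchange of `A` and `B`. -/
def psiHom : M →* M := homOf B A T (by decide +kernel) (by decide +kernel) (by decide +kernel)

theorem psi_gens : psiHom A = B ∧ psiHom B = A ∧ psiHom T = T := by decide +kernel

theorem psi_psi (x : M) : psiHom (psiHom x) = x := by
  have h : psiHom.comp psiHom = MonoidHom.id M := by
    refine MonoidHom.eq_of_eqOn_dense closure_gens ?_
    obtain ⟨h1, h2, h3⟩ := psi_gens
    rintro z (rfl | rfl | rfl) <;> simp [h1, h2, h3]
  exact DFunLike.congr_fun h x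

/-- The exchange as an automorphism. -/
def psi : M ≃* M where
  toFun := psiHom
  invFun := psiHom
  left_inv := psi_psi
  right_inv := psi_psi
  map_mul' := map_mul psiHom

theorem psi_V₁ : V₁.map psi.toMonoidHom = V₂ := by
  refine Subgroup.eq_of_le_of_card_ge ?_ (by rw [Subgroup.card_map_of_injective (show Function.Injective psi.toMonoidHom from psi.injective), card_V₁, card_V₂])
  rintro _ ⟨v, hv, rfl⟩
  exact (by decide +kernel : ∀ v ∈ V₁, psiHom v ∈ V₂) v hv

/-- The group of order two. -/
abbrev C₂ := Multiplicative (ZMod 2)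

/-- The homomorphism of `C₂` given by an element with square one. -/
def pairHom (g : G) (hg : g * g = 1) : C₂ →* G where
  toFun c := if c = 1 then 1 else g
  map_one' := if_pos rfl
  map_mul' c d := by
    have h : ∀ c : C₂, c = 1 ∨ c = Multiplicative.ofAdd 1 := by decide
    have h1 : (Multiplicative.ofAdd 1 : C₂) ≠ 1 := by decide
    have h2 : (Multiplicative.ofAdd 1 : C₂) * Multiplicative.ofAdd 1 = 1 := by decide
    rcases h c with rfl | rfl <;> rcases h d with rfl | rfl <;> simp [h1, h2, hg]

theorem c_cases : ∀ c : C₂, c = 1 ∨ c = Multiplicative.ofAdd 1 := by decide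

theorem pairHom_one (g : G) (hg : g * g = 1) : pairHom g hg (Multiplicative.ofAdd 1) = g := by
  show (if (Multiplicative.ofAdd 1 : C₂) = 1 then 1 else g) = g
  exact if_neg (by decide)

/-- The action of `C₂` on the model. -/
def act : C₂ →* MulAut M := pairHom psi (MulEquiv.ext psi_psi)

/-- The extension by the exchange. -/
abbrev Ext := M ⋊[act] C₂

/-- The extra involution of the quotient. -/
def Y : M := A * B'

theorem Y_sq : Y * Y = 1 := by decide +kernel

/-- The quotient map on the model. -/
def omHom : M →* M := homOf T (Y * T * Y) A (by decide +kernel) (by decide +kernel) (by decide +kernel)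

theorem om_gens : omHom A = T ∧ omHom B = Y * T * Y ∧ omHom T = A ∧ omHom Z = 1 := by decide +kernel

theorem om_ker : ∀ x : M, (omHom x = 1 → x = 1 ∨ x = Z) ∧ omHom x * Y ≠ 1 := by decide +kernel

/-- The quotient map on the extension. -/
def omExt : Ext →* M := SemidirectProduct.lift omHom (pairHom Y Y_sq) fun c => by
  rcases c_cases c with rfl | rfl
  · refine MonoidHom.ext fun x => ?_
    simp [map_one]
  · refine MonoidHom.eq_of_eqOn_dense closure_gens ?_
    have hact : act (Multiplicative.ofAdd 1) = psi := pairHom_one _ _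
    have hinv : Y⁻¹ = Y := inv_eq_of_mul_eq_one_right Y_sq
    rintro z (rfl | rfl | rfl) <;>
      simp only [MonoidHom.comp_apply, hact, pairHom_one, MulEquiv.coe_toMonoidHom, MulAut.conj_apply, hinv]
    · show omHom (psiHom A) = _
      rw [psi_gens.1, om_gens.1, om_gens.2.1]
    · show omHom (psiHom B) = _
      rw [psi_gens.2.1, om_gens.1, om_gens.2.1]
      exact (by decide +kernel : T = Y * (Y * T * Y) * Y)
    · show omHom (psiHom T) = _
      rw [psi_gens.2.2, om_gens.2.2.1]
      exact (by decide +kernel : A = Y * A * Y)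

theorem omExt_surjective : Function.Surjective omExt := by
  rw [← MonoidHom.range_eq_top, eq_top_iff, ← closure_gens, Subgroup.closure_le]
  have hl : ∀ x : M, omHom x ∈ omExt.range := fun x =>
    ⟨SemidirectProduct.inl x, SemidirectProduct.lift_inl _ _ _ x⟩
  have hY : Y ∈ omExt.range :=
    ⟨SemidirectProduct.inr (Multiplicative.ofAdd 1), by rw [omExt, SemidirectProduct.lift_inr, pairHom_one]⟩
  have hA : A ∈ omExt.range := om_gens.2.2.1 ▸ hl T
  have hT : T ∈ omExt.range := om_gens.1 ▸ hl A
  rintro z (rfl | rfl | rfl)
  · exact hA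
  · rw [(by decide +kernel : B = T * (A * Y) * T)]
    exact mul_mem (mul_mem hT (mul_mem hA hY)) hT
  · exact hT

theorem omExt_ker : omExt.ker = Subgroup.zpowers (SemidirectProduct.inl Z) := by
  refine le_antisymm (fun e he => ?_) (Subgroup.zpowers_le.mpr ?_)
  · rw [MonoidHom.mem_ker] at he
    obtain ⟨x, c⟩ := e
    have he' : omHom x * pairHom Y Y_sq c = 1 := he
    rcases c_cases c with rfl | rfl
    · rw [map_one, mul_one] at he'
      rcases (om_ker x).1 he' with rfl | rfl
      · exact one_mem _
      · exact Subgroup.mem_zpowers _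
    · rw [pairHom_one] at he'
      exact absurd he' (om_ker x).2
  · rw [MonoidHom.mem_ker, omExt, SemidirectProduct.lift_inl, om_gens.2.2.2]

theorem card_Ext : Nat.card Ext = 256 := by
  rw [SemidirectProduct.card, card_M, Nat.card_eq_fintype_card]
  rfl

end CfsgLib.DEightWreath
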