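import Cfsg.Agent.Lib.TwoRank.Cm
import Cfsg.Agent.Lib.TwoRank.WreathHoms

/-!
A subgroup `D₈ ≀ C₂` of a 2-group of sectional rank at most four: its normalisers.
-/

set_option autoImplicit false
set_option linter.style.haveILetI false

namespace CfsgLib.DEightWreath

open CfsgLib.TwoRank

variable {S : Type*} [Group S] [Finite S]

omit [Finite S] in
/-- The converse of `sectional_of_sqLE`. -/
theorem card_le_of_sectional {k : ℕ} (hr : Cfsg.SectionalPRankLE 2 k S) {X K : Subgroup S}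
    (h : SqLE X K) : Nat.card X ≤ 2 ^ k * Nat.card K := by
  haveI : (K.subgroupOf X).Normal := ⟨fun m hm g => h.conj_mem g.2 hm⟩
  have hsq : ∀ q : X ⧸ K.subgroupOf X, q ^ 2 = 1 := by
    intro q
    induction q using QuotientGroup.induction_on with
    | _ x => rw [pow_two, ← QuotientGroup.mk_mul, QuotientGroup.eq_one_iff]; exact h.2 x x.2
  have hc := hr X (K.subgroupOf X) ⊤ (.of_comm fun a b => Subtype.ext <| by
    rw [Subgroup.coe_mul, Subgroup.coe_mul]
    obtain ⟨x, hx⟩ := QuotientGroup.mk_surjective (a : X ⧸ K.subgroupOf X)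
    obtain ⟨y, hy⟩ := QuotientGroup.mk_surjective (b : X ⧸ K.subgroupOf X)
    rw [← hx, ← hy, ← QuotientGroup.mk_mul, ← QuotientGroup.mk_mul, QuotientGroup.eq]
    show ((x * y)⁻¹ * (y * x) : X).1 ∈ K
    have := h.comm_mem (X.inv_mem y.2) (X.inv_mem x.2)
    simpa [mul_assoc] using this) (fun a _ => hsq a)
  rw [Subgroup.card_top] at hc
  rw [(K.subgroupOf X).card_eq_card_quotient_mul_card_subgroup,
    Nat.card_congr (Subgroup.subgroupOfEquivOfLe h.1).toEquiv]
  exact Nat.mul_le_mul_right _ hc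

variable {f : M →* S}

theorem exists_theta (hf : Function.Injective f) {y : S}
    (hy : y ∈ Subgroup.normalizer (f.range : Set S)) :
    ∃ θ : M ≃* M, ∀ m, f (θ m) = y * f m * y⁻¹ := by
  have h : ∀ m, ∃ m', f m' = y * f m * y⁻¹ := fun m =>
    (Subgroup.mem_normalizer_iff.mp hy (f m)).mp ⟨m, rfl⟩
  choose t ht using h
  let t' : M →* M :=
    { toFun := t
      map_one' := hf (by rw [ht, map_one]; group)
      map_mul' := fun a b => hf (by rw [ht, map_mul f (t a), ht, ht, map_mul]; group) }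
  have hinj : Function.Injective t' := fun a b hab => hf (by
    have : y * f a * y⁻¹ = y * f b * y⁻¹ := by rw [← ht, ← ht]; exact congrArg f hab
    exact mul_left_cancel (mul_right_cancel this))
  exact ⟨MulEquiv.ofBijective t' (Finite.injective_iff_bijective.mp hinj), ht⟩

theorem map_V (θ : M ≃* M) : (V₁.map θ.toMonoidHom = V₁ ∧ V₂.map θ.toMonoidHom = V₂) ∨
    (V₁.map θ.toMonoidHom = V₂ ∧ V₂.map θ.toMonoidHom = V₁) := by
  have key : ∀ V : Subgroup M, (∀ g, ∀ v ∈ V, g * v * g⁻¹ ∈ V) →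
      (∀ x ∈ V, ∀ y ∈ V, x * y = y * x) → (∀ x ∈ V, x * x = 1) → Nat.card V = 16 →
      V.map θ.toMonoidHom = V₁ ∨ V.map θ.toMonoidHom = V₂ := by
    intro V h1 h2 h3 h4
    refine normal_sixteen _ ?_ ?_ ?_ (by rw [Subgroup.card_map_of_injective θ.injective, h4])
    · rintro g _ ⟨v, hv, rfl⟩
      exact ⟨θ.symm g * v * (θ.symm g)⁻¹, h1 _ v hv, by simp⟩
    · rintro _ ⟨v, hv, rfl⟩ _ ⟨w, hw, rfl⟩
      rw [← map_mul, h2 v hv w hw, map_mul]
    · rintro _ ⟨v, hv, rfl⟩
      rw [← map_mul, h3 v hv, map_one]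
  have hne : V₁.map θ.toMonoidHom ≠ V₂.map θ.toMonoidHom := fun e => by
    have := Subgroup.map_injective θ.injective e
    exact gens_basic.2.2.2.2.1 ⟨gens_basic.1, this ▸ gens_basic.1⟩
  rcases key V₁ (by decide +kernel) (by decide +kernel) (by decide +kernel) card_V₁ with a | a <;>
    rcases key V₂ (by decide +kernel) (by decide +kernel) (by decide +kernel) card_V₂ with b | b
  · exact absurd (a.trans b.symm) hne
  · exact Or.inl ⟨a, b⟩
  · exact Or.inr ⟨a, b⟩
  · exact absurd (a.trans b.symm) hne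

theorem map_DD (θ : M ≃* M) {x : M} (hx : x ∈ DD) : θ x ∈ DD := by
  obtain ⟨a, ha, b, hb, rfl⟩ := (mem_DD_iff x).mp hx
  have h1 : V₁ ≤ DD := fun u hu => show Low u.right by rw [show u.right = 1 from hu]; decide
  have h2 : V₂ ≤ DD := fun u hu => hu.2
  have ha' : θ a ∈ V₁.map θ.toMonoidHom := ⟨a, ha, rfl⟩
  have hb' : θ b ∈ V₂.map θ.toMonoidHom := ⟨b, hb, rfl⟩
  rw [map_mul]
  rcases map_V θ with ⟨e1, e2⟩ | ⟨e1, e2⟩ <;> rw [e1] at ha' <;> rw [e2] at hb'
  · exact DD.mul_mem (h1 ha') (h2 hb')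
  · exact DD.mul_mem (h2 ha') (h1 hb')

theorem map_DD_symm (θ : M ≃* M) {x : M} (hx : θ x ∈ DD) : x ∈ DD := by
  have := map_DD θ.symm hx
  rwa [θ.symm_apply_apply] at this

theorem map_W (θ : M ≃* M) {x : M} (hx : θ x ∈ W) : x ∈ W := by
  have h : W.map θ.toMonoidHom = W := by
    rw [W, Subgroup.map_inf _ _ _ θ.injective]
    rcases map_V θ with ⟨e1, e2⟩ | ⟨e1, e2⟩ <;> rw [e1, e2]
    exact inf_comm _ _
  rw [← h] at hx
  obtain ⟨z, hz, e⟩ := hx
  exact θ.injective e ▸ hz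

theorem image_centralizer (θ : M ≃* M) {x : M} (h : ∀ g, g * x = x * g → g ∈ DD) :
    ∀ g, g * θ x = θ x * g → g ∈ DD := by
  intro g hg
  have h1 : θ.symm g ∈ DD := h _ (θ.injective (by
    rw [map_mul, map_mul, θ.apply_symm_apply]; exact hg))
  have := map_DD θ h1
  rwa [θ.apply_symm_apply] at this

theorem eq_mul_of_mul_mem {x c : M} (hc : c * c = 1) (hcD : c ∈ DD) (h : x * c ∈ W) :
    ∃ w ∈ wList, x = c * w :=
  ⟨x * c, mem_W _ h, by
    rw [W_central _ (mem_W _ h) c hcD, mul_assoc, hc, mul_one]⟩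

theorem mul_T_notMem (hf : Function.Injective f) {y : S} (hy : y ∉ f.range) :
    f T * y ∉ f.range := fun h => hy ((f.range.mul_mem_cancel_left ⟨T, rfl⟩).mp h)

theorem mul_sq_mem {y k : S} (hy : y ∈ Subgroup.normalizer (f.range : Set S)) (hk : k ∈ f.range)
    (hy2 : y * y ∈ f.range) : (k * y) * (k * y) ∈ f.range := by
  have e : (k * y) * (k * y) = k * (y * k * y⁻¹) * (y * y) := by group
  rw [e]
  exact mul_mem (mul_mem hk ((Subgroup.mem_normalizer_iff.mp hy k).mp hk)) hy2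

/-- An element of the normaliser of `P` fixing a normal elementary abelian subgroup of order
sixteen lies in `P`. -/
theorem mem_of_fix (hr : Cfsg.SectionalPRankLE 2 4 S) (hf : Function.Injective f) {y : S}
    (hy : y ∈ Subgroup.normalizer (f.range : Set S)) (hy2 : y * y ∈ f.range) {θ : M ≃* M}
    (hθ : ∀ m, f (θ m) = y * f m * y⁻¹) (hV : ∀ v ∈ V₁, θ v ∈ V₁) : y ∈ f.range := by
  by_contra hyP
  obtain ⟨hA, hA', hB, hB', hAW, hBW, hBBW, hTD, hAA, hA'A', hBB, hB'B', hTT, hAD, hA'D, hBD, hB'D,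
    hAB, hAB', hA'B, hA'B', hTAT, hTBT, -, -⟩ := gens_basic
  have hV2 : ∀ θ : M ≃* M, (∀ v ∈ V₁, θ v ∈ V₁) → ∀ v ∈ V₂, θ v ∈ V₂ := by
    intro θ h v hv
    rcases map_V θ with ⟨-, e⟩ | ⟨e, -⟩
    · exact e ▸ ⟨v, hv, rfl⟩
    · exfalso
      have hle : V₂ ≤ V₁ := by
        rw [← e]; rintro _ ⟨u, hu, rfl⟩; exact h u hu
      exact hBW ⟨hle hB, hB⟩
  -- make `θ` fix the blocks
  obtain ⟨y, θ, hy, hy2, hyP, hθ, hV, hθB⟩ : ∃ (y : S) (θ : M ≃* M),
      y ∈ Subgroup.normalizer (f.range : Set S) ∧ y * y ∈ f.range ∧ y ∉ f.range ∧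
      (∀ m, f (θ m) = y * f m * y⁻¹) ∧ (∀ v ∈ V₁, θ v ∈ V₁) ∧ θ B * B ∈ W := by
    rcases exists_not_centralizer (θ B) (hV2 θ hV B hB) (fun h => hBW (map_W θ h))
        (image_centralizer θ centralizer_B) with h | h
    · exact ⟨y, θ, hy, hy2, hyP, hθ, hV, h⟩
    · refine ⟨f T * y, θ.trans (MulAut.conj T), mul_mem (Subgroup.le_normalizer ⟨T, rfl⟩) hy,
        mul_sq_mem hy ⟨T, rfl⟩ hy2, mul_T_notMem hf hyP, fun m => ?_, fun v hv => ?_, ?_⟩
      · simp only [MulEquiv.trans_apply, MulAut.conj_apply, map_mul, map_inv, hθ]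
        group
      · show T * θ v * T⁻¹ ∈ V₁
        exact (by decide +kernel : ∀ v ∈ V₁, T * v * T⁻¹ ∈ V₁) _ (hV v hv)
      · show T * θ B * T⁻¹ * B ∈ W
        obtain ⟨w, hw, e⟩ := eq_mul_of_mul_mem hB'B' hB'D h
        rw [e]
        exact (by decide +kernel : ∀ w ∈ wList, T * (B' * w) * T⁻¹ * B ∈ W) w hw
  obtain ⟨w, hw, eB⟩ := eq_mul_of_mul_mem hBB hBD hθB
  -- the other block
  have hθB' : θ B' * B' ∈ W := by
    refine (exists_not_centralizer (θ B') (hV2 θ hV B' hB') (fun h => ?_)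
      (image_centralizer θ ?_)).resolve_left fun h => ?_
    · exact absurd (map_W θ h) (by decide +kernel)
    · exact (by decide +kernel : ∀ g : M, g * B' = B' * g → g ∈ DD)
    · obtain ⟨w', hw', eB'⟩ := eq_mul_of_mul_mem hBB hBD h
      refine hBBW (map_W θ ?_)
      rw [map_mul, eB, eB']
      exact (by decide +kernel : ∀ w ∈ wList, ∀ w' ∈ wList, (B * w) * (B * w') ∈ W) w hw w' hw'
  obtain ⟨w', hw', eB'⟩ := eq_mul_of_mul_mem hB'B' hB'D hθB'
  -- `θ` is the identity modulo `W` on the blocks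
  have hcommB : ∀ x ∈ V₁, (x * (B * w) = B * w * x ↔ x * B = B * x) := fun x hx => by
    rw [← mul_assoc x, mul_assoc B, ← W_central w hw x (show Low x.right by
      rw [show x.right = 1 from hx]; decide), ← mul_assoc, mul_left_inj]
  have hcommB' : ∀ x ∈ V₁, (x * (B' * w') = B' * w' * x ↔ x * B' = B' * x) := fun x hx => by
    rw [← mul_assoc x, mul_assoc B', ← W_central w' hw' x (show Low x.right by
      rw [show x.right = 1 from hx]; decide), ← mul_assoc, mul_left_inj]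
  have hθA : θ A * A ∈ W := split_V₁ _ (hV A hA)
    ((hcommB' _ (hV A hA)).mp (by rw [← eB', ← map_mul, ← map_mul, hAB']))
    (fun h => hAB (θ.injective (by rw [map_mul, map_mul, eB]; exact (hcommB _ (hV A hA)).mpr h)))
  have hθA' : θ A' * A' ∈ W := split_V₁' _ (hV A' hA')
    ((hcommB _ (hV A' hA')).mp (by rw [← eB, ← map_mul, ← map_mul, hA'B]))
    (fun h => hA'B' (θ.injective (by rw [map_mul, map_mul, eB']; exact (hcommB' _ (hV A' hA')).mpr h)))
  obtain ⟨a, ha, eA⟩ := eq_mul_of_mul_mem hAA hAD hθA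
  obtain ⟨a', ha', eA'⟩ := eq_mul_of_mul_mem hA'A' hA'D hθA'
  have hwW : ∀ x ∈ wList, θ x = x := by
    have h1 : θ Z1 = Z1 := by
      rw [show Z1 = A * B * (A * B) by decide +kernel, map_mul, map_mul, eA, eB]
      exact ((squares a ha w hw).1).trans (by decide +kernel)
    have h2 : θ Z2 = Z2 := by
      rw [show Z2 = A' * B' * (A' * B') by decide +kernel, map_mul, map_mul, eA', eB']
      exact ((squares a' ha' w' hw').2).trans (by decide +kernel)
    intro x hx
    simp only [wList, List.mem_cons, List.not_mem_nil, or_false] at hx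
    rcases hx with rfl | rfl | rfl | rfl
    · exact map_one θ
    · exact h1
    · exact h2
    · rw [← Z1_mul, map_mul, h1, h2]
  have htwice : ∀ d v : M, v ∈ wList → θ d = d * v → θ (θ d) = d := fun d v hv e => by
    rw [e, map_mul, e, hwW v hv, mul_assoc, (W_list v hv).2, mul_one]
  -- the square of `y`
  obtain ⟨u, hu⟩ := hy2
  have hfix : ∀ d, θ (θ d) = d → d * u = u * d := fun d hd => hf (by
    have := hθ (θ d)
    rw [hd, hθ] at this
    rw [map_mul, map_mul, hu]
    conv_lhs => rw [this]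
    group)
  have huW : u ∈ W := centralizer_gens u (hfix A (htwice A a ha eA)).symm
    (hfix A' (htwice A' a' ha' eA')).symm (hfix B (htwice B w hw eB)).symm
    (hfix B' (htwice B' w' hw' eB')).symm
  have hshift : ∀ d ∈ DD, ∃ v ∈ wList, θ d = d * v := by
    let H : Subgroup M :=
      { carrier := {d | d ∈ DD ∧ ∃ v ∈ wList, θ d = d * v}
        one_mem' := ⟨DD.one_mem, 1, by simp [wList], by rw [map_one, one_mul]⟩
        mul_mem' := fun {d e} hd he => by
          obtain ⟨hd, v, hv, ed⟩ := hd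
          obtain ⟨he, v', hv', ee⟩ := he
          refine ⟨DD.mul_mem hd he, v * v', mem_W _ (W.mul_mem (W_list v hv).1 (W_list v' hv').1), ?_⟩
          rw [map_mul, ed, ee]
          calc d * v * (e * v') = d * (v * e) * v' := by group
            _ = d * (e * v) * v' := by rw [W_central v hv e he]
            _ = d * e * (v * v') := by group
        inv_mem' := fun {d} hd => by
          obtain ⟨hd, v, hv, ed⟩ := hd
          refine ⟨DD.inv_mem hd, v, hv, ?_⟩
          rw [map_inv, ed, mul_inv_rev, W_central v hv _ (DD.inv_mem hd),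
            inv_eq_of_mul_eq_one_right (W_list v hv).2] }
    intro d hd
    exact (mem_of_gens H ⟨hAD, a, ha, eA⟩ ⟨hA'D, a', ha', eA'⟩ ⟨hBD, w, hw, eB⟩
      ⟨hB'D, w', hw', eB'⟩ hd).2
  have hswap : ∀ d : M, y * f d = f (θ d) * y := fun d => by rw [hθ]; group
  let X : Subgroup S :=
    { carrier := {x | ∃ d ∈ DD, x = f d ∨ x = f d * y}
      one_mem' := ⟨1, DD.one_mem, Or.inl (map_one f).symm⟩
      mul_mem' := fun {s t} hs ht => by
        obtain ⟨d, hd, rfl | rfl⟩ := hs <;> obtain ⟨e, he, rfl | rfl⟩ := ht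
        · exact ⟨d * e, DD.mul_mem hd he, Or.inl (map_mul f d e).symm⟩
        · exact ⟨d * e, DD.mul_mem hd he, Or.inr (by rw [map_mul, mul_assoc])⟩
        · exact ⟨d * θ e, DD.mul_mem hd (map_DD θ he), Or.inr (by
            rw [map_mul, mul_assoc, hswap, mul_assoc])⟩
        · refine ⟨d * θ e * u, DD.mul_mem (DD.mul_mem hd (map_DD θ he)) huW.2.2, Or.inl ?_⟩
          rw [map_mul, map_mul, hu, mul_assoc (f d), ← mul_assoc y, hswap]
          group
      inv_mem' := fun {s} hs => by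
        obtain ⟨d, hd, rfl | rfl⟩ := hs
        · exact ⟨d⁻¹, DD.inv_mem hd, Or.inl (map_inv f d).symm⟩
        · refine ⟨u⁻¹ * θ d⁻¹, DD.mul_mem (DD.inv_mem huW.2.2) (map_DD θ (DD.inv_mem hd)), Or.inr ?_⟩
          rw [map_mul, map_inv, hu, hθ, map_inv]
          group }
  have hsq : SqLE X (W.map f) := by
    refine ⟨?_, ?_⟩
    · rintro _ ⟨v, hv, rfl⟩
      exact ⟨v, hv.2.2, Or.inl rfl⟩
    · rintro _ ⟨d, hd, rfl | rfl⟩
      · exact ⟨d * d, sq_DD d hd, map_mul f d d⟩
      · obtain ⟨v, hv, ed⟩ := hshift d hd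
        refine ⟨d * θ d * u, W.mul_mem ?_ huW, ?_⟩
        · rw [ed, ← mul_assoc]; exact W.mul_mem (sq_DD d hd) (W_list v hv).1
        · rw [map_mul, map_mul, hu, hθ]
          group
  have h64 := card_le_of_sectional hr hsq
  rw [Subgroup.card_map_of_injective hf, card_W] at h64
  have hlt : DD.map f < X := by
    refine lt_of_le_of_ne ?_ fun e => hyP ?_
    · rintro _ ⟨d, hd, rfl⟩
      exact ⟨d, hd, Or.inl rfl⟩
    · have : y ∈ DD.map f := e ▸ (⟨1, DD.one_mem, Or.inr (by rw [map_one, one_mul])⟩ : y ∈ X)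
      obtain ⟨d, -, hd⟩ := this
      exact ⟨d, hd⟩
  have hc := Set.Finite.card_lt_card (Set.toFinite _) (SetLike.coe_ssubset_coe.mpr hlt)
  simp only [SetLike.coe_sort_coe, Subgroup.card_map_of_injective hf, card_DD] at hc
  omega

theorem map_V₁_range (g : S) : g ∈ Subgroup.normalizer (f.range : Set S) → g * g ∈ f.range →
    Function.Injective f → Cfsg.SectionalPRankLE 2 4 S →
    (∀ v ∈ V₁, g * f v * g⁻¹ ∈ V₁.map f) → g ∈ f.range := by
  intro hg hg2 hf hr hfix
  obtain ⟨θ, hθ⟩ := exists_theta hf hg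
  refine mem_of_fix hr hf hg hg2 hθ fun v hv => ?_
  obtain ⟨v', hv', e⟩ := hfix v hv
  exact (hf (e.trans (hθ v).symm)) ▸ hv'

/-- The normaliser of a normal elementary abelian subgroup of order sixteen is `P`. -/
theorem normalizer_V₁ (hS : IsPGroup 2 S) (hr : Cfsg.SectionalPRankLE 2 4 S)
    (hf : Function.Injective f) :
    Subgroup.normalizer ((V₁.map f : Subgroup S) : Set S) = f.range := by
  haveI : Fact (Nat.Prime 2) := ⟨Nat.prime_two⟩
  set N₁ := Subgroup.normalizer ((V₁.map f : Subgroup S) : Set S)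
  set P := f.range
  have hPN : P ≤ N₁ := by
    rintro _ ⟨m, rfl⟩
    rw [Subgroup.mem_normalizer_iff]
    have hn : ∀ g : M, ∀ v ∈ V₁, g * v * g⁻¹ ∈ V₁ := by decide +kernel
    refine fun s => ⟨fun ⟨v, hv, e⟩ => ⟨m * v * m⁻¹, hn m v hv, by
      rw [map_mul, map_mul, map_inv, e]⟩, fun ⟨v, hv, e⟩ => ⟨m⁻¹ * v * m⁻¹⁻¹, hn m⁻¹ v hv, by
      simp only [map_mul, map_inv, e]; group⟩⟩
  refine le_antisymm ?_ hPN
  by_contra hlt
  have hproper : P.subgroupOf N₁ < ⊤ := by
    rw [lt_top_iff_ne_top, Ne, Subgroup.subgroupOf_eq_top]; exact hlt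
  haveI := (hS.to_subgroup N₁).isNilpotent
  obtain ⟨g₀, hg₀, hg₀P⟩ :=
    SetLike.exists_of_lt (Group.normalizerCondition_of_isNilpotent (G := N₁) _ hproper)
  set NP := N₁ ⊓ Subgroup.normalizer (P : Set S)
  haveI : (P.subgroupOf NP).Normal := ⟨fun a ha g => (Subgroup.mem_normalizer_iff.mp g.2.2 _).mp ha⟩
  have hg : (g₀ : S) ∈ NP := by
    refine ⟨g₀.2, Subgroup.mem_normalizer_iff.mpr fun w => ?_⟩
    constructor
    · intro hw
      exact (Subgroup.mem_normalizer_iff.mp hg₀ ⟨w, hPN hw⟩).mp hw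
    · intro hw
      have hw' : w ∈ N₁ := by
        have e : w = (g₀ : S)⁻¹ * ((g₀ : S) * w * (g₀ : S)⁻¹) * g₀ := by group
        rw [e]
        exact mul_mem (mul_mem (inv_mem g₀.2) (hPN hw)) g₀.2
      exact (Subgroup.mem_normalizer_iff.mp hg₀ ⟨w, hw'⟩).mpr hw
  obtain ⟨⟨y, hy⟩, -, hyP, hy2, -⟩ := exists_central_mod (hS.to_subgroup NP) (P.subgroupOf NP) ⊤
    (fun h => hg₀P (h (Subgroup.mem_top (⟨g₀, hg⟩ : NP))))
  exact hyP (map_V₁_range y hy.2 hy2 hf hr fun v hv =>
    (Subgroup.mem_normalizer_iff.mp hy.1 _).mp ⟨v, hv, rfl⟩)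

theorem normalizer_V₂ (hS : IsPGroup 2 S) (hr : Cfsg.SectionalPRankLE 2 4 S)
    (hf : Function.Injective f) :
    Subgroup.normalizer ((V₂.map f : Subgroup S) : Set S) = f.range := by
  have h := normalizer_V₁ hS hr (f := f.comp psi.toMonoidHom) (hf.comp psi.injective)
  rw [← Subgroup.map_map, psi_V₁, MonoidHom.range_comp, show psi.toMonoidHom.range = ⊤ from MonoidHom.range_eq_top.mpr psi.surjective,
    ← MonoidHom.range_eq_map] at h
  exact h

theorem center_eq (hS : IsPGroup 2 S) (hr : Cfsg.SectionalPRankLE 2 4 S)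
    (hf : Function.Injective f) : Subgroup.center S = Subgroup.zpowers (f Z) := by
  haveI : Fact (Nat.Prime 2) := ⟨Nat.prime_two⟩
  have hle : Subgroup.center S ≤ Subgroup.zpowers (f Z) := by
    intro z hz
    have hzc := Subgroup.mem_center_iff.mp hz
    obtain ⟨x, rfl⟩ : z ∈ f.range := by
      rw [← normalizer_V₁ hS hr hf, Subgroup.mem_normalizer_iff]
      intro w
      rw [← hzc w, mul_inv_cancel_right]
    rcases centre x (hf (by rw [map_mul, map_mul, hzc])) (hf (by rw [map_mul, map_mul, hzc]))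
        (hf (by rw [map_mul, map_mul, hzc])) with rfl | rfl
    · rw [map_one]; exact one_mem _
    · exact Subgroup.mem_zpowers _
  haveI : Nontrivial S := ⟨⟨f Z, 1, fun h => Z_ne.1 (hf (h.trans (map_one f).symm))⟩⟩
  haveI := hS.center_nontrivial
  refine le_antisymm hle (Subgroup.zpowers_le.mpr ?_)
  obtain ⟨⟨z, hz⟩, hne⟩ := exists_ne (1 : Subgroup.center S)
  obtain ⟨k, hk⟩ := Subgroup.mem_zpowers_iff.mp (hle hz)
  rcases Int.even_or_odd k with ⟨j, rfl⟩ | ⟨j, rfl⟩
  · refine absurd (Subtype.ext ?_) hne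
    show z = 1
    rw [← two_mul, zpow_mul, zpow_two, ← map_mul, Z_ne.2, map_one, one_zpow] at hk
    exact hk.symm
  · rw [zpow_add, zpow_mul, zpow_two, ← map_mul, Z_ne.2, map_one, one_zpow, one_mul, zpow_one] at hk
    exact hk ▸ hz

omit [Finite S] in
theorem theta_trans {y : S} {θ : M ≃* M} (hθ : ∀ m, f (θ m) = y * f m * y⁻¹) (k : M) :
    ∀ m, f ((θ.trans (MulAut.conj k)) m) = (f k * y) * f m * (f k * y)⁻¹ := fun m => by
  simp only [MulEquiv.trans_apply, MulAut.conj_apply, map_mul, map_inv, hθ]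
  group

/-- A normalised element outside `P`. -/
theorem exists_swap (hr : Cfsg.SectionalPRankLE 2 4 S) (hf : Function.Injective f) {y : S}
    (hy : y ∈ Subgroup.normalizer (f.range : Set S)) (hy2 : y * y ∈ f.range) (hyP : y ∉ f.range) :
    ∃ y ∈ Subgroup.normalizer (f.range : Set S), y ∉ f.range ∧ (y * y = 1 ∨ y * y = f Z) ∧
      (y * f A * y⁻¹ = f B ∨ y * f A * y⁻¹ = f (B * Z)) ∧
      (y * f B * y⁻¹ = f A ∨ y * f B * y⁻¹ = f (A * Z)) ∧ y * f T * y⁻¹ = f T := by
  obtain ⟨hA, hA', hB, hB', hAW, hBW, hBBW, hTD, hAA, hA'A', hBB, hB'B', hTT, hAD, hA'D, hBD, hB'D,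
    hAB, hAB', hA'B, hA'B', hTAT, hTBT, -, -⟩ := gens_basic
  have hswapV : ∀ (y : S) (θ : M ≃* M), y ∈ Subgroup.normalizer (f.range : Set S) → y * y ∈ f.range →
      y ∉ f.range → (∀ m, f (θ m) = y * f m * y⁻¹) → θ A ∈ V₂ ∧ θ B ∈ V₁ := by
    intro y θ hy hy2 hyP hθ
    rcases map_V θ with ⟨e1, -⟩ | ⟨e1, e2⟩
    · exact absurd (mem_of_fix hr hf hy hy2 hθ fun v hv => e1 ▸ ⟨v, hv, rfl⟩) hyP
    · exact ⟨e1 ▸ ⟨A, hA, rfl⟩, e2 ▸ ⟨B, hB, rfl⟩⟩
  have hpack : ∀ (y : S) (k : M), y ∈ Subgroup.normalizer (f.range : Set S) → y * y ∈ f.range →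
      y ∉ f.range → f k * y ∈ Subgroup.normalizer (f.range : Set S) ∧
        (f k * y) * (f k * y) ∈ f.range ∧ f k * y ∉ f.range := fun y k hy hy2 hyP =>
    ⟨mul_mem (Subgroup.le_normalizer ⟨k, rfl⟩) hy, mul_sq_mem hy ⟨k, rfl⟩ hy2,
      fun h => hyP ((f.range.mul_mem_cancel_left ⟨k, rfl⟩).mp h)⟩
  obtain ⟨θ, hθ⟩ := exists_theta hf hy
  obtain ⟨y, θ, hy, hy2, hyP, hθ, hθA⟩ : ∃ (y : S) (θ : M ≃* M),
      y ∈ Subgroup.normalizer (f.range : Set S) ∧ y * y ∈ f.range ∧ y ∉ f.range ∧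
      (∀ m, f (θ m) = y * f m * y⁻¹) ∧ θ A * B ∈ W := by
    rcases exists_not_centralizer (θ A) (hswapV y θ hy hy2 hyP hθ).1 (fun h => hAW (map_W θ h))
        (image_centralizer θ centralizer_A) with h | h
    · exact ⟨y, θ, hy, hy2, hyP, hθ, h⟩
    · obtain ⟨h1, h2, h3⟩ := hpack y T hy hy2 hyP
      refine ⟨f T * y, θ.trans (MulAut.conj T), h1, h2, h3, theta_trans hθ T, ?_⟩
      obtain ⟨w, hw, e⟩ := eq_mul_of_mul_mem hB'B' hB'D h
      simp only [MulEquiv.trans_apply, MulAut.conj_apply, e]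
      exact (by decide +kernel : ∀ w ∈ wList, T * (B' * w) * T⁻¹ * B ∈ W) w hw
  obtain ⟨w, hw, eA⟩ := eq_mul_of_mul_mem hBB hBD hθA
  have hθB : θ B * A ∈ W := by
    refine (exists_not_centralizer' (θ B) (hswapV y θ hy hy2 hyP hθ).2 (fun h => hBW (map_W θ h))
      (image_centralizer θ centralizer_B)).resolve_right fun h => hAB (θ.injective ?_)
    obtain ⟨w', hw', eB⟩ := eq_mul_of_mul_mem hA'A' hA'D h
    rw [map_mul, map_mul, eA, eB]
    exact (by decide +kernel :
      ∀ w ∈ wList, ∀ w' ∈ wList, B * w * (A' * w') = A' * w' * (B * w)) w hw w' hw'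
  obtain ⟨w', hw', eB⟩ := eq_mul_of_mul_mem hAA hAD hθB
  -- the action on the block generators
  obtain ⟨y, θ, hy, hy2, hyP, hθ, hθA, hθB⟩ : ∃ (y : S) (θ : M ≃* M),
      y ∈ Subgroup.normalizer (f.range : Set S) ∧ y * y ∈ f.range ∧ y ∉ f.range ∧
      (∀ m, f (θ m) = y * f m * y⁻¹) ∧ (θ A = B ∨ θ A = B * Z) ∧ (θ B = A ∨ θ B = A * Z) := by
    obtain ⟨k, -, hk1, hk2⟩ := adjust_pair w hw w' hw'
    obtain ⟨h1, h2, h3⟩ := hpack y k hy hy2 hyP
    refine ⟨f k * y, θ.trans (MulAut.conj k), h1, h2, h3, theta_trans hθ k, ?_, ?_⟩ <;>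
      simp only [MulEquiv.trans_apply, MulAut.conj_apply, eA, eB] <;> assumption
  -- the action on the exchange
  obtain ⟨k, hkA, hkB, hkT⟩ := adjust_T (θ T) (by rw [← map_mul, hTT, map_one])
    (fun h => hTD (map_DD_symm θ h))
  obtain ⟨h1, h2, h3⟩ := hpack y k hy hy2 hyP
  have hconj : ∀ x, k * x = x * k → k * x * k⁻¹ = x := fun x hx => by rw [hx, mul_inv_cancel_right]
  have hkZ : ∀ x, k * x = x * k → k * (x * Z) * k⁻¹ = x * Z := fun x hx =>
    hconj _ (by rw [← mul_assoc, hx, mul_assoc, Z_central k, mul_assoc])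
  have hθ' : ∀ m, f (k * θ m * k⁻¹) = (f k * y) * f m * (f k * y)⁻¹ := theta_trans hθ k
  obtain ⟨u, hu⟩ := h2
  refine ⟨f k * y, h1, h3, ?_, ?_, ?_, by rw [← hθ', hkT]⟩
  · -- the square
    set θ' := θ.trans (MulAut.conj k) with hθ'def
    have hA' : θ' A = B ∨ θ' A = B * Z := by
      rcases hθA with e | e <;> simp only [hθ'def, MulEquiv.trans_apply, MulAut.conj_apply, e]
      exacts [Or.inl (hconj B hkB), Or.inr (hkZ B hkB)]
    have hB' : θ' B = A ∨ θ' B = A * Z := by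
      rcases hθB with e | e <;> simp only [hθ'def, MulEquiv.trans_apply, MulAut.conj_apply, e]
      exacts [Or.inl (hconj A hkA), Or.inr (hkZ A hkA)]
    have hZ : θ' Z = Z := by
      refine (centre (θ' Z) ?_ ?_ ?_).resolve_left fun e => Z_ne.1 (θ'.injective (e.trans (map_one θ').symm))
      all_goals
        exact θ'.symm.injective (by rw [map_mul, map_mul, θ'.symm_apply_apply]; exact (Z_central _).symm)
    have hu' : ∀ d, θ' (θ' d) = u * d * u⁻¹ := fun d => hf (by
      rw [theta_trans hθ k, theta_trans hθ k, map_mul, map_mul, map_inv, hu]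
      group)
    have hzz : ∀ x : M, x * Z * Z = x := fun x => by rw [mul_assoc, Z_ne.2, mul_one]
    have hA2 : u * A * u⁻¹ = A ∨ u * A * u⁻¹ = A * Z := by
      rw [← hu']
      rcases hA' with e | e <;> rcases hB' with e' | e' <;> simp [e, e', map_mul, hZ, hzz]
    have hB2 : u * B * u⁻¹ = B ∨ u * B * u⁻¹ = B * Z := by
      rw [← hu']
      rcases hA' with e | e <;> rcases hB' with e' | e' <;> simp [e, e', map_mul, hZ, hzz]
    have hcom : ∀ d, u * d * u⁻¹ = d → u * d = d * u := fun d hd => mul_inv_eq_iff_eq_mul.mp hd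
    rcases centre u
      (hcom A (hA2.resolve_right ((by decide +kernel : ∀ u : M, u * A * u⁻¹ ≠ A * Z) u)))
      (hcom B (hB2.resolve_right ((by decide +kernel : ∀ u : M, u * B * u⁻¹ ≠ B * Z) u)))
      (hcom T (by
        rw [← hu']
        show θ' (θ' T) = T
        simp only [hθ'def, MulEquiv.trans_apply, MulAut.conj_apply, hkT])) with rfl | rfl
    · exact Or.inl (hu.symm.trans (map_one f))
    · exact Or.inr hu.symm
  · rw [← hθ']
    rcases hθA with e | e <;> rw [e]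
    exacts [Or.inl (by rw [hconj B hkB]), Or.inr (by rw [hkZ B hkB])]
  · rw [← hθ']
    rcases hθB with e | e <;> rw [e]
    exacts [Or.inl (by rw [hconj A hkA]), Or.inr (by rw [hkZ A hkA])]

omit [Finite S] in
theorem card_map_conj (g : S) (H : Subgroup S) :
    Nat.card (H.map (MulAut.conj g).toMonoidHom) = Nat.card H :=
  Subgroup.card_map_of_injective (MulEquiv.injective _)

/-- The statements about `P`, its normaliser and the centre. -/
theorem structure_normalizer (hS : IsPGroup 2 S) (hr : Cfsg.SectionalPRankLE 2 4 S)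
    (hf : Function.Injective f) (hlt : f.range ≠ ⊤) :
    f.range.relIndex (Subgroup.normalizer (f.range : Set S)) = 2 ∧
    ∃ (_ : ((Subgroup.center S).subgroupOf (Subgroup.normalizer (f.range : Set S))).Normal),
      Nonempty (↥(Subgroup.normalizer (f.range : Set S)) ⧸
        (Subgroup.center S).subgroupOf (Subgroup.normalizer (f.range : Set S)) ≃* M) := by
  classical
  haveI : Fact (Nat.Prime 2) := ⟨Nat.prime_two⟩
  haveI : Finite Ext := Finite.of_equiv _ SemidirectProduct.equivProd.symm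
  set N := Subgroup.normalizer (f.range : Set S) with hNdef
  haveI hPn : (f.range.subgroupOf N).Normal := Subgroup.normal_in_normalizer
  haveI := hS.isNilpotent
  have hgt : f.range < N := Group.normalizerCondition_of_isNilpotent _ (lt_top_iff_ne_top.mpr hlt)
  obtain ⟨⟨y₀, hy₀⟩, -, hy₀P, hy₀2, -⟩ := exists_central_mod (hS.to_subgroup N) (f.range.subgroupOf N) ⊤
    (fun h => hgt.not_ge fun x hx => h (Subgroup.mem_top (⟨x, hx⟩ : N)))
  obtain ⟨y, hy, hyP, hyy, hyA, hyB, hyT⟩ := exists_swap hr hf hy₀ hy₀2 hy₀P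
  -- two elements outside `P` differ by one of `P`
  have hV : ∀ g ∈ N, g ∉ f.range → ∀ v ∈ V₁, g * f v * g⁻¹ ∈ V₂.map f := by
    intro g hg hgP v hv
    obtain ⟨θ, hθ⟩ := exists_theta hf hg
    rcases map_V θ with ⟨e1, -⟩ | ⟨e1, -⟩
    · refine absurd ?_ hgP
      rw [← normalizer_V₁ hS hr hf, Subgroup.mem_normalizer_iff]
      intro s
      constructor
      · rintro ⟨u, hu, rfl⟩
        exact ⟨θ u, e1 ▸ ⟨u, hu, rfl⟩, hθ u⟩
      · rintro ⟨u, hu, e⟩
        rw [← e1] at hu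
        obtain ⟨u', hu', rfl⟩ := hu
        refine ⟨u', hu', ?_⟩
        rw [MulEquiv.coe_toMonoidHom, hθ] at e
        exact mul_left_cancel (mul_right_cancel e)
    · exact ⟨θ v, e1 ▸ ⟨v, hv, rfl⟩, hθ v⟩
  have hcover : ∀ g ∈ N, g ∈ f.range ∨ y⁻¹ * g ∈ f.range := by
    intro g hg
    by_cases hgP : g ∈ f.range
    · exact Or.inl hgP
    refine Or.inr ?_
    rw [← normalizer_V₁ hS hr hf, Subgroup.mem_normalizer_iff_map_conj_eq]
    refine Subgroup.eq_of_le_of_card_ge ?_ (card_map_conj _ _).ge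
    rintro _ ⟨_, ⟨v, hv, rfl⟩, rfl⟩
    obtain ⟨a, ha, e⟩ := hV g hg hgP v hv
    have hsub : (V₁.map f).map (MulAut.conj y).toMonoidHom = V₂.map f := by
      refine Subgroup.eq_of_le_of_card_ge ?_ (by
        rw [card_map_conj, Subgroup.card_map_of_injective hf,
          Subgroup.card_map_of_injective hf, card_V₁, card_V₂])
      rintro _ ⟨_, ⟨u, hu, rfl⟩, rfl⟩
      exact hV y hy hyP u hu
    obtain ⟨s, hs, e'⟩ : f a ∈ (V₁.map f).map (MulAut.conj y).toMonoidHom :=
      hsub.symm ▸ ⟨a, ha, rfl⟩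
    have : MulAut.conj (y⁻¹ * g) (f v) = s := by
      rw [e] at e'
      simp only [MulEquiv.coe_toMonoidHom, MulAut.conj_apply] at e' ⊢
      rw [show y⁻¹ * g * f v * (y⁻¹ * g)⁻¹ = y⁻¹ * (g * f v * g⁻¹) * y by group, ← e']
      group
    exact this ▸ hs
  have hidx : (f.range.subgroupOf N).index = 2 := by
    rw [Subgroup.index_eq_two_iff]
    refine ⟨⟨y, hy⟩, fun b => ?_⟩
    by_cases hb : (b : S) ∈ f.range
    · exact Or.inr ⟨hb, fun h => hyP ((f.range.mul_mem_cancel_left hb).mp h)⟩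
    · refine Or.inl ⟨?_, hb⟩
      show (b : S) * y ∈ f.range
      have h1 := (hcover b b.2).resolve_left hb
      have e : (b : S) * y = y * (y⁻¹ * b) * y⁻¹ * (y * y) := by group
      rw [e]
      refine mul_mem ((Subgroup.mem_normalizer_iff.mp hy _).mp h1) ?_
      rcases hyy with h | h <;> rw [h]
      exacts [one_mem _, ⟨Z, rfl⟩]
  refine ⟨hidx, ?_⟩
  haveI hZn : ((Subgroup.center S).subgroupOf N).Normal := by
    refine ⟨fun n hn g => ?_⟩
    rw [Subgroup.mem_subgroupOf] at hn ⊢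
    rw [Subgroup.coe_mul, Subgroup.coe_mul, Subgroup.coe_inv, Subgroup.mem_center_iff.mp hn g,
      mul_inv_cancel_right]
    exact hn
  refine ⟨hZn, ?_⟩
  set q := QuotientGroup.mk' ((Subgroup.center S).subgroupOf N)
  have hcen := center_eq hS hr hf
  let fN : M →* N := f.codRestrict N fun m => Subgroup.le_normalizer ⟨m, rfl⟩
  have hqZ : q (fN Z) = 1 :=
    (QuotientGroup.eq_one_iff _).mpr (hcen.symm ▸ Subgroup.mem_zpowers _ : f Z ∈ Subgroup.center S)
  have hqy : q ⟨y, hy⟩ * q ⟨y, hy⟩ = 1 := by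
    rw [← map_mul]
    refine (QuotientGroup.eq_one_iff _).mpr ?_
    show y * y ∈ Subgroup.center S
    rcases hyy with h | h <;> rw [h]
    exacts [one_mem _, hcen.symm ▸ Subgroup.mem_zpowers _]
  let F : M →* N ⧸ (Subgroup.center S).subgroupOf N := q.comp fN
  let Φ : Ext →* N ⧸ (Subgroup.center S).subgroupOf N := SemidirectProduct.lift F (pairHom _ hqy) fun c => by
    rcases c_cases c with rfl | rfl
    · refine MonoidHom.ext fun x => ?_
      simp [map_one]
    · refine MonoidHom.eq_of_eqOn_dense closure_gens ?_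
      have hact : act (Multiplicative.ofAdd 1) = psi := pairHom_one _ _
      have key : ∀ a b : M, (y * f a * y⁻¹ = f b ∨ y * f a * y⁻¹ = f (b * Z)) →
          F b = q ⟨y, hy⟩ * F a * (q ⟨y, hy⟩)⁻¹ := by
        intro a b h
        show q (fN b) = q ⟨y, hy⟩ * q (fN a) * (q ⟨y, hy⟩)⁻¹
        rw [← map_inv, ← map_mul, ← map_mul]
        rcases h with h | h
        · exact congrArg q (Subtype.ext h.symm)
        · rw [show (⟨y, hy⟩ : N) * fN a * (⟨y, hy⟩ : N)⁻¹ = fN (b * Z) from Subtype.ext h, map_mul,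
            map_mul, hqZ, mul_one]
      rintro z (rfl | rfl | rfl) <;>
        simp only [MonoidHom.comp_apply, hact, pairHom_one, MulEquiv.coe_toMonoidHom, MulAut.conj_apply]
      · show F (psiHom A) = _
        rw [psi_gens.1]; exact key A B hyA
      · show F (psiHom B) = _
        rw [psi_gens.2.1]; exact key B A hyB
      · show F (psiHom T) = _
        rw [psi_gens.2.2]; exact key T T (Or.inl hyT)
  have hΦ : Function.Surjective Φ := by
    intro r
    obtain ⟨g, rfl⟩ := QuotientGroup.mk'_surjective _ r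
    rcases hcover g g.2 with ⟨m, hm⟩ | ⟨m, hm⟩
    · exact ⟨SemidirectProduct.inl m, (SemidirectProduct.lift_inl _ _ _ m).trans (congrArg q (Subtype.ext hm))⟩
    · refine ⟨SemidirectProduct.inr (Multiplicative.ofAdd 1) * SemidirectProduct.inl m, ?_⟩
      rw [map_mul, SemidirectProduct.lift_inr, SemidirectProduct.lift_inl, pairHom_one]
      show q ⟨y, hy⟩ * q (fN m) = q g
      rw [← map_mul]
      exact congrArg q (Subtype.ext (show y * f m = (g : S) by rw [hm, mul_inv_cancel_left]))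
  have hcardN : Nat.card N = 256 := by
    have h := (f.range.subgroupOf N).card_mul_index
    rw [hidx, Nat.card_congr (Subgroup.subgroupOfEquivOfLe hgt.le).toEquiv,
      ← Nat.card_congr (MonoidHom.ofInjective hf).toEquiv, card_M] at h
    omega
  have hcardC : Nat.card ((Subgroup.center S).subgroupOf N) = 2 := by
    rw [Nat.card_congr (Subgroup.subgroupOfEquivOfLe (fun z hz => ?_)).toEquiv, hcen, Nat.card_zpowers]
    · exact orderOf_eq_prime (by rw [pow_two, ← map_mul, Z_ne.2, map_one])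
        (fun h => Z_ne.1 (hf (h.trans (map_one f).symm)))
    · rw [hNdef, Subgroup.mem_normalizer_iff]
      intro w
      rw [← Subgroup.mem_center_iff.mp hz w, mul_inv_cancel_right]
  have hker : Φ.ker = omExt.ker := by
    rw [omExt_ker]
    refine (Subgroup.eq_of_le_of_card_ge (Subgroup.zpowers_le.mpr ?_) ?_).symm
    · rw [MonoidHom.mem_ker, SemidirectProduct.lift_inl]
      exact hqZ
    · have h1 := Φ.ker.card_mul_index
      rw [Subgroup.index_ker, MonoidHom.range_eq_top.mpr hΦ, Subgroup.card_top, card_Ext] at h1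
      have h2 := ((Subgroup.center S).subgroupOf N).card_eq_card_quotient_mul_card_subgroup
      rw [hcardN, hcardC] at h2
      have h3 : orderOf (SemidirectProduct.inl Z : Ext) = 2 := orderOf_eq_prime
        (by rw [pow_two, ← map_mul, Z_ne.2, map_one])
        (fun h => Z_ne.1 (SemidirectProduct.inl_injective (h.trans (map_one _).symm)))
      rw [Nat.card_zpowers, h3]
      nlinarith
  exact ⟨(QuotientGroup.quotientKerEquivOfSurjective Φ hΦ).symm.trans
    ((QuotientGroup.quotientMulEquivOfEq hker).trans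
      (QuotientGroup.quotientKerEquivOfSurjective omExt omExt_surjective))⟩

end CfsgLib.DEightWreath
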