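import Cfsg.Agent.Lib.TwoRank.Basic

/-!
Alperin's lemma on maximal normal abelian subgroups of exponent four of a 2-group.
-/

set_option autoImplicit false

open scoped commutatorElement

namespace CfsgLib.TwoRank

variable {P : Type*} [Group P]

/-- A normal abelian subgroup of exponent at most four, maximal as such. -/
structure IsCore (W : Subgroup P) : Prop where
  normal : W.Normal
  comm : ∀ a ∈ W, ∀ b ∈ W, b * a = a * b
  pow_four : ∀ w ∈ W, w ^ 4 = 1
  maximal : ∀ V : Subgroup P, V.Normal → (∀ a ∈ V, ∀ b ∈ V, b * a = a * b) →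
    (∀ v ∈ V, v ^ 4 = 1) → W ≤ V → V ≤ W

theorem exists_core (P : Type*) [Group P] [Finite P] : ∃ W : Subgroup P, IsCore W := by
  obtain ⟨W, hW, hmax⟩ := (Set.toFinite {W : Subgroup P | W.Normal ∧
    (∀ a ∈ W, ∀ b ∈ W, b * a = a * b) ∧ ∀ w ∈ W, w ^ 4 = 1}).exists_maximal
    ⟨⊥, inferInstance, fun a ha b hb => by
      rw [Subgroup.mem_bot.mp ha, Subgroup.mem_bot.mp hb],
      fun w hw => by rw [Subgroup.mem_bot.mp hw, one_pow]⟩
  exact ⟨W, hW.1, hW.2.1, hW.2.2, fun V h1 h2 h3 h4 => hmax ⟨h1, h2, h3⟩ h4⟩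

theorem IsCore.le_centralizer {W : Subgroup P} (hW : IsCore W) :
    W ≤ Subgroup.centralizer (W : Set P) := fun a ha =>
  Subgroup.mem_centralizer_iff.mpr fun b hb => hW.comm a ha b hb

variable [Finite P] {W : Subgroup P}

/-- Alperin's lemma: the elements of order dividing four of `C(W)` lie in `W`. -/
theorem IsCore.mem_of_pow_four (hP : IsPGroup 2 P) (hW : IsCore W) {x : P}
    (hx : x ∈ Subgroup.centralizer (W : Set P)) (hx4 : x ^ 4 = 1) : x ∈ W := by
  haveI : Fact (Nat.Prime 2) := ⟨Nat.prime_two⟩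
  haveI := hW.normal
  set C := Subgroup.centralizer (W : Set P) with hC
  set f := QuotientGroup.mk' W
  haveI hCn : C.Normal := by rw [hC]; infer_instance
  have hcC : ∀ {c : P}, c ∈ W → ∀ {y : P}, y ∈ C → y * c = c * y := fun hc y hy =>
    (Subgroup.mem_centralizer_iff.mp hy _ hc).symm
  suffices key : ∀ (i : ℕ) (x : P), x ∈ C → x ^ 4 = 1 → x ^ 2 ∈ W →
      f x ∈ Subgroup.upperCentralSeries (P ⧸ W) i → x ∈ W by
    haveI := (hP.to_quotient W).isNilpotent
    have htop := Subgroup.upperCentralSeries_nilpotencyClass (G := P ⧸ W)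
    have h2 : x ^ 2 ∈ W :=
      key _ (x ^ 2) (C.pow_mem hx 2) (by rw [← pow_mul, show 2 * 4 = 4 * 2 from rfl, pow_mul,
        hx4, one_pow]) (by rw [← pow_mul, show 2 * 2 = 4 from rfl, hx4]; exact W.one_mem)
        (by rw [htop]; exact Subgroup.mem_top _)
    exact key _ x hx hx4 h2 (by rw [htop]; exact Subgroup.mem_top _)
  intro i
  induction i with
  | zero =>
    intro x _ _ _ hxi
    rw [Subgroup.upperCentralSeries_zero, Subgroup.mem_bot] at hxi
    exact (QuotientGroup.eq_one_iff x).mp hxi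
  | succ i ih =>
    intro x hx hx4 hx2 hxi
    haveI : (Subgroup.upperCentralSeries (P ⧸ W) i).Normal := inferInstance
    have hy : ∀ g : P, x⁻¹ * (g * x * g⁻¹) ∈ W := by
      intro g
      have hyi : f (x⁻¹ * (g * x * g⁻¹)) ∈ Subgroup.upperCentralSeries (P ⧸ W) i := by
        have h1 := Subgroup.mem_upperCentralSeries_succ_iff.mp hxi (f g)
        have h2 := Subgroup.Normal.conj_mem inferInstance _ (Subgroup.inv_mem _ h1) (f x)⁻¹
        convert h2 using 1
        simp only [commutatorElement_def, map_mul, map_inv]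
        group
      set w := g * x * g⁻¹ with hw
      have hwC : w ∈ C := hCn.conj_mem x hx g
      have hw2 : w ^ 2 ∈ W := by rw [hw, conj_pow]; exact hW.normal.conj_mem _ hx2 g
      have hw4 : w ^ 4 = 1 := by rw [hw, conj_pow, hx4, mul_one, mul_inv_cancel]
      set c := (x ^ 2)⁻¹ * w ^ 2 with hc
      have hcW : c ∈ W := W.mul_mem (W.inv_mem hx2) hw2
      have hc2 : c ^ 2 = 1 := by
        rw [hc, Commute.mul_pow (hW.comm _ hw2 _ (W.inv_mem hx2)), inv_pow, ← pow_mul, ← pow_mul,
          hx4, hw4, inv_one, one_mul]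
      set y := x⁻¹ * w with hydef
      have hyC : y ∈ C := C.mul_mem (C.inv_mem hx) hwC
      have hconj : x⁻¹ * y * x = c * y⁻¹ := by rw [hc, hydef]; group
      by_contra hyW
      obtain ⟨n, hn⟩ := IsPGroup.iff_orderOf.mp hP y
      have hex : ∃ m : ℕ, y ^ 2 ^ m ∈ W := ⟨n, by rw [← hn, pow_orderOf_eq_one]; exact W.one_mem⟩
      classical
      set m := Nat.find hex with hm
      have hm1 : 1 ≤ m := by
        by_contra h0
        have := Nat.find_spec hex
        rw [← hm, show m = 0 by omega, pow_zero, pow_one] at this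
        exact hyW this
      have hmin : y ^ 2 ^ (m - 1) ∉ W := Nat.find_min hex (show m - 1 < m by omega)
      set z := y ^ 2 ^ (m - 1) with hz
      have hz2 : z ^ 2 ∈ W := by
        rw [hz, ← pow_mul, ← pow_succ, Nat.sub_add_cancel hm1]
        exact Nat.find_spec hex
      have hzc : x⁻¹ * z * x = c ^ 2 ^ (m - 1) * z⁻¹ := by
        have e : (x⁻¹ * y * x⁻¹⁻¹) ^ 2 ^ (m - 1) = x⁻¹ * z * x⁻¹⁻¹ := conj_pow
        rw [inv_inv, hconj, Commute.mul_pow (hcC hcW (C.inv_mem hyC)).symm, inv_pow] at e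
        exact e.symm
      have hz4 : z ^ 4 = 1 := by
        have e : x⁻¹ * z ^ 2 * x = (z ^ 2)⁻¹ := by
          have e1 : (x⁻¹ * z * x⁻¹⁻¹) ^ 2 = x⁻¹ * z ^ 2 * x⁻¹⁻¹ := conj_pow
          rw [inv_inv, hzc, Commute.mul_pow (hcC (W.pow_mem hcW _)
            (C.inv_mem (C.pow_mem hyC _))).symm, ← pow_mul, mul_comm (2 ^ (m - 1)) 2, pow_mul,
            hc2, one_pow, one_mul, inv_pow] at e1
          exact e1.symm
        rw [mul_assoc, ← hcC hz2 hx, ← mul_assoc, inv_mul_cancel, one_mul,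
          eq_inv_iff_mul_eq_one, ← pow_add] at e
        exact e
      exact hmin (ih z (C.pow_mem hyC _) hz4 hz2 (by
        rw [map_pow]; exact Subgroup.pow_mem _ hyi _))
    have hn' : (W ⊔ Subgroup.zpowers x).Normal := by
      constructor
      intro v hv g
      have hle : W ⊔ Subgroup.zpowers x ≤
          (W ⊔ Subgroup.zpowers x).comap (MulAut.conj g).toMonoidHom :=
        sup_le (fun a ha => Subgroup.mem_sup_left (hW.normal.conj_mem a ha g))
          (Subgroup.zpowers_le.mpr (by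
            show g * x * g⁻¹ ∈ W ⊔ Subgroup.zpowers x
            rw [show g * x * g⁻¹ = x * (x⁻¹ * (g * x * g⁻¹)) by group]
            exact Subgroup.mul_mem _ (Subgroup.mem_sup_right (Subgroup.mem_zpowers x))
              (Subgroup.mem_sup_left (hy g))))
      exact hle hv
    have hrep : ∀ v ∈ W ⊔ Subgroup.zpowers x, ∃ a ∈ W, ∃ k : ℤ, v = a * x ^ k := by
      intro v hv
      rw [Subgroup.sup_eq_closure, ] at hv
      refine Subgroup.closure_induction (fun v hv => ?_) ⟨1, W.one_mem, 0, by simp⟩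
        (fun v v' _ _ ⟨a, ha, k, e⟩ ⟨a', ha', k', e'⟩ => ⟨a * a', W.mul_mem ha ha', k + k', ?_⟩)
        (fun v _ ⟨a, ha, k, e⟩ => ⟨a⁻¹, W.inv_mem ha, -k, ?_⟩) hv
      · rcases hv with hv | hv
        · exact ⟨v, hv, 0, by simp⟩
        · obtain ⟨k, rfl⟩ := hv
          exact ⟨1, W.one_mem, k, by simp⟩
      · rw [e, e', mul_assoc a, ← mul_assoc (x ^ k), hcC ha' (C.zpow_mem hx k), zpow_add]
        group
      · rw [e, mul_inv_rev, ← zpow_neg, hcC (W.inv_mem ha) (C.zpow_mem hx (-k))]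
    have hVle := hW.maximal _ hn' (fun a ha b hb => by
      obtain ⟨a', ha', k, rfl⟩ := hrep a ha
      obtain ⟨b', hb', l, rfl⟩ := hrep b hb
      have c1 : Commute b' a' := hW.comm a' ha' b' hb'
      have c2 : Commute (x ^ l) a' := hcC ha' (C.zpow_mem hx l)
      have c3 : Commute (x ^ k) b' := hcC hb' (C.zpow_mem hx k)
      exact ((c1.mul_right c3.symm).mul_left (c2.mul_right ((Commute.refl x).zpow_zpow l k))).eq)
      (fun v hv => by
        obtain ⟨a, ha, k, rfl⟩ := hrep v hv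
        rw [Commute.mul_pow (hcC ha (C.zpow_mem hx k)).symm, hW.pow_four a ha, one_mul,
          ← zpow_natCast, ← zpow_mul, mul_comm, zpow_mul, zpow_natCast, hx4, one_zpow])
      le_sup_left
    exact hVle (Subgroup.mem_sup_right (Subgroup.mem_zpowers x))

end CfsgLib.TwoRank
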