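import Cfsg.Agent.Lib.TwoRank.Harada

/-!
A central product of two quaternion groups of order eight containing its centraliser contains a
self-centralising elementary abelian subgroup of order eight.
-/

set_option autoImplicit false

namespace CfsgLib.TwoRank

abbrev Q8 := QuaternionGroup 2

/-- The class of an element of the quaternion group modulo its centre. -/
def cls : Q8 → ZMod 2 × ZMod 2
  | .a i => ((i.val : ZMod 2), 0)
  | .xa i => ((i.val : ZMod 2), 1)

/-- A permutation of order three of the classes. -/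
def rot (u : ZMod 2 × ZMod 2) : ZMod 2 × ZMod 2 := (u.2, u.1 + u.2)

/-- The central involution. -/
def zq : Q8 := .a 2

theorem cls_mul : ∀ p q : Q8, cls (p * q) = cls p + cls q := by decide

theorem rot_add : ∀ u v, rot (u + v) = rot u + rot v := by decide

theorem rot_rot : ∀ u, rot (rot (rot u)) = u := by decide

/-- The diagonal subgroup. -/
def diagA : Subgroup (Q8 × Q8) where
  carrier := {u | cls u.2 = cls u.1}
  one_mem' := rfl
  mul_mem' {u v} (hu : cls u.2 = cls u.1) (hv : cls v.2 = cls v.1) := by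
    show cls (u.2 * v.2) = cls (u.1 * v.1)
    rw [cls_mul, cls_mul, hu, hv]
  inv_mem' {u} (hu : cls u.2 = cls u.1) := by
    have h : ∀ p : Q8, cls p⁻¹ = cls p := by decide
    show cls u.2⁻¹ = cls u.1⁻¹
    rw [h, h, hu]

/-- The twisted diagonal subgroup. -/
def diagB : Subgroup (Q8 × Q8) where
  carrier := {u | cls u.2 = rot (cls u.1)}
  one_mem' := rfl
  mul_mem' {u v} (hu : cls u.2 = rot (cls u.1)) (hv : cls v.2 = rot (cls v.1)) := by
    show cls (u.2 * v.2) = rot (cls (u.1 * v.1))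
    rw [cls_mul, cls_mul, hu, hv, rot_add]
  inv_mem' {u} (hu : cls u.2 = rot (cls u.1)) := by
    have h : ∀ p : Q8, cls p⁻¹ = cls p := by decide
    show cls u.2⁻¹ = rot (cls u.1⁻¹)
    rw [h, h, hu]

/-- Commute up to the kernel of the central product. -/
def CommMod (u v : Q8 × Q8) : Prop :=
  u * v * u⁻¹ * v⁻¹ = 1 ∨ u * v * u⁻¹ * v⁻¹ = (zq, zq)

instance (u v : Q8 × Q8) : Decidable (CommMod u v) := by unfold CommMod; infer_instance

theorem sq_cases : ∀ p : Q8, p * p = 1 ∨ p * p = zq := by decide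

theorem center_cases : ∀ p : Q8, (∀ q, p * q = q * p) → p = 1 ∨ p = zq := by decide

theorem diag_sq : ∀ p q : Q8, (cls q = cls p ∨ cls q = rot (cls p)) →
    ((p, q) * (p, q) = 1 ∨ (p, q) * (p, q) = (zq, zq)) := by decide

theorem diagA_comm : ∀ p q r s : Q8, cls q = cls p → cls s = cls r → CommMod (p, q) (r, s) := by
  decide

theorem diagB_comm : ∀ p q r s : Q8, cls q = rot (cls p) → cls s = rot (cls r) →
    CommMod (p, q) (r, s) := by decide

theorem cls_eq_zero : ∀ p : Q8, cls p = 0 → p = 1 ∨ p = zq := by decide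

theorem diagA_self : ∀ p q : Q8, CommMod (p, q) (.a 1, .a 1) → CommMod (p, q) (.xa 0, .xa 0) →
    cls q = cls p := by decide

theorem diagB_self : ∀ p q : Q8, CommMod (p, q) (.a 1, .xa 0) → CommMod (p, q) (.xa 0, .xa 1) →
    CommMod (p, q) (.xa 1, .a 1) → cls q = rot (cls p) := by decide

theorem diagB_gens : cls (.xa 0 : Q8) = rot (cls (.a 1 : Q8)) ∧
    cls (.xa 1 : Q8) = rot (cls (.xa 0 : Q8)) ∧ cls (.a 1 : Q8) = rot (cls (.xa 1 : Q8)) := by
  decide

theorem card_diagA : Nat.card diagA = 16 := by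
  show Nat.card {u : Q8 × Q8 // cls u.2 = cls u.1} = 16
  rw [Nat.card_eq_fintype_card]
  decide

theorem card_diagB : Nat.card diagB = 16 := by
  show Nat.card {u : Q8 × Q8 // cls u.2 = rot (cls u.1)} = 16
  rw [Nat.card_eq_fintype_card]
  decide

theorem card_diag_inf : Nat.card (diagA ⊓ diagB : Subgroup (Q8 × Q8)) = 4 := by
  show Nat.card {u : Q8 × Q8 // cls u.2 = cls u.1 ∧ cls u.2 = rot (cls u.1)} = 4
  rw [Nat.card_eq_fintype_card]
  decide

theorem diag_central : ∀ p q r s : Q8, cls q = cls p → cls q = rot (cls p) →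
    (p, q) * (r, s) = (r, s) * (p, q) := by decide

theorem diag_squares : ∀ p q : Q8, cls (q * q) = cls (p * p) ∧ cls (q * q) = rot (cls (p * p)) := by
  decide

variable {S : Type*} [Group S] [Finite S]

/-- Two self-centralising elementary abelian subgroups of order eight in `Q` meeting in the
centre, together with the properties of `Q` used. -/
structure CentralQuat (Q Z A B : Subgroup S) : Prop where
  card : Nat.card Q = 32
  le : A ≤ Q ∧ B ≤ Q
  elem : Elem A ∧ Elem B
  cardA : Nat.card A = 8 ∧ Nat.card B = 8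
  self : (∀ q ∈ Q, (∀ a ∈ A, a * q = q * a) → q ∈ A) ∧
    (∀ q ∈ Q, (∀ b ∈ B, b * q = q * b) → q ∈ B)
  meet : A ⊓ B = Z
  cardZ : Nat.card Z = 2
  central : ∀ z ∈ Z, ∀ q ∈ Q, q * z = z * q
  sq : ∀ q ∈ Q, q * q ∈ Z

theorem exists_centralQuat (Q Q₁ Q₂ : Subgroup S) (e₁ : Q₁ ≃* Q8) (e₂ : Q₂ ≃* Q8)
    (hcomm : ∀ a ∈ Q₁, ∀ b ∈ Q₂, a * b = b * a) (hQ : Q₁ ⊔ Q₂ = Q) (h32 : Nat.card Q = 32) :
    ∃ Z A B : Subgroup S, CentralQuat Q Z A B := by
  classical
  let ψ : Q8 × Q8 →* S :=
    MonoidHom.noncommCoprod (Q₁.subtype.comp e₁.symm.toMonoidHom)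
      (Q₂.subtype.comp e₂.symm.toMonoidHom) fun p q =>
      (hcomm _ (e₁.symm p).2 _ (e₂.symm q).2)
  have hψ : ∀ p q, ψ (p, q) = (e₁.symm p : S) * (e₂.symm q : S) := fun p q => rfl
  have hrange : ψ.range = Q := by
    refine (MonoidHom.noncommCoprod_range _ _ _).trans ?_
    rw [← hQ]
    congr 1 <;>
    · rw [MonoidHom.range_comp, MonoidHom.range_eq_top.mpr (MulEquiv.surjective _),
        ← MonoidHom.range_eq_map, Subgroup.range_subtype]
  have hkcard : Nat.card ψ.ker = 2 := by
    have h := ψ.ker.card_mul_index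
    rw [Subgroup.index_ker, hrange, h32] at h
    have h64 : Nat.card (Q8 × Q8) = 64 := by rw [Nat.card_eq_fintype_card]; rfl
    omega
  have hker_le : ∀ u : Q8 × Q8, u ∈ ψ.ker → u = 1 ∨ u = (zq, zq) := by
    rintro ⟨p, q⟩ hu
    rw [MonoidHom.mem_ker, hψ] at hu
    have hp2 : (e₁.symm p : S) = (e₂.symm q : S)⁻¹ := eq_inv_of_mul_eq_one_left hu
    have hpc : ∀ r, p * r = r * p := fun r => by
      have h := hcomm _ (e₁.symm r).2 _ (Q₂.inv_mem (e₂.symm q).2)
      rw [← hp2] at h
      have h' : e₁.symm (r * p) = e₁.symm (p * r) := by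
        rw [map_mul, map_mul]; exact Subtype.ext h
      exact (e₁.symm.injective h').symm
    have hqc : ∀ r, q * r = r * q := fun r => by
      have h := hcomm _ (e₁.symm p).2 _ (e₂.symm r).2
      rw [hp2] at h
      have h1 : Commute ((e₂.symm q : S)) (e₂.symm r : S) :=
        Commute.inv_left_iff.mp (show Commute ((e₂.symm q : S)⁻¹) _ from h)
      have h' : e₂.symm (q * r) = e₂.symm (r * q) := by
        rw [map_mul, map_mul]; exact Subtype.ext h1.eq
      exact e₂.symm.injective h'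
    rcases center_cases p hpc with rfl | rfl <;> rcases center_cases q hqc with rfl | rfl
    · exact Or.inl rfl
    · simp at hu; exact absurd hu (by decide)
    · simp at hu; exact absurd hu (by decide)
    · exact Or.inr rfl
  have hzz : ((zq, zq) : Q8 × Q8) ∈ ψ.ker := by
    obtain ⟨⟨w, hw⟩, hw1, -⟩ := (Nat.card_eq_two_iff' (1 : ψ.ker)).mp hkcard
    rcases hker_le w hw with e | e
    · exact absurd (Subtype.ext e) hw1
    · exact e ▸ hw
  have hkey : ∀ u v : Q8 × Q8, ψ u * ψ v = ψ v * ψ u ↔ CommMod u v := by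
    intro u v
    rw [← cm_eq_one]
    have e : cm (ψ u) (ψ v) = ψ (u * v * u⁻¹ * v⁻¹) := by simp only [cm, map_mul, map_inv]
    rw [e, ← MonoidHom.mem_ker]
    refine ⟨fun h => hker_le _ h, ?_⟩
    rintro (h | h) <;> rw [h]
    · exact one_mem _
    · exact hzz
  set Z := Subgroup.map ψ (diagA ⊓ diagB) with hZ
  have hkerA : ψ.ker ≤ diagA := fun u hu => by
    rcases hker_le u hu with rfl | rfl
    · exact one_mem _
    · show cls zq = cls zq; rfl
  have hkerB : ψ.ker ≤ diagB := fun u hu => by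
    rcases hker_le u hu with rfl | rfl
    · exact one_mem _
    · show cls zq = rot (cls zq); decide
  have hcardmap : ∀ D : Subgroup (Q8 × Q8), ψ.ker ≤ D → Nat.card D = 2 * Nat.card (D.map ψ) :=
    fun D hD => by rw [card_split ψ D, inf_eq_right.mpr hD, hkcard]
  refine ⟨Z, diagA.map ψ, diagB.map ψ, h32, ⟨?_, ?_⟩, ⟨⟨?_, ?_⟩, ⟨?_, ?_⟩⟩, ⟨?_, ?_⟩, ⟨?_, ?_⟩,
    ?_, ?_, ?_, ?_⟩
  · rw [← hrange]; exact Subgroup.map_le_range ψ _
  · rw [← hrange]; exact Subgroup.map_le_range ψ _
  · rintro _ ⟨⟨p, q⟩, hu, rfl⟩ _ ⟨⟨r, s⟩, hv, rfl⟩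
    exact (hkey _ _).mpr (diagA_comm p q r s hu hv)
  · rintro _ ⟨⟨p, q⟩, hu, rfl⟩
    rw [← map_mul, ← MonoidHom.mem_ker]
    rcases diag_sq p q (Or.inl hu) with e | e <;> rw [e]
    exacts [one_mem _, hzz]
  · rintro _ ⟨⟨p, q⟩, hu, rfl⟩ _ ⟨⟨r, s⟩, hv, rfl⟩
    exact (hkey _ _).mpr (diagB_comm p q r s hu hv)
  · rintro _ ⟨⟨p, q⟩, hu, rfl⟩
    rw [← map_mul, ← MonoidHom.mem_ker]
    rcases diag_sq p q (Or.inr hu) with e | e <;> rw [e]
    exacts [one_mem _, hzz]
  · have := hcardmap diagA hkerA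
    rw [card_diagA] at this
    omega
  · have := hcardmap diagB hkerB
    rw [card_diagB] at this
    omega
  · intro w hw hc
    rw [← hrange] at hw
    obtain ⟨⟨p, q⟩, rfl⟩ := hw
    exact ⟨(p, q), diagA_self p q ((hkey _ _).mp (hc _ ⟨(.a 1, .a 1), rfl, rfl⟩).symm)
      ((hkey _ _).mp (hc _ ⟨(.xa 0, .xa 0), rfl, rfl⟩).symm), rfl⟩
  · intro w hw hc
    rw [← hrange] at hw
    obtain ⟨⟨p, q⟩, rfl⟩ := hw
    exact ⟨(p, q), diagB_self p q
      ((hkey _ _).mp (hc _ ⟨(.a 1, .xa 0), diagB_gens.1, rfl⟩).symm)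
      ((hkey _ _).mp (hc _ ⟨(.xa 0, .xa 1), diagB_gens.2.1, rfl⟩).symm)
      ((hkey _ _).mp (hc _ ⟨(.xa 1, .a 1), diagB_gens.2.2, rfl⟩).symm), rfl⟩
  · refine le_antisymm ?_ (Subgroup.map_inf_le _ _ ψ)
    rintro w ⟨⟨u, hu, rfl⟩, ⟨v, hv, hvu⟩⟩
    refine ⟨u, ⟨hu, ?_⟩, rfl⟩
    have : v⁻¹ * u ∈ ψ.ker := by rw [MonoidHom.mem_ker, map_mul, map_inv, hvu, inv_mul_cancel]
    have := diagB.mul_mem hv (hkerB this)
    rwa [mul_inv_cancel_left] at this
  · have h1 := hcardmap (diagA ⊓ diagB) (le_inf hkerA hkerB)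
    rw [card_diag_inf, ← hZ] at h1
    omega
  · rintro _ ⟨⟨p, q⟩, ⟨hA, hB⟩, rfl⟩ w hw
    rw [← hrange] at hw
    obtain ⟨⟨r, t⟩, rfl⟩ := hw
    rw [← map_mul, ← map_mul, diag_central p q r t hA hB]
  · intro w hw
    rw [← hrange] at hw
    obtain ⟨⟨p, q⟩, rfl⟩ := hw
    rw [← map_mul]
    exact ⟨_, diag_squares p q, rfl⟩

/-- Existence of the self-centralising subgroup. -/
theorem CentralQuat.exists_selfCentralizing {Q Z A B : Subgroup S} (hS : IsPGroup 2 S)
    (h : CentralQuat Q Z A B) (hC : Subgroup.centralizer (Q : Set S) ≤ Q) :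
    ∃ E : Subgroup S, Elem E ∧ Nat.card E = 8 ∧ Subgroup.centralizer (E : Set S) = E := by
  haveI : Fact (Nat.Prime 2) := ⟨Nat.prime_two⟩
  set N := Subgroup.normalizer (Q : Set S) with hN
  have hQN : Q ≤ N := Subgroup.le_normalizer
  -- a self-centralising candidate fails only through the normaliser
  have hfail : ∀ E : Subgroup S, E ≤ Q → Elem E → (∀ q ∈ Q, (∀ e ∈ E, e * q = q * e) → q ∈ E) →
      (∀ q ∈ Q, ∀ e ∈ E, q * e * q⁻¹ ∈ E) →
      Subgroup.centralizer (E : Set S) ≠ E → ∃ x ∈ N, x ∉ E ∧ ∀ e ∈ E, e * x = x * e := by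
    intro E hEQ hE hself hQE hne
    set C := Subgroup.centralizer (E : Set S) with hCdef
    have hQC : Q ≤ Subgroup.normalizer (C : Set S) := by
      intro q hq
      rw [Subgroup.mem_normalizer_iff]
      intro c
      constructor
      · intro hc
        refine Subgroup.mem_centralizer_iff.mpr fun e he => ?_
        have he' : q⁻¹ * e * q⁻¹⁻¹ ∈ E := hQE q⁻¹ (Q.inv_mem hq) e he
        rw [inv_inv] at he'
        have := Subgroup.mem_centralizer_iff.mp hc _ he'
        calc e * (q * c * q⁻¹) = q * ((q⁻¹ * e * q) * c) * q⁻¹ := by group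
          _ = q * (c * (q⁻¹ * e * q)) * q⁻¹ := by rw [this]
          _ = q * c * q⁻¹ * e := by group
      · intro hc
        refine Subgroup.mem_centralizer_iff.mpr fun e he => ?_
        have := Subgroup.mem_centralizer_iff.mp hc _ (hQE q hq e he)
        calc e * c = q⁻¹ * ((q * e * q⁻¹) * (q * c * q⁻¹)) * q := by group
          _ = q⁻¹ * ((q * c * q⁻¹) * (q * e * q⁻¹)) * q := by rw [this]
          _ = c * e := by group
    set U := Q ⊔ C with hU
    have hEC : E ≤ C := fun e he => Subgroup.mem_centralizer_iff.mpr fun f hf => hE.comm f hf e he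
    have hCQ : ¬ C ≤ Q := fun hle => hne (le_antisymm
      (fun c hc => hself c (hle hc) fun e he => Subgroup.mem_centralizer_iff.mp hc e he) hEC)
    have hlt : Q.subgroupOf U < ⊤ := by
      rw [lt_top_iff_ne_top, Ne, Subgroup.subgroupOf_eq_top]
      exact fun hle => hCQ (le_sup_right.trans hle)
    haveI := (hS.to_subgroup U).isNilpotent
    have hgt := Group.normalizerCondition_of_isNilpotent (G := U) _ hlt
    obtain ⟨⟨g, hgU⟩, hg, hgQ⟩ := SetLike.exists_of_lt hgt
    rw [hU] at hgU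
    have hgU' := hgU
    rw [← SetLike.mem_coe, Subgroup.coe_mul_of_left_le_normalizer_right Q C hQC] at hgU'
    obtain ⟨q, hq, c, hc, rfl⟩ := Set.mem_mul.mp hgU'
    have hqc : q * c ∈ N := by
      have h1 := Subgroup.mem_normalizer_iff.mp hg
      rw [hN, Subgroup.mem_normalizer_iff]
      intro w
      constructor
      · intro hw
        have hwU : w ∈ Q ⊔ C := Subgroup.mem_sup_left hw
        exact (h1 ⟨w, hwU⟩).mp hw
      · intro hw
        have hwU : w ∈ Q ⊔ C := by
          have hg' : q * c ∈ Q ⊔ C := hgU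
          have e : w = (q * c)⁻¹ * (q * c * w * (q * c)⁻¹) * (q * c) := by group
          rw [e]
          exact (Q ⊔ C).mul_mem ((Q ⊔ C).mul_mem ((Q ⊔ C).inv_mem hg') (Subgroup.mem_sup_left hw)) hg'
        exact (h1 ⟨w, hwU⟩).mpr hw
    have hcN : c ∈ N := by
      have := N.mul_mem (N.inv_mem (hQN hq)) hqc
      rwa [inv_mul_cancel_left] at this
    exact ⟨c, hcN, fun hcE => hgQ (Q.mul_mem hq (hEQ hcE)),
      fun e he => Subgroup.mem_centralizer_iff.mp hc e he⟩
  -- an element centralising `E` fixes nothing else of `Q` modulo `Z`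
  have hkey : ∀ E : Subgroup S, E ≤ Q → Z ≤ E → Elem E → Nat.card E = 8 →
      (∀ q ∈ Q, (∀ e ∈ E, e * q = q * e) → q ∈ E) →
      ∀ x ∈ N, x ∉ E → (∀ e ∈ E, e * x = x * e) → ∀ q ∈ Q, cm x q ∈ Z → q ∈ E := by
    intro E hEQ hZE hE hE8 hself x hxN hxE hxc q hq hxq
    by_contra hqE
    obtain ⟨⟨z, hzZ⟩, hz1, hzu⟩ := (Nat.card_eq_two_iff' (1 : Z)).mp h.cardZ
    have hZel : ∀ w ∈ Z, w = 1 ∨ w = z := fun w hw => by
      by_cases h1 : w = 1
      · exact Or.inl h1
      · exact Or.inr (congrArg Subtype.val ((hzu ⟨w, hw⟩ (fun e => h1 (congrArg Subtype.val e :))).trans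
          (hzu ⟨z, hzZ⟩ hz1).symm) :)
    have hcmZ : ∀ u ∈ Q, ∀ v ∈ Q, cm u v ∈ Z := fun u hu v hv => by
      have e : cm u v = (u * u) * ((u⁻¹ * v) * (u⁻¹ * v)) * (v * v)⁻¹ := by simp only [cm]; group
      rw [e]
      exact Z.mul_mem (Z.mul_mem (h.sq u hu) (h.sq _ (Q.mul_mem (Q.inv_mem hu) hv)))
        (Z.inv_mem (h.sq v hv))
    -- make `x` centralise `q`
    obtain ⟨y, hyN, hyE, hyc, hyq⟩ : ∃ y ∈ N, y ∉ E ∧ (∀ e ∈ E, e * y = y * e) ∧ y * q = q * y := by
      rcases hZel _ hxq with e | e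
      · exact ⟨x, hxN, hxE, hxc, cm_eq_one.mp e⟩
      obtain ⟨a, ha, haq⟩ : ∃ a ∈ E, a * q ≠ q * a := by
        by_contra hc
        push_neg at hc
        exact hqE (hself q hq hc)
      have haz : cm a q = z := (hZel _ (hcmZ a (hEQ ha) q hq)).resolve_left
        fun e' => haq (cm_eq_one.mp e')
      refine ⟨a * x, N.mul_mem (hQN (hEQ ha)) hxN, fun hax => hxE ?_, fun e he => ?_, cm_eq_one.mp ?_⟩
      · have := E.mul_mem (E.inv_mem ha) hax
        rwa [inv_mul_cancel_left] at this
      · rw [← mul_assoc, hE.comm e he a ha, mul_assoc, hxc e he, mul_assoc]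
      · have hz' : Commute a z := hE.comm a ha z (hZE hzZ)
        calc cm (a * x) q = a * cm x q * a⁻¹ * cm a q := by simp only [cm]; group
          _ = z * z := by rw [e, haz, hz'.eq, mul_inv_cancel_right]
          _ = 1 := hE.sq z (hZE hzZ)
    set H := Q ⊓ Subgroup.centralizer {y} with hH
    have hEH : E ≤ H := fun e he => ⟨hEQ he, Subgroup.mem_centralizer_singleton_iff.mpr (hyc e he)⟩
    have hqH : q ∈ H := ⟨hq, Subgroup.mem_centralizer_singleton_iff.mpr hyq.symm⟩
    by_cases hQH : Q ≤ H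
    · refine hyE (hself y (hC (Subgroup.mem_centralizer_iff.mpr fun w hw => ?_)) hyc)
      exact Subgroup.mem_centralizer_singleton_iff.mp (hQH hw).2
    obtain ⟨r, hr, hrH⟩ := SetLike.not_le_iff_exists.mp hQH
    have hHQ : H ≤ Q := inf_le_left
    have hyQ : ∀ w ∈ Q, y * w * y⁻¹ ∈ Q := fun w hw =>
      (Subgroup.mem_normalizer_iff.mp hyN w).mp hw
    set c := cm y r with hc_def
    have hcQ : c ∈ Q := Q.mul_mem (hyQ r hr) (Q.inv_mem hr)
    have hyr : y * r * y⁻¹ = c * r := by rw [hc_def, cm]; group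
    have hyfix : ∀ w ∈ H, y * w * y⁻¹ = w := fun w hw => by
      rw [← Subgroup.mem_centralizer_singleton_iff.mp hw.2, mul_inv_cancel_right]
    have hZH : ∀ w ∈ Z, w ∈ H := fun w hw => hEH (hZE hw)
    -- `c` is central in `H`
    have hcH : ∀ u ∈ H, u * c = c * u := by
      intro u hu
      have hcu := hcmZ u (hHQ hu) r hr
      have h1 : y * cm u r * y⁻¹ = cm u r := hyfix _ (hZH _ hcu)
      have h2 : y * cm u r * y⁻¹ = cm u (c * r) := by
        calc y * cm u r * y⁻¹ = cm (y * u * y⁻¹) (y * r * y⁻¹) := by simp only [cm]; group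
          _ = _ := by rw [hyfix u hu, hyr]
      rw [h2, cm_mul_right, h.central _ hcu c hcQ, mul_inv_cancel_right] at h1
      exact cm_eq_one.mp (mul_eq_right.mp h1)
    have hcr : c * r = r * c := by
      have hrr := h.sq r hr
      have h1 : y * (r * r) * y⁻¹ = r * r := hyfix _ (hZH _ hrr)
      have hcE : c ∈ E := hself c hcQ fun e he => hcH e (hEH he)
      have h2 : (c * r) * (c * r) = r * r := by
        rw [← hyr]
        calc (y * r * y⁻¹) * (y * r * y⁻¹) = y * (r * r) * y⁻¹ := by group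
          _ = _ := h1
      have h3 : c * r * c = r := mul_right_cancel (b := r) (by rw [mul_assoc]; exact h2)
      calc c * r = c * r * (c * c) := by rw [hE.sq c hcE, mul_one]
        _ = c * r * c * c := by group
        _ = r * c := by rw [h3]
    -- `H` and `r` generate `Q`
    have hgen : H ⊔ Subgroup.zpowers r = Q := by
      refine Subgroup.eq_of_le_of_card_ge (sup_le hHQ (Subgroup.zpowers_le.mpr hr)) ?_
      have hlt1 : E < H := lt_of_le_of_ne hEH fun e => hqE (e.symm ▸ hqH)
      have hlt2 : H < H ⊔ Subgroup.zpowers r := lt_of_le_of_ne le_sup_left fun e =>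
        hrH (e.symm ▸ Subgroup.mem_sup_right (Subgroup.mem_zpowers r))
      have c1 := Set.Finite.card_lt_card (Set.toFinite _) (SetLike.coe_ssubset_coe.mpr hlt1)
      have c2 := Set.Finite.card_lt_card (Set.toFinite _) (SetLike.coe_ssubset_coe.mpr hlt2)
      simp only [SetLike.coe_sort_coe] at c1 c2
      obtain ⟨i, hi⟩ := exists_two_pow hS H
      obtain ⟨j, hj⟩ := exists_two_pow hS (H ⊔ Subgroup.zpowers r)
      rw [hi] at c1 c2
      rw [hj] at c2
      rw [hE8] at c1
      rw [hj, h.card]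
      have h1 : 3 < i := by
        by_contra hh
        have : 2 ^ i ≤ 2 ^ 3 := Nat.pow_le_pow_right (by norm_num) (by omega)
        omega
      have h2 : i < j := (Nat.pow_lt_pow_iff_right Nat.one_lt_two).mp c2
      exact le_of_eq_of_le (by norm_num : (32 : ℕ) = 2 ^ 5)
        (Nat.pow_le_pow_right (by norm_num) (by omega))
    have hcZQ : ∀ w ∈ Q, w * c = c * w := fun w hw => by
      have hle : H ⊔ Subgroup.zpowers r ≤ Subgroup.centralizer {c} :=
        sup_le (fun u hu => Subgroup.mem_centralizer_singleton_iff.mpr (hcH u hu))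
          (Subgroup.zpowers_le.mpr (Subgroup.mem_centralizer_singleton_iff.mpr hcr.symm))
      exact Subgroup.mem_centralizer_singleton_iff.mp (hle (hgen.symm ▸ hw))
    have hcZ : c ∈ Z := h.meet ▸ (⟨h.self.1 c hcQ fun a ha => hcZQ a (h.le.1 ha),
      h.self.2 c hcQ fun b hb => hcZQ b (h.le.2 hb)⟩ : c ∈ A ⊓ B)
    have hc1 : c ≠ 1 := fun e => hrH ⟨hr,
      Subgroup.mem_centralizer_singleton_iff.mpr (cm_eq_one.mp e).symm⟩
    have hcz : c = z := (hZel c hcZ).resolve_left hc1
    -- remove the commutator with `r` by an element of `E` commuting with `q`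
    obtain ⟨a, ha, haq, har⟩ : ∃ a ∈ E, a * q = q * a ∧ a * r ≠ r * a := by
      by_contra hcon
      push_neg at hcon
      have hsub : E ⊓ Subgroup.centralizer {q} ≤ Z := fun a ha => by
        have haq := Subgroup.mem_centralizer_singleton_iff.mp ha.2
        have haQ : ∀ w ∈ Q, w * a = a * w := fun w hw => by
          have hcen : H ⊔ Subgroup.zpowers r ≤ Subgroup.centralizer {a} := by
            refine sup_le ?_ (Subgroup.zpowers_le.mpr
              (Subgroup.mem_centralizer_singleton_iff.mpr (hcon a ha.1 haq).symm))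
            let T : Subgroup S := Subgroup.centralizer {a}
            have hET : E ⊔ Subgroup.zpowers q ≤ T := sup_le
              (fun e he => Subgroup.mem_centralizer_singleton_iff.mpr (hE.comm e he a ha.1))
              (Subgroup.zpowers_le.mpr (Subgroup.mem_centralizer_singleton_iff.mpr haq.symm))
            have hEq : E ⊔ Subgroup.zpowers q = H := by
              have hle : E ⊔ Subgroup.zpowers q ≤ H := sup_le hEH (Subgroup.zpowers_le.mpr hqH)
              refine Subgroup.eq_of_le_of_card_ge hle ?_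
              have hlt : E < E ⊔ Subgroup.zpowers q := lt_of_le_of_ne le_sup_left fun e =>
                hqE (e.symm ▸ Subgroup.mem_sup_right (Subgroup.mem_zpowers q))
              have hlt2 : H < Q := lt_of_le_of_ne hHQ fun e => hrH (e.symm ▸ hr)
              have c1 := Set.Finite.card_lt_card (Set.toFinite _) (SetLike.coe_ssubset_coe.mpr hlt)
              have c2 := Set.Finite.card_lt_card (Set.toFinite _) (SetLike.coe_ssubset_coe.mpr hlt2)
              simp only [SetLike.coe_sort_coe] at c1 c2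
              obtain ⟨i, hi⟩ := exists_two_pow hS H
              obtain ⟨j, hj⟩ := exists_two_pow hS (E ⊔ Subgroup.zpowers q)
              rw [hE8, hj] at c1
              rw [hi, h.card] at c2
              rw [hi, hj]
              have h1 : 3 < j := by
                by_contra hh
                have : 2 ^ j ≤ 2 ^ 3 := Nat.pow_le_pow_right (by norm_num) (by omega)
                omega
              have h2 : i < 5 :=
                (Nat.pow_lt_pow_iff_right Nat.one_lt_two).mp (c2.trans_eq (by norm_num))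
              exact Nat.pow_le_pow_right (by norm_num) (by omega)
            exact hEq ▸ hET
          exact Subgroup.mem_centralizer_singleton_iff.mp (hcen (hgen.symm ▸ hw))
        exact h.meet ▸ (⟨h.self.1 a (hEQ ha.1) fun w hw => haQ w (h.le.1 hw),
          h.self.2 a (hEQ ha.1) fun w hw => haQ w (h.le.2 hw)⟩ : a ∈ A ⊓ B)
      have hn : ∀ e ∈ E, q * e * q⁻¹ ∈ E := fun e he => by
        have e' : q * e * q⁻¹ = cm q e * e := by simp only [cm]; group
        rw [e']
        exact E.mul_mem (hZE (hcmZ q hq e (hEQ he))) he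
      have h1 := card_cmImg E hE q hn
      have h2 := Subgroup.card_le_of_le hsub
      have h3 : Nat.card (cmImg E hE q hn) ≤ 2 := h.cardZ ▸ Subgroup.card_le_of_le (fun w hw => by
        obtain ⟨e, he, rfl⟩ := mem_cmImg.mp hw
        exact hcmZ q hq e (hEQ he))
      rw [h.cardZ] at h2
      rw [hE8] at h1
      nlinarith
    have haz : cm a r = z := (hZel _ (hcmZ a (hEQ ha) r hr)).resolve_left
      fun e => har (cm_eq_one.mp e)
    refine hyE ?_
    have hay : a * y ∈ E := by
      refine hself (a * y) (hC (Subgroup.mem_centralizer_iff.mpr fun w hw => ?_)) fun e he => ?_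
      · have hle : H ⊔ Subgroup.zpowers r ≤ Subgroup.centralizer {a * y} := by
          refine sup_le ?_ (Subgroup.zpowers_le.mpr
            (Subgroup.mem_centralizer_singleton_iff.mpr ?_))
          · intro u hu
            refine Subgroup.mem_centralizer_singleton_iff.mpr ?_
            have hua : Commute u a := by
              have hz1' : cm u a ∈ Z := hcmZ u (hHQ hu) a (hEQ ha)
              have hHle : E ⊔ Subgroup.zpowers q ≤ Subgroup.centralizer {a} := sup_le
                (fun e he => Subgroup.mem_centralizer_singleton_iff.mpr (hE.comm e he a ha))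
                (Subgroup.zpowers_le.mpr (Subgroup.mem_centralizer_singleton_iff.mpr haq.symm))
              have hHE : E ⊔ Subgroup.zpowers q = H := by
                have hle : E ⊔ Subgroup.zpowers q ≤ H := sup_le hEH (Subgroup.zpowers_le.mpr hqH)
                refine Subgroup.eq_of_le_of_card_ge hle ?_
                have hlt : E < E ⊔ Subgroup.zpowers q := lt_of_le_of_ne le_sup_left fun e =>
                  hqE (e.symm ▸ Subgroup.mem_sup_right (Subgroup.mem_zpowers q))
                have hlt2 : H < Q := lt_of_le_of_ne hHQ fun e => hrH (e.symm ▸ hr)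
                have c1 := Set.Finite.card_lt_card (Set.toFinite _) (SetLike.coe_ssubset_coe.mpr hlt)
                have c2 := Set.Finite.card_lt_card (Set.toFinite _) (SetLike.coe_ssubset_coe.mpr hlt2)
                simp only [SetLike.coe_sort_coe] at c1 c2
                obtain ⟨i, hi⟩ := exists_two_pow hS H
                obtain ⟨j, hj⟩ := exists_two_pow hS (E ⊔ Subgroup.zpowers q)
                rw [hE8, hj] at c1
                rw [hi, h.card] at c2
                rw [hi, hj]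
                have h1 : 3 < j := by
                  by_contra hh
                  have : 2 ^ j ≤ 2 ^ 3 := Nat.pow_le_pow_right (by norm_num) (by omega)
                  omega
                have h2 : i < 5 :=
                  (Nat.pow_lt_pow_iff_right Nat.one_lt_two).mp (c2.trans_eq (by norm_num))
                exact Nat.pow_le_pow_right (by norm_num) (by omega)
              exact Subgroup.mem_centralizer_singleton_iff.mp (hHle (hHE.symm ▸ hu))
            exact (hua.mul_right (Subgroup.mem_centralizer_singleton_iff.mp hu.2)).eq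
          · symm
            apply cm_eq_one.mp
            have hz' : Commute a z := hE.comm a ha z (hZE hzZ)
            calc cm (a * y) r = a * cm y r * a⁻¹ * cm a r := by simp only [cm]; group
              _ = z * z := by rw [← hc_def, hcz, haz, hz'.eq, mul_inv_cancel_right]
              _ = 1 := hE.sq z (hZE hzZ)
        exact Subgroup.mem_centralizer_singleton_iff.mp (hle (hgen.symm ▸ hw))
      · rw [← mul_assoc, hE.comm e he a ha, mul_assoc, hyc e he, mul_assoc]
    have := E.mul_mem (E.inv_mem ha) hay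
    rwa [inv_mul_cancel_left] at this
  have hnorm : ∀ E : Subgroup S, E ≤ Q → Z ≤ E → ∀ q ∈ Q, ∀ e ∈ E, q * e * q⁻¹ ∈ E := by
    intro E hEQ hZE q hq e he
    have e' : q * e * q⁻¹ = (q * q) * ((q⁻¹ * e) * (q⁻¹ * e)) * (e * e)⁻¹ * e := by group
    rw [e']
    exact E.mul_mem (hZE (Z.mul_mem (Z.mul_mem (h.sq q hq)
      (h.sq _ (Q.mul_mem (Q.inv_mem hq) (hEQ he)))) (Z.inv_mem (h.sq e (hEQ he))))) he
  by_cases hA : Subgroup.centralizer (A : Set S) = A
  · exact ⟨A, h.elem.1, h.cardA.1, hA⟩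
  by_cases hB : Subgroup.centralizer (B : Set S) = B
  · exact ⟨B, h.elem.2, h.cardA.2, hB⟩
  exfalso
  have hZA : Z ≤ A := h.meet ▸ inf_le_left
  have hZB : Z ≤ B := h.meet ▸ inf_le_right
  obtain ⟨x, hxN, hxA, hxc⟩ := hfail A h.le.1 h.elem.1 h.self.1 (hnorm A h.le.1 hZA) hA
  obtain ⟨y, hyN, hyB, hyc⟩ := hfail B h.le.2 h.elem.2 h.self.2 (hnorm B h.le.2 hZB) hB
  -- a fixed point of the normaliser on `Q` modulo `Z`
  haveI : (Q.subgroupOf N).Normal := Subgroup.normal_in_normalizer
  haveI : (Z.subgroupOf N).Normal := by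
    constructor
    intro z hz g
    rw [Subgroup.mem_subgroupOf] at hz ⊢
    have hzQ : (z : S) ∈ Q := h.le.1 (hZA hz)
    have hgz : (g : S) * z * (g : S)⁻¹ ∈ Q := (Subgroup.mem_normalizer_iff.mp g.2 _).mp hzQ
    have hcen : ∀ w ∈ Q, w * ((g : S) * z * (g : S)⁻¹) = ((g : S) * z * (g : S)⁻¹) * w := by
      intro w hw
      have hw' : (g : S)⁻¹ * w * (g : S) ∈ Q := by
        have := (Subgroup.mem_normalizer_iff.mp (N.inv_mem g.2) w).mp hw
        rwa [inv_inv] at this
      have h1 := h.central _ hz _ hw'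
      calc w * ((g : S) * z * (g : S)⁻¹) = g * (((g : S)⁻¹ * w * g) * z) * (g : S)⁻¹ := by group
        _ = g * ((z : S) * ((g : S)⁻¹ * w * g)) * (g : S)⁻¹ := by rw [h1]
        _ = _ := by group
    show (g : S) * z * (g : S)⁻¹ ∈ Z
    exact h.meet ▸ (⟨h.self.1 _ hgz fun a ha => hcen a (h.le.1 ha),
      h.self.2 _ hgz fun b hb => hcen b (h.le.2 hb)⟩ : _ ∈ A ⊓ B)
  obtain ⟨⟨q, hqN⟩, hq, hqZ, -, hqc⟩ := exists_central_mod (hS.to_subgroup N) (Z.subgroupOf N)
    (Q.subgroupOf N) (fun hle => by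
      have h1 : Q ≤ Z := fun w hw => hle (show (⟨w, hQN hw⟩ : N) ∈ Q.subgroupOf N from hw)
      have := Subgroup.card_le_of_le h1
      rw [h.card, h.cardZ] at this
      omega)
  have hqA := hkey A h.le.1 hZA h.elem.1 h.cardA.1 h.self.1 x hxN hxA hxc q hq (hqc ⟨x, hxN⟩)
  have hqB := hkey B h.le.2 hZB h.elem.2 h.cardA.2 h.self.2 y hyN hyB hyc q hq (hqc ⟨y, hyN⟩)
  exact hqZ (h.meet ▸ (⟨hqA, hqB⟩ : q ∈ A ⊓ B))

end CfsgLib.TwoRank
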