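import Cfsg.Agent.Lib.TwoRank.Basic
import Cfsg.Agent.Lib.TwoRank.AutEight
import Cfsg.Agent.Lib.Critical.Basic
import Cfsg.Agent.Lib.PGroup.NormalSub

/-!
Commutators of an involution with an elementary abelian subgroup it normalises.
-/

set_option autoImplicit false

namespace CfsgLib.TwoRank

variable {S : Type*} [Group S]

/-- The commutator `x v x⁻¹ v⁻¹`. -/
def cm (x v : S) : S := x * v * x⁻¹ * v⁻¹

theorem cm_eq_one {x v : S} : cm x v = 1 ↔ x * v = v * x := by
  rw [cm, mul_inv_eq_one, mul_inv_eq_iff_eq_mul]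

theorem cm_mul_right (x v w : S) : cm x (v * w) = cm x v * (v * cm x w * v⁻¹) := by
  simp only [cm]; group

theorem cm_swap (x v : S) : (cm x v)⁻¹ = cm v x := by
  simp only [cm]; group

/-- An elementary abelian 2-subgroup. -/
structure Elem (E : Subgroup S) : Prop where
  comm : ∀ a ∈ E, ∀ b ∈ E, a * b = b * a
  sq : ∀ a ∈ E, a * a = 1

theorem Elem.inv {E : Subgroup S} (hE : Elem E) {e : S} (he : e ∈ E) : e⁻¹ = e :=
  inv_eq_of_mul_eq_one_right (hE.sq e he)

theorem Elem.mono {E F : Subgroup S} (hE : Elem E) (hF : F ≤ E) : Elem F :=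
  ⟨fun a ha b hb => hE.comm a (hF ha) b (hF hb), fun a ha => hE.sq a (hF ha)⟩

theorem cm_fixed {E : Subgroup S} (hE : Elem E) {a x : S} (ha : a * a = 1) (h : cm a x ∈ E) :
    a * cm a x * a⁻¹ = cm a x := by
  have hai : a⁻¹ = a := inv_eq_of_mul_eq_one_right ha
  have e : cm a x * (a * cm a x * a⁻¹) = 1 := by
    have e1 : cm a x * (a * cm a x * a⁻¹) = a * x * a⁻¹ * x⁻¹ * ((a * a) * x * (a * a)⁻¹) *
        (a * x⁻¹ * a⁻¹) := by simp only [cm]; group
    rw [e1, ha, inv_one, mul_one, one_mul]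
    group
  rw [← inv_eq_of_mul_eq_one_right e]
  exact hE.inv h

theorem cm_mem_of_normalize {F : Subgroup S} {a : S} (hn : ∀ e ∈ F, a * e * a⁻¹ ∈ F) {e : S}
    (he : e ∈ F) : cm a e ∈ F := F.mul_mem (hn e he) (F.inv_mem he)

/-- The commutator map of `a` on `F`. -/
def cmHom (F : Subgroup S) (hF : Elem F) (a : S) (hn : ∀ e ∈ F, a * e * a⁻¹ ∈ F) : F →* F where
  toFun e := ⟨cm a e, cm_mem_of_normalize hn e.2⟩
  map_one' := Subtype.ext (by simp [cm])
  map_mul' x y := Subtype.ext (by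
    show cm a ((x : S) * y) = cm a x * cm a y
    rw [cm_mul_right]
    congr 1
    rw [hF.comm _ x.2 _ (cm_mem_of_normalize hn y.2), mul_inv_cancel_right])

/-- The image of the commutator map. -/
def cmImg (F : Subgroup S) (hF : Elem F) (a : S) (hn : ∀ e ∈ F, a * e * a⁻¹ ∈ F) : Subgroup S :=
  (cmHom F hF a hn).range.map F.subtype

theorem cmImg_le {F : Subgroup S} {hF : Elem F} {a : S} {hn : ∀ e ∈ F, a * e * a⁻¹ ∈ F} :
    cmImg F hF a hn ≤ F := by
  rintro _ ⟨e, -, rfl⟩
  exact e.2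

theorem mem_cmImg {F : Subgroup S} {hF : Elem F} {a : S} {hn : ∀ e ∈ F, a * e * a⁻¹ ∈ F} {x : S} :
    x ∈ cmImg F hF a hn ↔ ∃ e ∈ F, cm a e = x := by
  constructor
  · rintro ⟨_, ⟨e, rfl⟩, rfl⟩
    exact ⟨e, e.2, rfl⟩
  · rintro ⟨e, he, rfl⟩
    exact ⟨_, ⟨⟨e, he⟩, rfl⟩, rfl⟩

variable [Finite S]

theorem card_cmImg (F : Subgroup S) (hF : Elem F) (a : S) (hn : ∀ e ∈ F, a * e * a⁻¹ ∈ F) :
    Nat.card F = Nat.card (F ⊓ Subgroup.centralizer {a} : Subgroup S) *
      Nat.card (cmImg F hF a hn) := by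
  have h1 := (cmHom F hF a hn).ker.card_mul_index
  rw [Subgroup.index_ker] at h1
  rw [cmImg, Subgroup.card_map_of_injective F.subtype_injective, ← h1]
  congr 1
  exact Nat.card_congr
    { toFun := fun e => ⟨e.1.1, e.1.2, Subgroup.mem_centralizer_singleton_iff.mpr
        (cm_eq_one.mp (congrArg Subtype.val e.2)).symm⟩
      invFun := fun e => ⟨⟨e.1, e.2.1⟩, Subtype.ext
        (cm_eq_one.mpr (Subgroup.mem_centralizer_singleton_iff.mp e.2.2).symm)⟩
      left_inv := fun _ => rfl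
      right_inv := fun _ => rfl }

theorem cmImg_le_fixed {F : Subgroup S} {hF : Elem F} {a : S} {hn : ∀ e ∈ F, a * e * a⁻¹ ∈ F}
    (ha : a * a = 1) : cmImg F hF a hn ≤ F ⊓ Subgroup.centralizer {a} := by
  intro x hx
  obtain ⟨e, he, rfl⟩ := mem_cmImg.mp hx
  refine ⟨cm_mem_of_normalize hn he, Subgroup.mem_centralizer_singleton_iff.mpr ?_⟩
  exact (mul_inv_eq_iff_eq_mul.mp (cm_fixed hF ha (cm_mem_of_normalize hn he))).symm

/-- An involution fixes at least the square root of the order. -/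
theorem card_le_fixed_sq (F : Subgroup S) (hF : Elem F) (a : S) (ha : a * a = 1)
    (hn : ∀ e ∈ F, a * e * a⁻¹ ∈ F) :
    Nat.card F ≤ Nat.card (F ⊓ Subgroup.centralizer {a} : Subgroup S) *
      Nat.card (F ⊓ Subgroup.centralizer {a} : Subgroup S) :=
  (card_cmImg F hF a hn).le.trans
    (Nat.mul_le_mul_left _ (Subgroup.card_le_of_le (cmImg_le_fixed ha)))

/-- A non-trivial normal subgroup modulo `N` contains an element of order two modulo `N` which is
central modulo `N`. -/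
theorem exists_central_mod (hS : IsPGroup 2 S) (N M : Subgroup S) [N.Normal] [M.Normal]
    (h : ¬ M ≤ N) : ∃ x ∈ M, x ∉ N ∧ x * x ∈ N ∧ ∀ g, cm g x ∈ N := by
  haveI : Fact (Nat.Prime 2) := ⟨Nat.prime_two⟩
  haveI := (hS.to_quotient N).isNilpotent
  set f := QuotientGroup.mk' N
  haveI : (M.map f).Normal := Subgroup.Normal.map inferInstance f (QuotientGroup.mk'_surjective N)
  have hne : M.map f ≠ ⊥ := by
    rw [Ne, Subgroup.map_eq_bot_iff, QuotientGroup.ker_mk']
    exact h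
  have hI := Critical.inf_center_ne_bot (M.map f) hne
  obtain ⟨⟨q, hqM, hqc⟩, hq⟩ := exists_prime_orderOf_dvd_card' 2
    (((hS.to_quotient N).to_subgroup (M.map f ⊓ Subgroup.center _)).card_eq_or_dvd.resolve_left
      (fun e => hI (Subgroup.eq_bot_of_card_eq _ e)))
  replace hq : orderOf q = 2 := by rw [← hq]; exact Subgroup.orderOf_coe (⟨q, hqM, hqc⟩ : (M.map f ⊓ Subgroup.center (S ⧸ N) : Subgroup (S ⧸ N)))
  obtain ⟨x, hx, rfl⟩ := hqM
  refine ⟨x, hx, fun hN => ?_, ?_, fun g => ?_⟩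
  · rw [show f x = 1 from (QuotientGroup.eq_one_iff x).mpr hN, orderOf_one] at hq
    omega
  · apply (QuotientGroup.eq_one_iff _).mp
    show f (x * x) = 1
    rw [map_mul, ← pow_two, ← hq, pow_orderOf_eq_one]
  · apply (QuotientGroup.eq_one_iff _).mp
    show f (cm g x) = 1
    simp only [cm, map_mul, map_inv]
    rw [Subgroup.mem_center_iff.mp hqc (f g)]
    group

/-- The elements of a group of order four with two distinct marked involutions. -/
theorem four_cases {L : Subgroup S} (h4 : Nat.card L = 4) {s b : S} (hs : s ∈ L) (hs2 : s * s = 1)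
    (hb : b ∈ L) (hs1 : s ≠ 1) (hb1 : b ≠ 1) (hbs : b ≠ s) :
    ∀ l ∈ L, l = 1 ∨ l = s ∨ l = b ∨ l = b * s := by
  classical
  have hcard : ({1, s, b, b * s} : Finset S).card = 4 := by
    have h1 : b * s ≠ 1 := fun e => hbs (by
      rw [← inv_eq_of_mul_eq_one_right hs2]; exact eq_inv_of_mul_eq_one_left e)
    have h2 : b * s ≠ s := fun e => hb1 (mul_eq_right.mp e)
    have h3 : b * s ≠ b := fun e => hs1 (mul_eq_left.mp e)
    simp [Ne.symm hs1, Ne.symm hb1, Ne.symm hbs, Ne.symm h1, Ne.symm h2, Ne.symm h3]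
  intro l hl
  by_contra h
  push_neg at h
  have hsub : ∀ x ∈ insert l ({1, s, b, b * s} : Finset S), x ∈ L := by
    intro x hx
    simp only [Finset.mem_insert, Finset.mem_singleton] at hx
    rcases hx with rfl | rfl | rfl | rfl | rfl
    exacts [hl, L.one_mem, hs, hb, L.mul_mem hb hs]
  have h5 : (insert l ({1, s, b, b * s} : Finset S)).card = 5 := by
    rw [Finset.card_insert_of_notMem (by simp [h.1, h.2.1, h.2.2.1, h.2.2.2]), hcard]
  have := Nat.card_le_card_of_injective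
    (fun x : ↥(insert l ({1, s, b, b * s} : Finset S)) => (⟨x.1, hsub x.1 x.2⟩ : L))
    fun x y e => Subtype.ext (congrArg (fun t : L => (t : S)) e)
  rw [Nat.card_eq_finsetCard, h5, h4] at this
  omega

/-- A subgroup whose elements outside a subgroup `Z` have pairwise products in `Z`. -/
theorem card_le_two_mul_of_mul_mem (H Z : Subgroup S)
    (h : ∀ q ∈ H, q ∉ Z → ∀ r ∈ H, r ∉ Z → q * r ∈ Z) : Nat.card H ≤ 2 * Nat.card Z := by
  classical
  by_cases hall : H ≤ Z
  · have := Subgroup.card_le_of_le hall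
    omega
  obtain ⟨g, hg, hgZ⟩ := SetLike.not_le_iff_exists.mp hall
  have := Nat.card_le_card_of_injective
    (fun q : H => if hq : (q : S) ∈ Z then (true, (⟨q, hq⟩ : Z))
      else (false, ⟨g * q, h g hg hgZ q q.2 hq⟩))
    (fun q r e => by
      dsimp only at e
      split_ifs at e with h1 h2 h2
      · exact Subtype.ext (congrArg (fun t : Bool × Z => (t.2 : S)) e)
      · simp at e
      · simp at e
      · exact Subtype.ext (mul_left_cancel (congrArg (fun t : Bool × Z => (t.2 : S)) e)))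
  rwa [Nat.card_prod, Nat.card_eq_fintype_card (α := Bool), Fintype.card_bool] at this

/-- The automorphisms induced on a normal subgroup of order eight have sectional rank two. -/
theorem card_map_le_of_eight (hS : IsPGroup 2 S) (E : Subgroup S) [E.Normal] (hE : Elem E)
    (h8 : Nat.card E = 8) {X K : Subgroup S} (h : SqLE X K) :
    Nat.card (X.map (MulAut.conjNormal : S →* MulAut E)) ≤
      4 * Nat.card (K.map (MulAut.conjNormal : S →* MulAut E)) := by
  haveI : Fact (Nat.Prime 2) := ⟨Nat.prime_two⟩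
  obtain ⟨L, hLn, hLE, hL⟩ := CyclicMax.exists_normal_le_card_pow hS 1 (j := 2) E inferInstance
    (by rw [h8]; norm_num)
  obtain ⟨Z, hZn, hZL, hZ⟩ := CyclicMax.exists_normal_le_card_pow hS 1 (j := 1) L hLn
    (by rw [hL])
  rw [pow_one] at hZ
  obtain ⟨⟨s, hs⟩, hs1⟩ := Subgroup.ne_bot_iff_exists_ne_one.1
    (fun e : Z = ⊥ => by rw [e, Subgroup.card_bot] at hZ; omega)
  have hZel : ∀ t ∈ Z, t = 1 ∨ t = s := by
    intro t ht
    by_contra hc
    push_neg at hc
    obtain ⟨y, -, hy⟩ := (Nat.card_eq_two_iff' (1 : Z)).mp hZ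
    have h1 := hy ⟨t, ht⟩ (fun e => hc.1 (congrArg Subtype.val e))
    have h2 := hy ⟨s, hs⟩ hs1
    exact hc.2 (congrArg Subtype.val (h1.trans h2.symm))
  refine aut_eight h8 (L.subgroupOf E) ?_ ⟨s, hLE (hZL hs)⟩ (Subgroup.mem_subgroupOf.mpr (hZL hs))
    ?_ (Subtype.ext (hE.sq s (hLE (hZL hs)))) ((hS.to_subgroup X).map _) (h.map _) ?_ ?_
  · rw [Nat.card_congr (Subgroup.subgroupOfEquivOfLe hLE).toEquiv, hL]
    norm_num
  · exact fun e => hs1 (Subtype.ext (congrArg (fun w : E => (w : S)) e :))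
  · rintro _ ⟨g, -, rfl⟩ w hw
    rw [Subgroup.mem_subgroupOf, MulAut.conjNormal_apply]
    exact hLn.conj_mem _ hw g
  · rintro _ ⟨g, -, rfl⟩
    apply Subtype.ext
    rw [MulAut.conjNormal_apply]
    rcases hZel _ (hZn.conj_mem s hs g) with e | e
    · exfalso
      exact hs1 (Subtype.ext (mul_eq_left.mp (mul_inv_eq_one.mp e)))
    · exact e

end CfsgLib.TwoRank
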