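import Mathlib

/-!
The automorphisms of `(ℤ/4)²` fixing `(2, 0)` as pairs of images of the standard basis.
-/

set_option autoImplicit false

namespace CfsgLib.TwoRank.Mat

/-- A pair of images of the two basis vectors. -/
abbrev M4 := (ZMod 4 × ZMod 4) × (ZMod 4 × ZMod 4)

/-- Codes for the automorphisms congruent to one modulo two. -/
abbrev Q4 := ZMod 2 × ZMod 2 × ZMod 2 × ZMod 2

/-- The value of the endomorphism `m` at `v`. -/
def act (m : M4) (v : ZMod 4 × ZMod 4) : ZMod 4 × ZMod 4 :=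
  (v.1 * m.1.1 + v.2 * m.2.1, v.1 * m.1.2 + v.2 * m.2.2)

/-- Composition. -/
def mul4 (m n : M4) : M4 := (act m n.1, act m n.2)

theorem mul4_assoc : ∀ a b c : M4, mul4 (mul4 a b) c = mul4 a (mul4 b c) := by
  rintro ⟨⟨a1, a2⟩, a3, a4⟩ ⟨⟨b1, b2⟩, b3, b4⟩ ⟨⟨c1, c2⟩, c3, c4⟩
  simp only [mul4, act]
  ext <;> ring

/-- Fixes `(2, 0)`, second diagonal entry odd. -/
def InT (m : M4) : Prop := 2 * m.1.1 = 2 ∧ 2 * m.1.2 = 0 ∧ 2 * m.2.2 = 2

/-- Fixes the elements of order two. -/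
def InK (m : M4) : Prop := InT m ∧ 2 * m.2.1 = 0

instance (m : M4) : Decidable (InT m) := by unfold InT; infer_instance
instance (m : M4) : Decidable (InK m) := by unfold InK; infer_instance

def one4 : M4 := ((1, 0), (0, 1))

/-- The element `1 + 2A`, for `A` given by its columns. -/
def kOf (q : Q4) : M4 :=
  ((if q.1 = 1 then 3 else 1, if q.2.1 = 1 then 2 else 0),
    (if q.2.2.1 = 1 then 2 else 0, if q.2.2.2 = 1 then 3 else 1))

/-- The transvection. -/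
def tau4 : M4 := ((1, 0), (1, 1))

/-- The other coset. -/
def tOf (q : Q4) : M4 := mul4 (kOf q) tau4

/-- Conjugation by the transvection, on codes. -/
def flipQ (q : Q4) : Q4 :=
  (q.1 + q.2.1, q.2.1, q.1 + q.2.1 + q.2.2.1 + q.2.2.2, q.2.1 + q.2.2.2)

def qN : Q4 := (0, 0, 1, 0)
def qB : Q4 := (0, 1, 0, 0)
def qC : Q4 := (1, 1, 1, 1)
def qR : Q4 := (0, 1, 1, 1)
def qS : Q4 := (1, 1, 1, 0)
def qE : Q4 := (1, 0, 0, 0)
def qI : Q4 := (1, 0, 0, 1)

theorem two_mul_ne (v : ZMod 4 × ZMod 4) : ((2 * v.1, 2 * v.2) : ZMod 4 × ZMod 4) ≠ 0 →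
    ((2 * v.1, 2 * v.2) : ZMod 4 × ZMod 4) ≠ (2, 0) → 2 * v.2 = 2 := by
  revert v; decide

theorem exists_kOf : ∀ a b : ZMod 4, ∀ c d : ZMod 4, InK ((a, b), (c, d)) →
    ∃ q, kOf q = ((a, b), (c, d)) := by decide

theorem exists_tOf : ∀ a b : ZMod 4, ∀ c d : ZMod 4, InT ((a, b), (c, d)) →
    InK ((a, b), (c, d)) ∨ ∃ q, tOf q = ((a, b), (c, d)) := by decide

theorem kOf_inK : ∀ q, InK (kOf q) := by decide

theorem tOf_not_inK : ∀ q, ¬ InK (tOf q) := by decide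

theorem kOf_zero : kOf 0 = one4 := by decide

theorem kOf_inj : ∀ q r, kOf q = kOf r → q = r := by decide

theorem kOf_add : ∀ q r, mul4 (kOf q) (kOf r) = kOf (q + r) := by decide

theorem tau_kOf : ∀ r, mul4 tau4 (kOf r) = mul4 (kOf (flipQ r)) tau4 := by decide

theorem tau_sq : mul4 tau4 tau4 = kOf qN := by decide

theorem tOf_inj : ∀ q r, tOf q = tOf r → q = r := by decide

theorem kOf_tOf (q r : Q4) : mul4 (kOf q) (tOf r) = tOf (q + r) := by
  rw [tOf, ← mul4_assoc, kOf_add]; rfl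

theorem tOf_kOf (r q : Q4) : mul4 (tOf r) (kOf q) = tOf (r + flipQ q) := by
  rw [tOf, mul4_assoc, tau_kOf, ← mul4_assoc, kOf_add]; rfl

theorem tOf_tOf (r s : Q4) : mul4 (tOf r) (tOf s) = kOf (r + flipQ s + qN) := by
  rw [tOf, tOf, mul4_assoc, ← mul4_assoc tau4, tau_kOf, mul4_assoc (kOf (flipQ s)), tau_sq,
    kOf_add, kOf_add, add_assoc]

set_option synthInstance.maxSize 2000 in
theorem flip_fix_sum : ∀ a b : Q4, flipQ a = a → flipQ b = b → a ≠ 0 → b ≠ 0 → a ≠ b →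
    a = qN ∨ b = qN ∨ a + b = qN := by decide

theorem flip_sum_fixed : ∀ a, flipQ (a + flipQ a) = a + flipQ a := by decide

theorem flip_fixed_cases : ∀ a, flipQ a = a → a = 0 ∨ a = qI ∨ a = qN ∨ a = qI + qN := by decide

theorem flipQ_add : ∀ a b, flipQ (a + b) = flipQ a + flipQ b := by decide

theorem flip_qN : flipQ qN = qN := by decide

theorem qE_flip : qE + flipQ qE = qN ∧ (qN + qE) + flipQ (qN + qE) = qN := by decide

theorem triple_eq : (qN + qB) + (qR + qS) = qC := by decide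

theorem kOf_fix : ∀ q, ∀ v : ZMod 4 × ZMod 4, 2 * v.1 = 0 → 2 * v.2 = 0 → act (kOf q) v = v := by
  decide

/-- The codes of the elements acting freely. -/
def IsFreeCode (q : Q4) : Prop := q = qN ∨ q = qB ∨ q = qC ∨ q = qR ∨ q = qS

theorem free_eq : ∀ v : ZMod 4 × ZMod 4,
    (act (kOf qN) v + v = 0 ∨ act (kOf qB) v + v = 0 ∨ act (kOf qC) v + v = 0 ∨
      act (kOf qR) v + v = 0 ∨ act (kOf qS) v + v = 0) → 2 * v.1 = 0 ∧ 2 * v.2 = 0 := by decide

theorem qR_fix : ∀ v : ZMod 4 × ZMod 4, act (kOf qR) v = v → 2 * v.1 = 0 ∧ 2 * v.2 = 0 := by decide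

theorem free_ne_zero : qN ≠ 0 ∧ qB ≠ 0 ∧ qC ≠ 0 ∧ qR ≠ 0 ∧ qS ≠ 0 := by decide

end CfsgLib.TwoRank.Mat
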