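import Cfsg.Agent.Lib.TwoRank.Core
import Cfsg.Agent.Lib.TwoRank.Mat
import Cfsg.Agent.Lib.Critical.Basic

/-!
Coordinates on a core `W` of order sixteen.
-/

set_option autoImplicit false

namespace CfsgLib.TwoRank

open Mat

variable {P : Type*} [Group P] [Finite P] {W : Subgroup P}

/-- An identification of `W` with `(ℤ/4)²` in which `(2, 0)` is central in the ambient group. -/
structure Coord (W : Subgroup P) where
  e : Multiplicative (ZMod 4 × ZMod 4) ≃* W
  fixed : ∀ g : P, g * (e (Multiplicative.ofAdd (2, 0)) : P) * g⁻¹ = e (Multiplicative.ofAdd (2, 0))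

theorem pow_val_add {G : Type*} [Monoid G] {x : G} (hx : x ^ 4 = 1) (a b : ZMod 4) :
    x ^ (a + b).val = x ^ a.val * x ^ b.val := by
  rw [ZMod.val_add, ← pow_add, ← pow_eq_pow_mod _ hx]

theorem exists_coord (hP : IsPGroup 2 P) (hW : IsCore W) (hno : NoEight P)
    (h16 : Nat.card W = 16) : Nonempty (Coord W) := by
  classical
  haveI : Fact (Nat.Prime 2) := ⟨Nat.prime_two⟩
  haveI := hP.isNilpotent
  haveI := hW.omega_normal
  obtain ⟨h4, hsurj⟩ := hW.sq_surj hno h16
  have hne : hW.omega ≠ ⊥ := fun e => by rw [e, Subgroup.card_bot] at h4; omega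
  obtain ⟨⟨z, hzΩ, hzc⟩, hz1⟩ := Subgroup.ne_bot_iff_exists_ne_one.1
    (Critical.inf_center_ne_bot hW.omega hne)
  have hz1' : z ≠ 1 := fun e => hz1 (Subtype.ext e)
  obtain ⟨z2, hz2Ω, hz21, hz2z⟩ : ∃ z2 ∈ hW.omega, z2 ≠ 1 ∧ z2 ≠ z := by
    by_contra h
    push_neg at h
    have := Nat.card_le_card_of_injective (fun l : hW.omega => decide ((l : P) = 1))
      fun x y e => by
        have e' := decide_eq_decide.mp e
        by_cases hx : (x : P) = 1
        · exact Subtype.ext (hx.trans (e'.mp hx).symm)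
        · exact Subtype.ext ((h x x.2 hx).trans (h y y.2 (fun h' => hx (e'.mpr h'))).symm)
    rw [h4] at this
    simp at this
  obtain ⟨a, ha, haz⟩ := hsurj z hzΩ
  obtain ⟨b, hb, hbz⟩ := hsurj z2 hz2Ω
  set a' : W := ⟨a, ha⟩
  set b' : W := ⟨b, hb⟩
  have ha4 : a' ^ 4 = 1 := Subtype.ext (hW.pow_four a ha)
  have hb4 : b' ^ 4 = 1 := Subtype.ext (hW.pow_four b hb)
  have hcW : ∀ x y : W, Commute x y := fun x y => Subtype.ext (hW.comm _ y.2 _ x.2)
  let f : Multiplicative (ZMod 4 × ZMod 4) →* W :=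
    { toFun := fun v => a' ^ (Multiplicative.toAdd v).1.val * b' ^ (Multiplicative.toAdd v).2.val
      map_one' := by simp
      map_mul' := fun u v => by
        rw [toAdd_mul, Prod.fst_add, Prod.snd_add, pow_val_add ha4, pow_val_add hb4]
        exact Commute.mul_mul_mul_comm (hcW _ _) _ _ }
  have h20 : (f (Multiplicative.ofAdd (2, 0)) : P) = z := by
    show (((a' ^ (2 : ZMod 4).val * b' ^ (0 : ZMod 4).val : W)) : P) = z
    rw [show (2 : ZMod 4).val = 2 from rfl, ZMod.val_zero, pow_zero, mul_one,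
      SubgroupClass.coe_pow]
    exact haz
  have h02 : (f (Multiplicative.ofAdd (0, 2)) : P) = z2 := by
    show (((a' ^ (0 : ZMod 4).val * b' ^ (2 : ZMod 4).val : W)) : P) = z2
    rw [show (2 : ZMod 4).val = 2 from rfl, ZMod.val_zero, pow_zero, one_mul,
      SubgroupClass.coe_pow]
    exact hbz
  have hinj : Function.Injective f := by
    rw [injective_iff_map_eq_one]
    intro v hv
    have hcases : ∀ v : ZMod 4 × ZMod 4, v = 0 ∨ v = (2, 0) ∨ v = (0, 2) ∨ v = (2, 0) + (0, 2) ∨
        v + v = (2, 0) ∨ v + v = (0, 2) ∨ v + v = (2, 0) + (0, 2) := by decide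
    have hv0 : ∀ u : ZMod 4 × ZMod 4, f (Multiplicative.ofAdd u) = 1 →
        u ≠ (2, 0) ∧ u ≠ (0, 2) ∧ u ≠ (2, 0) + (0, 2) := by
      intro u hu
      refine ⟨?_, ?_, ?_⟩ <;> rintro rfl
      · exact hz1' (by rw [← h20, hu]; rfl)
      · exact hz21 (by rw [← h02, hu]; rfl)
      · rw [ofAdd_add, map_mul] at hu
        have e : z * z2 = 1 := by rw [← h20, ← h02, ← Subgroup.coe_mul, hu]; rfl
        have hzz : z * z = 1 := by rw [← pow_two]; exact hzΩ.2
        exact hz2z (mul_left_cancel (e.trans hzz.symm))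
    have h1 := hv0 (Multiplicative.toAdd v) hv
    have h2 := hv0 (Multiplicative.toAdd v + Multiplicative.toAdd v)
      (by rw [ofAdd_add, map_mul, ofAdd_toAdd, hv, one_mul])
    rcases hcases (Multiplicative.toAdd v) with h | h | h | h | h | h | h
    · exact h
    · exact absurd h h1.1
    · exact absurd h h1.2.1
    · exact absurd h h1.2.2
    · exact absurd h h2.1
    · exact absurd h h2.2.1
    · exact absurd h h2.2.2
  have hbij : Function.Bijective f := by
    refine (Nat.bijective_iff_injective_and_card f).mpr ⟨hinj, ?_⟩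
    rw [h16]
    simp [Nat.card_eq_fintype_card]
  refine ⟨⟨MulEquiv.ofBijective f hbij, fun g => ?_⟩⟩
  show g * (f (Multiplicative.ofAdd (2, 0)) : P) * g⁻¹ = f (Multiplicative.ofAdd (2, 0))
  rw [h20, Subgroup.mem_center_iff.mp hzc g, mul_inv_cancel_right]

/-- The coordinates of an element. -/
def Coord.vec (C : Coord W) (w : W) : ZMod 4 × ZMod 4 := Multiplicative.toAdd (C.e.symm w)

theorem Coord.vec_mul (C : Coord W) (v w : W) : C.vec (v * w) = C.vec v + C.vec w := by
  simp [Coord.vec]

theorem Coord.vec_one (C : Coord W) : C.vec 1 = 0 := by simp [Coord.vec]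

theorem Coord.vec_inj (C : Coord W) {v w : W} (h : C.vec v = C.vec w) : v = w :=
  C.e.symm.injective (Multiplicative.toAdd.injective h)

theorem Coord.sq_iff (C : Coord W) (w : W) :
    w ^ 2 = 1 ↔ 2 * (C.vec w).1 = 0 ∧ 2 * (C.vec w).2 = 0 := by
  rw [pow_two]
  constructor
  · intro h
    have := C.vec_mul w w
    rw [h, C.vec_one] at this
    exact ⟨by rw [two_mul]; exact (congrArg Prod.fst this).symm,
      by rw [two_mul]; exact (congrArg Prod.snd this).symm⟩
  · intro h
    apply C.vec_inj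
    rw [C.vec_mul, C.vec_one]
    exact Prod.ext (by rw [Prod.fst_add, ← two_mul]; exact h.1)
      (by rw [Prod.snd_add, ← two_mul]; exact h.2)

/-- The matrix of an automorphism. -/
def Coord.mat (C : Coord W) (α : MulAut W) : M4 :=
  (C.vec (α (C.e (Multiplicative.ofAdd (1, 0)))), C.vec (α (C.e (Multiplicative.ofAdd (0, 1)))))

theorem Coord.act_mat (C : Coord W) (α : MulAut W) (w : W) :
    C.vec (α w) = act (C.mat α) (C.vec w) := by
  let g : (ZMod 4 × ZMod 4) →+ (ZMod 4 × ZMod 4) :=
    { toFun := fun v => C.vec (α (C.e (Multiplicative.ofAdd v)))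
      map_zero' := by simp [Coord.vec]
      map_add' := fun u v => by rw [ofAdd_add, map_mul, map_mul, C.vec_mul] }
  have h : ∀ v : ZMod 4 × ZMod 4, g v = act (g (1, 0), g (0, 1)) v := by
    intro v
    have hv : v = v.1.val • (1, 0) + v.2.val • (0, 1) := by
      apply Prod.ext <;> simp
    conv_lhs => rw [hv, map_add, map_nsmul, map_nsmul]
    apply Prod.ext <;> simp [act]
  have := h (C.vec w)
  simp only [g, AddMonoidHom.coe_mk, ZeroHom.coe_mk] at this
  rw [Coord.vec, Coord.vec, ofAdd_toAdd, MulEquiv.apply_symm_apply] at this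
  exact this

theorem Coord.mat_mul (C : Coord W) (α β : MulAut W) :
    C.mat (α * β) = mul4 (C.mat α) (C.mat β) := by
  apply Prod.ext
  · exact C.act_mat α _
  · exact C.act_mat α _

theorem Coord.mat_one (C : Coord W) : C.mat 1 = one4 := by
  simp [Coord.mat, Coord.vec, one4]

theorem Coord.mat_inj (C : Coord W) {α β : MulAut W} (h : C.mat α = C.mat β) : α = β := by
  apply MulEquiv.ext
  intro w
  apply C.vec_inj
  rw [C.act_mat, C.act_mat, h]

theorem Coord.mat_inT (C : Coord W) [W.Normal] (g : P) : InT (C.mat (MulAut.conjNormal g)) := by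
  set α : MulAut W := MulAut.conjNormal g
  set z := C.e (Multiplicative.ofAdd (2, 0))
  have hfix : α z = z := Subtype.ext (by rw [MulAut.conjNormal_apply]; exact C.fixed g)
  have h1 := C.act_mat α z
  have hvz : C.vec z = (2, 0) := by simp [Coord.vec, z]
  rw [hfix, hvz] at h1
  have ha : 2 * (C.mat α).1.1 = 2 := by
    have := congrArg Prod.fst h1
    simpa [act] using this.symm
  have hb : 2 * (C.mat α).1.2 = 0 := by
    have := congrArg Prod.snd h1
    simpa [act] using this.symm
  refine ⟨ha, hb, ?_⟩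
  set w := C.e (Multiplicative.ofAdd (0, 2))
  have hvw : C.vec w = (0, 2) := by simp [Coord.vec, w]
  have h2 := C.act_mat α w
  rw [hvw] at h2
  have h2' : C.vec (α w) = (2 * (C.mat α).2.1, 2 * (C.mat α).2.2) := by
    rw [h2]; simp [act]
  refine two_mul_ne (C.mat α).2 ?_ ?_
  · rw [← h2', ← C.vec_one]
    intro e
    have e' := (map_eq_one_iff α (MulEquiv.injective α)).mp (C.vec_inj e)
    have hbad := congrArg C.vec e'
    rw [hvw, C.vec_one] at hbad
    exact absurd hbad (by decide)
  · rw [← h2']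
    intro e
    have e' : α w = α z := by
      rw [hfix]
      exact C.vec_inj (e.trans hvz.symm)
    have hbad := congrArg C.vec (MulEquiv.injective α e')
    rw [hvw, hvz] at hbad
    exact absurd hbad (by decide)

end CfsgLib.TwoRank
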