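import Cfsg.Agent.Lib.TwoRank.Alperin

/-!
A 2-group without normal elementary abelian subgroups of order eight: the centraliser of a maximal
normal abelian subgroup `W` of exponent four, and elements acting on `W` without inverting fixed
points outside the involutions.
-/

set_option autoImplicit false

namespace CfsgLib.TwoRank

variable {P : Type*} [Group P] {W : Subgroup P}

/-- The elements of `W` of square one. -/
def IsCore.omega (hW : IsCore W) : Subgroup P where
  carrier := {w | w ∈ W ∧ w ^ 2 = 1}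
  one_mem' := ⟨W.one_mem, one_pow 2⟩
  mul_mem' {a b} ha hb := ⟨W.mul_mem ha.1 hb.1, by
    rw [Commute.mul_pow (hW.comm _ hb.1 _ ha.1), ha.2, hb.2, one_mul]⟩
  inv_mem' {a} ha := ⟨W.inv_mem ha.1, by rw [inv_pow, ha.2, inv_one]⟩

theorem IsCore.omega_le (hW : IsCore W) : hW.omega ≤ W := fun _ h => h.1

theorem IsCore.omega_conj (hW : IsCore W) {w : P} (hw : w ∈ hW.omega) (g : P) :
    g * w * g⁻¹ ∈ hW.omega :=
  ⟨hW.normal.conj_mem _ hw.1 g, by rw [conj_pow, hw.2, mul_one, mul_inv_cancel]⟩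

theorem IsCore.omega_normal (hW : IsCore W) : hW.omega.Normal :=
  ⟨fun _ hn g => hW.omega_conj hn g⟩

theorem IsCore.sq_mem_omega (hW : IsCore W) {w : P} (hw : w ∈ W) : w ^ 2 ∈ hW.omega :=
  ⟨W.pow_mem hw 2, by rw [← pow_mul]; exact hW.pow_four w hw⟩

/-- The property of a 2-group to have no normal elementary abelian subgroup of order eight. -/
def NoEight (P : Type*) [Group P] : Prop :=
  ∀ A : Subgroup P, A.Normal → IsMulCommutative A → (∀ a ∈ A, a ^ 2 = 1) → Nat.card A ≤ 4

theorem IsCore.omega_card_le (hW : IsCore W) (hno : NoEight P) : Nat.card hW.omega ≤ 4 :=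
  hno _ hW.omega_normal ⟨⟨fun a b => Subtype.ext (hW.comm _ b.2.1 _ a.2.1)⟩⟩ fun _ ha => ha.2

/-- The squaring map of `W` into its involutions. -/
def IsCore.sqHom (hW : IsCore W) : W →* hW.omega where
  toFun w := ⟨(w : P) ^ 2, hW.sq_mem_omega w.2⟩
  map_one' := Subtype.ext (one_pow 2)
  map_mul' a b := Subtype.ext (Commute.mul_pow (hW.comm _ b.2 _ a.2) 2)

variable [Finite P]

theorem IsCore.card_sqHom (hW : IsCore W) :
    Nat.card W = Nat.card hW.omega * Nat.card hW.sqHom.range := by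
  have h1 := hW.sqHom.ker.card_mul_index
  rw [Subgroup.index_ker] at h1
  rw [← h1]
  congr 1
  exact Nat.card_congr
    { toFun := fun w => ⟨w.1.1, w.1.2, congrArg Subtype.val w.2⟩
      invFun := fun w => ⟨⟨w.1, w.2.1⟩, Subtype.ext w.2.2⟩
      left_inv := fun _ => rfl
      right_inv := fun _ => rfl }

theorem IsCore.card_le_sixteen (hW : IsCore W) (hno : NoEight P) : Nat.card W ≤ 16 := by
  rw [hW.card_sqHom]
  calc _ ≤ 4 * 4 := Nat.mul_le_mul (hW.omega_card_le hno)
        ((Subgroup.card_le_card_group _).trans (hW.omega_card_le hno))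
    _ = 16 := rfl

theorem IsCore.sq_surj (hW : IsCore W) (hno : NoEight P) (h16 : Nat.card W = 16) :
    Nat.card hW.omega = 4 ∧ ∀ z ∈ hW.omega, ∃ w ∈ W, w ^ 2 = z := by
  have h1 := hW.card_sqHom
  have h2 := hW.omega_card_le hno
  have h3 := Subgroup.card_le_card_group hW.sqHom.range
  rw [h16] at h1
  have h4 : Nat.card hW.omega = 4 := by nlinarith
  rw [h4] at h1
  have h5 : hW.sqHom.range = ⊤ := Subgroup.eq_top_of_card_eq _ (by omega)
  refine ⟨h4, fun z hz => ?_⟩
  obtain ⟨w, hw⟩ := MonoidHom.range_eq_top.mp h5 ⟨z, hz⟩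
  exact ⟨w.1, w.2, congrArg Subtype.val hw⟩

/-- The subgroup generated by the squares of `C(W)`. -/
def sqC (W : Subgroup P) : Subgroup P :=
  Subgroup.closure {z | ∃ c ∈ Subgroup.centralizer (W : Set P), z = c * c}

/-- `x` centralises the involutions of `W` and inverts no further element of `W`. -/
structure IsFree (hW : IsCore W) (x : P) : Prop where
  fix : ∀ w ∈ hW.omega, x * w * x⁻¹ = w
  free : ∀ w ∈ W, x * w * x⁻¹ * w = 1 → w ^ 2 = 1

omit [Finite P] in
theorem IsCore.conj_mul_inv (hW : IsCore W) {x : P} (hx : ∀ w ∈ hW.omega, x * w * x⁻¹ = w) {w : P}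
    (hw : w ∈ W) : x * w * x⁻¹ * w⁻¹ ∈ hW.omega := by
  have h1 : x * w * x⁻¹ ∈ W := hW.normal.conj_mem w hw x
  refine ⟨W.mul_mem h1 (W.inv_mem hw), ?_⟩
  rw [Commute.mul_pow (hW.comm _ (W.inv_mem hw) _ h1), conj_pow, hx _ (hW.sq_mem_omega hw),
    inv_pow, mul_inv_cancel]

omit [Finite P] in
theorem IsFree.tau_mem {hW : IsCore W} {x : P} (hx : IsFree hW x) {w : P} (hw : w ∈ W) :
    x * w * x⁻¹ * w ∈ hW.omega := by
  have h1 : x * w * x⁻¹ ∈ W := hW.normal.conj_mem w hw x
  refine ⟨W.mul_mem h1 hw, ?_⟩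
  rw [Commute.mul_pow (hW.comm _ hw _ h1), conj_pow, hx.fix _ (hW.sq_mem_omega hw), ← pow_add,
    hW.pow_four w hw]

theorem IsFree.tau_surj {hW : IsCore W} {x : P} (hx : IsFree hW x) (hno : NoEight P)
    (h16 : Nat.card W = 16) {z : P} (hz : z ∈ hW.omega) :
    ∃ w ∈ W, x * w * x⁻¹ * w = z := by
  let t : W →* hW.omega :=
    { toFun := fun w => ⟨x * w * x⁻¹ * w, hx.tau_mem w.2⟩
      map_one' := Subtype.ext (by simp)
      map_mul' := fun a b => Subtype.ext (by
        show x * ((a : P) * b) * x⁻¹ * ((a : P) * b) = (x * a * x⁻¹ * a) * (x * b * x⁻¹ * b)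
        have h1 : x * (b : P) * x⁻¹ ∈ W := hW.normal.conj_mem _ b.2 x
        have c1 : (a : P) * (x * b * x⁻¹) = (x * b * x⁻¹) * a := hW.comm _ h1 _ a.2
        calc x * ((a : P) * b) * x⁻¹ * ((a : P) * b)
            = (x * a * x⁻¹) * ((x * b * x⁻¹) * a) * b := by group
          _ = (x * a * x⁻¹) * (a * (x * b * x⁻¹)) * b := by rw [c1]
          _ = _ := by group) }
  obtain ⟨h4, -⟩ := hW.sq_surj hno h16
  have h1 := t.ker.card_mul_index
  rw [Subgroup.index_ker, h16] at h1
  have h2 : Nat.card t.ker ≤ 4 := by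
    refine le_trans (Nat.card_le_card_of_injective
      (fun w : t.ker => (⟨w.1.1, w.1.2, hx.free _ w.1.2 (congrArg Subtype.val w.2)⟩ : hW.omega))
      fun a b e => Subtype.ext (Subtype.ext (congrArg (fun s : hW.omega => (s : P)) e))) h4.le
  have h3 := Subgroup.card_le_card_group t.range
  rw [h4] at h3
  have h5 : t.range = ⊤ := Subgroup.eq_top_of_card_eq _ (by nlinarith)
  obtain ⟨w, hw⟩ := MonoidHom.range_eq_top.mp h5 ⟨z, hz⟩
  exact ⟨w.1, w.2, congrArg Subtype.val hw⟩

/-- Consequences of an element acting freely whose square is a product of squares of `C(W)`. -/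
theorem IsFree.centralizer_facts {hW : IsCore W} {x : P} (hP : IsPGroup 2 P) (hno : NoEight P)
    (h16 : Nat.card W = 16) (hx : IsFree hW x) (hxC : x ∉ Subgroup.centralizer (W : Set P))
    (hsq : x * x ∈ sqC W) :
    (∀ a ∈ Subgroup.centralizer (W : Set P), ∀ b ∈ Subgroup.centralizer (W : Set P),
        a * b = b * a) ∧
      (∀ c ∈ Subgroup.centralizer (W : Set P), x * c * x⁻¹ * c⁻¹ ∈ hW.omega) ∧
      ∃ k ∈ Subgroup.centralizer (W : Set P), (k⁻¹ * x) * (k⁻¹ * x) ∈ hW.omega := by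
  haveI : Fact (Nat.Prime 2) := ⟨Nat.prime_two⟩
  haveI := hW.normal
  obtain ⟨h4, hsurj⟩ := hW.sq_surj hno h16
  set C := Subgroup.centralizer (W : Set P) with hCdef
  haveI hCn : C.Normal := by rw [hCdef]; infer_instance
  have hWC : ∀ {w c : P}, w ∈ W → c ∈ C → c * w = w * c := fun hw hc =>
    (Subgroup.mem_centralizer_iff.mp hc _ hw).symm
  have hal : ∀ {c : P}, c ∈ C → c ^ 4 = 1 → c ∈ W := fun hc h => hW.mem_of_pow_four hP hc h
  have hC2 : IsPGroup 2 C := hP.to_subgroup C
  have homC : OmTwoCentral C := fun c hc g => Subtype.ext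
    (hWC (hal c.2 (by rw [← SubgroupClass.coe_pow, hc, C.coe_one])) g.2)
  haveI hn1 := omegaOne_normal homC
  set f1 := QuotientGroup.mk' (omegaOne homC) with hf1
  have hk1 : ∀ c : C, f1 c = 1 ↔ c ^ 2 = 1 := fun c => QuotientGroup.eq_one_iff c
  have hom1 := homC.quotient hC2 f1 (QuotientGroup.mk'_surjective _) hk1
  have hW8 : ∀ {c : P}, c ∈ C → c ^ 8 = 1 → c ^ 2 ∈ W := fun hc h =>
    hal (C.pow_mem hc 2) (by rw [← pow_mul]; exact h)
  have hlow : ∀ {c g : P}, c ∈ C → c ^ 8 = 1 → g ∈ C → g * c * g⁻¹ * c⁻¹ ∈ hW.omega := by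
    intro c g hc h8 hg
    have h1 : f1 ⟨c, hc⟩ ^ 4 = 1 := by
      rw [← map_pow, hk1]
      exact Subtype.ext (by rw [SubgroupClass.coe_pow, SubgroupClass.coe_pow, ← pow_mul]; exact h8)
    have h2 := hom1 _ h1 (f1 ⟨g, hg⟩)
    have h3 : f1 (⟨g, hg⟩ * ⟨c, hc⟩ * ⟨g, hg⟩⁻¹ * ⟨c, hc⟩⁻¹) = 1 := by
      simp only [map_mul, map_inv]
      rw [h2]
      group
    have h4' : (g * c * g⁻¹ * c⁻¹) ^ 2 = 1 := congrArg Subtype.val ((hk1 _).mp h3)
    exact ⟨hal (C.mul_mem (C.mul_mem (C.mul_mem hg hc) (C.inv_mem hg)) (C.inv_mem hc))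
      (by rw [show (4 : ℕ) = 2 * 2 from rfl, pow_mul, h4', one_pow]), h4'⟩
  have hC2c : ∀ {c : P}, c ∈ C → c ^ 8 = 1 → ∀ s ∈ sqC W, s * c = c * s := by
    intro c hc h8 s hs
    have hle : sqC W ≤ Subgroup.centralizer {c} := by
      refine (Subgroup.closure_le _).mpr ?_
      rintro _ ⟨k, hk, rfl⟩
      rw [SetLike.mem_coe, Subgroup.mem_centralizer_singleton_iff]
      have he := hlow hc h8 hk
      set e := k * c * k⁻¹ * c⁻¹ with hedef
      have hkc : k * c * k⁻¹ = e * c := by rw [hedef]; group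
      have hke : k * e = e * k := hWC he.1 hk
      have h1 : (k * k) * c * (k * k)⁻¹ = c := by
        calc (k * k) * c * (k * k)⁻¹ = k * (k * c * k⁻¹) * k⁻¹ := by group
          _ = (k * e) * c * k⁻¹ := by rw [hkc]; group
          _ = e * (k * c * k⁻¹) := by rw [hke]; group
          _ = e ^ 2 * c := by rw [hkc, pow_two]; group
          _ = c := by rw [he.2, one_mul]
      exact (mul_inv_eq_iff_eq_mul.mp h1)
    exact Subgroup.mem_centralizer_singleton_iff.mp (hle hs)
  -- the action on the elements of order dividing eight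
  have hom8 : ∀ {c : P}, c ∈ C → c ^ 8 = 1 →
      x * c * x⁻¹ * c⁻¹ ∈ hW.omega ∧ x * c ^ 2 * x⁻¹ = c ^ 2 := by
    intro c hc h8
    have hw : x * c * x⁻¹ ∈ C := hCn.conj_mem c hc x
    set u := x * c * x⁻¹ * c⁻¹ with hu
    have huC : u ∈ C := C.mul_mem hw (C.inv_mem hc)
    have h1 : f1 ⟨c, hc⟩ ^ 4 = 1 := by
      rw [← map_pow, hk1]
      exact Subtype.ext (by rw [SubgroupClass.coe_pow, SubgroupClass.coe_pow, ← pow_mul]; exact h8)
    have hu4 : u ^ 4 = 1 := by
      have e1 : f1 (⟨x * c * x⁻¹, hw⟩ ^ 2 * (⟨c, hc⟩ ^ 2)⁻¹) = 1 := by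
        rw [hk1]
        apply Subtype.ext
        push_cast
        have := hW.conj_mul_inv hx.fix (hW8 hc h8)
        rw [conj_pow]
        exact this.2
      have e2 : f1 (⟨u, huC⟩ ^ 2) = 1 := by
        have : (⟨u, huC⟩ : C) = ⟨x * c * x⁻¹, hw⟩ * ⟨c, hc⟩⁻¹ := Subtype.ext rfl
        rw [this, map_pow, map_mul, map_inv,
          Commute.mul_pow (Commute.inv_right (hom1 _ h1 _)), inv_pow]
        rw [map_mul, map_inv, map_pow, map_pow] at e1
        exact e1
      have e3 := congrArg Subtype.val ((hk1 _).mp e2)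
      push_cast at e3
      rw [← pow_mul] at e3
      exact e3
    have huW := hal huC hu4
    have hxc : x * c * x⁻¹ = u * c := by rw [hu]; group
    have h2 : x * u * x⁻¹ * u * c = c := by
      calc x * u * x⁻¹ * u * c = x * u * x⁻¹ * (x * c * x⁻¹) := by rw [hxc]; group
        _ = x * (u * c) * x⁻¹ := by group
        _ = (x * x) * c * (x * x)⁻¹ := by rw [← hxc]; group
        _ = c := by rw [hC2c hc h8 _ hsq, mul_inv_cancel_right]
    have hu2 := hx.free u huW (mul_eq_right.mp h2)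
    refine ⟨⟨huW, hu2⟩, ?_⟩
    rw [← conj_pow, hxc, Commute.mul_pow (hWC huW hc).symm, hu2, one_mul]
  -- the fixed points of `x` on `W`
  set F := W ⊓ Subgroup.centralizer {x} with hF
  have hΩF : hW.omega ≤ F := fun w hw => ⟨hw.1, Subgroup.mem_centralizer_singleton_iff.mpr
    (mul_inv_eq_iff_eq_mul.mp (hx.fix w hw)).symm⟩
  have hF8 : Nat.card F ≤ 8 := by
    have hne : F ≠ W := by
      intro e
      apply hxC
      refine Subgroup.mem_centralizer_iff.mpr fun w hw => ?_
      exact Subgroup.mem_centralizer_singleton_iff.mp ((e ▸ hw : w ∈ F)).2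
    obtain ⟨a, ha⟩ := Subgroup.card_dvd_of_le (inf_le_left : F ≤ W)
    have hne' : Nat.card F ≠ 16 := fun e =>
      hne (Subgroup.eq_of_le_of_card_ge inf_le_left (by rw [e, h16]))
    rw [h16] at ha
    rcases a with _ | _ | a
    · simp at ha
    · simp at ha; exact absurd ha.symm hne'
    · nlinarith
  have hpair : ∀ {a b : P}, a ∈ F → a ∉ hW.omega → b ∈ F → b ∉ hW.omega → a * b⁻¹ ∈ hW.omega := by
    intro a b ha ha' hb hb'
    have hidx : (hW.omega.subgroupOf F).index = 2 := by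
      have h := (hW.omega.subgroupOf F).card_mul_index
      rw [Nat.card_congr (Subgroup.subgroupOfEquivOfLe hΩF).toEquiv, h4] at h
      have h1 : (hW.omega.subgroupOf F).index ≠ 1 := fun e => ha'
        (Subgroup.mem_subgroupOf.mp (Subgroup.index_eq_one.mp e ▸ Subgroup.mem_top (⟨a, ha⟩ : F)))
      have h0 : 0 < (hW.omega.subgroupOf F).index :=
        Nat.pos_of_ne_zero Subgroup.index_ne_zero_of_finite
      omega
    have := (Subgroup.mul_mem_iff_of_index_two hidx (a := ⟨a, ha⟩) (b := (⟨b, hb⟩ : F)⁻¹)).mpr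
      ⟨fun e => absurd (Subgroup.mem_subgroupOf.mp e) ha',
        fun e => absurd (Subgroup.mem_subgroupOf.mp ((Subgroup.inv_mem_iff _).mp e)) hb'⟩
    exact Subgroup.mem_subgroupOf.mp this
  have habel : ∀ a ∈ C, ∀ b ∈ C, a * b = b * a := by
    haveI hn2 := omegaOne_normal hom1
    set f2 := QuotientGroup.mk' (omegaOne hom1) with hf2
    have hk2 : ∀ q, f2 q = 1 ↔ q ^ 2 = 1 := fun q => QuotientGroup.eq_one_iff q
    have hker : ∀ c : C, f2 (f1 c) = 1 ↔ (c : P) ∈ W := by
      intro c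
      rw [hk2, ← map_pow, hk1]
      constructor
      · intro h
        refine hal c.2 ?_
        have := congrArg Subtype.val h
        push_cast at this
        rw [← pow_mul] at this
        exact this
      · intro h
        apply Subtype.ext
        push_cast
        rw [← pow_mul]
        exact hW.pow_four _ h
    have hone : ∀ c d : C, f2 (f1 c) ^ 2 = 1 → f2 (f1 c) ≠ 1 → f2 (f1 d) ^ 2 = 1 →
        f2 (f1 d) ≠ 1 → f2 (f1 c) = f2 (f1 d) := by
      intro c d hc hc1 hd hd1
      have h8 : ∀ e : C, f2 (f1 e) ^ 2 = 1 → (e : P) ^ 8 = 1 ∧ (e : P) ^ 2 ∈ W := by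
        intro e he
        rw [← map_pow, ← map_pow, hker] at he
        push_cast at he
        exact ⟨by have := hW.pow_four _ he; rwa [← pow_mul] at this, he⟩
      have hnot : ∀ e : C, f2 (f1 e) ≠ 1 → (e : P) ^ 2 ∉ hW.omega := fun e he h =>
        he ((hker e).mpr (hal e.2 (by
          rw [show (4 : ℕ) = 2 * 2 from rfl, pow_mul]; exact h.2)))
      have hinF : ∀ e : C, f2 (f1 e) ^ 2 = 1 → (e : P) ^ 2 ∈ F := fun e he =>
        ⟨(h8 e he).2, Subgroup.mem_centralizer_singleton_iff.mpr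
          (mul_inv_eq_iff_eq_mul.mp (hom8 e.2 (h8 e he).1).2).symm⟩
      have hp := hpair (hinF c hc) (hnot c hc1) (hinF d hd) (hnot d hd1)
      have he := hlow d.2 (h8 d hd).1 (C.inv_mem c.2)
      have hcd : ((c : P) * (d : P)⁻¹) ^ 2 ∈ hW.omega := by
        have he' : (c : P)⁻¹ * d * c * (d : P)⁻¹ ∈ hW.omega := by simpa using he
        have hd' : ((c : P)⁻¹ * (d : P)⁻¹ * c * d) ∈ hW.omega := by
          have hh := hW.omega_conj (hW.omega.inv_mem he') (d : P)⁻¹
          convert hh using 1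
          group
        have e : ((c : P) * (d : P)⁻¹) ^ 2 =
            ((c : P) ^ 2 * ((c : P)⁻¹ * (d : P)⁻¹ * c * d) * ((c : P) ^ 2)⁻¹) *
              ((c : P) ^ 2 * ((d : P) ^ 2)⁻¹) := by
          simp only [pow_two]
          group
        rw [e]
        exact hW.omega.mul_mem (hW.omega_conj hd' _) hp
      have hW' : ((c * d⁻¹ : C) : P) ∈ W := hal (C.mul_mem c.2 (C.inv_mem d.2)) (by
        push_cast
        rw [show (4 : ℕ) = 2 * 2 from rfl, pow_mul]
        exact hcd.2)
      have := (hker _).mpr hW'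
      rwa [map_mul, map_mul, map_inv, map_inv, mul_inv_eq_one] at this
    haveI : IsCyclic ((C ⧸ omegaOne homC) ⧸ omegaOne hom1) := by
      refine isCyclic_of_omega_le_two ((hC2.to_quotient _).to_quotient _)
        (hom1.quotient (hC2.to_quotient _) f2 (QuotientGroup.mk'_surjective _) hk2) ?_
      by_contra hlt
      obtain ⟨q, q', hq1, hq1', hqq⟩ : ∃ q q' : {q : (C ⧸ omegaOne homC) ⧸ omegaOne hom1 //
          q ^ 2 = 1}, q.1 ≠ 1 ∧ q'.1 ≠ 1 ∧ q ≠ q' := by
        by_contra hcon
        push_neg at hcon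
        classical
        apply hlt
        refine le_trans (Nat.card_le_card_of_injective
          (fun q : {q : (C ⧸ omegaOne homC) ⧸ omegaOne hom1 // q ^ 2 = 1} => decide (q.1 = 1))
          fun a b e => ?_) (by simp)
        by_cases ha : a.1 = 1
        · have hb : b.1 = 1 := by simpa [ha] using e
          exact Subtype.ext (ha.trans hb.symm)
        · have hb : b.1 ≠ 1 := by simpa [ha] using e
          exact hcon a b ha hb
      obtain ⟨q, hq⟩ := q
      obtain ⟨q', hq'⟩ := q'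
      obtain ⟨a, rfl⟩ := QuotientGroup.mk'_surjective _ q
      obtain ⟨c, rfl⟩ := QuotientGroup.mk'_surjective _ a
      obtain ⟨b, rfl⟩ := QuotientGroup.mk'_surjective _ q'
      obtain ⟨d, rfl⟩ := QuotientGroup.mk'_surjective _ b
      exact hqq (Subtype.ext (hone c d hq hq1 hq' hq1'))
    have hcomm := (f2.comp f1).isMulCommutative_of_isCyclic_of_ker_le_center (fun c hc =>
      Subgroup.mem_center_iff.mpr fun g => Subtype.ext (hWC ((hker c).mp hc) g.2))
    exact fun a ha b hb => congrArg Subtype.val (hcomm.is_comm.comm ⟨a, ha⟩ ⟨b, hb⟩)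
  have hxx : ∀ c ∈ C, x * x * c = c * (x * x) := fun c hc => by
    have hle : sqC W ≤ C := (Subgroup.closure_le _).mpr (by
      rintro _ ⟨k, hk, rfl⟩; exact C.mul_mem hk hk)
    exact habel _ (hle hsq) _ hc
  have hall : ∀ (n : ℕ) (c : P), c ∈ C → orderOf c ≤ n → x * c * x⁻¹ * c⁻¹ ∈ hW.omega := by
    intro n
    induction n using Nat.strong_induction_on with
    | _ n ih =>
      intro c hc hn
      by_cases h4c : c ^ 4 = 1
      · exact hW.conj_mul_inv hx.fix (hal hc h4c)
      have hw : x * c * x⁻¹ ∈ C := hCn.conj_mem c hc x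
      have hlt : orderOf (c ^ 2) < n := by
        refine lt_of_lt_of_le ?_ hn
        obtain ⟨m, hm⟩ := IsPGroup.iff_orderOf.mp hP c
        rcases m with _ | m
        · rw [pow_zero, orderOf_eq_one_iff] at hm
          exact absurd (by rw [hm, one_pow]) h4c
        · rw [orderOf_pow_of_dvd (by norm_num) (by rw [hm]; exact dvd_pow_self 2 (by omega))]
          exact Nat.div_lt_self (orderOf_pos c) (by norm_num)
      have h := ih _ hlt (c ^ 2) (C.pow_mem hc 2) le_rfl
      set u := x * c * x⁻¹ * c⁻¹ with hu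
      have huC : u ∈ C := C.mul_mem hw (C.inv_mem hc)
      have hxc : x * c * x⁻¹ = u * c := by rw [hu]; group
      have hu4 : u ^ 4 = 1 := by
        rw [← conj_pow, hxc, Commute.mul_pow (habel u huC c hc), mul_inv_cancel_right] at h
        rw [show (4 : ℕ) = 2 * 2 from rfl, pow_mul]
        exact h.2
      have huW := hal huC hu4
      refine ⟨huW, hx.free u huW ?_⟩
      have h2 : x * u * x⁻¹ * u * c = c := by
        calc x * u * x⁻¹ * u * c = x * u * x⁻¹ * (x * c * x⁻¹) := by rw [hxc]; group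
          _ = x * (u * c) * x⁻¹ := by group
          _ = (x * x) * c * (x * x)⁻¹ := by rw [← hxc]; group
          _ = c := by rw [hxx c hc, mul_inv_cancel_right]
      exact mul_eq_right.mp h2
  refine ⟨habel, fun c hc => hall _ c hc le_rfl, ?_⟩
  obtain ⟨k, hk, hkk⟩ : ∃ k ∈ C, x * x = k * k := by
    refine Subgroup.closure_induction (p := fun s _ => ∃ k ∈ C, s = k * k)
      (fun s hs => by obtain ⟨c, hc, rfl⟩ := hs; exact ⟨c, hc, rfl⟩)
      ⟨1, C.one_mem, (mul_one 1).symm⟩
      (fun a b _ _ ha hb => by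
        obtain ⟨i, hi, rfl⟩ := ha
        obtain ⟨j, hj, rfl⟩ := hb
        refine ⟨i * j, C.mul_mem hi hj, ?_⟩
        exact Commute.mul_mul_mul_comm (habel i hi j hj) i j)
      (fun a _ ha => by
        obtain ⟨i, hi, rfl⟩ := ha
        exact ⟨i⁻¹, C.inv_mem hi, mul_inv_rev i i⟩) hsq
  refine ⟨k, hk, ?_⟩
  have h := hall _ k⁻¹ (C.inv_mem hk) le_rfl
  rw [inv_inv] at h
  have e : (k⁻¹ * x) * (k⁻¹ * x) = k⁻¹ * (x * k⁻¹ * x⁻¹ * k) * k⁻¹ * (x * x) := by group
  rw [e, hkk]
  have e2 : k⁻¹ * (x * k⁻¹ * x⁻¹ * k) * k⁻¹ * (k * k) = k⁻¹ * (x * k⁻¹ * x⁻¹ * k) * k⁻¹⁻¹ := by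
    group
  rw [e2]
  exact hW.omega_conj h k⁻¹

/-- The key lemma: there is no element acting freely, with square in the involutions of `W`,
whose image is central modulo `C(W)`. -/
theorem IsFree.false_of_central {hW : IsCore W} {x : P} (hP : IsPGroup 2 P) (hno : NoEight P)
    (h16 : Nat.card W = 16) (hx : IsFree hW x) (hxC : x ∉ Subgroup.centralizer (W : Set P))
    (hsq : x * x ∈ sqC W)
    (hcent : ∀ g : P, g * x * g⁻¹ * x⁻¹ ∈ Subgroup.centralizer (W : Set P)) : False := by
  haveI := hW.normal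
  obtain ⟨habel, hact, k, hk, hk2⟩ := hx.centralizer_facts hP hno h16 hxC hsq
  set C := Subgroup.centralizer (W : Set P) with hCdef
  haveI hCn : C.Normal := by rw [hCdef]; infer_instance
  have hWC : W ≤ C := hW.le_centralizer
  set y := k⁻¹ * x with hy
  obtain ⟨w0, hw0, hw0e⟩ := hx.tau_surj hno h16 (hW.omega.inv_mem hk2)
  have hconjy : ∀ c ∈ C, y * c * y⁻¹ = x * c * x⁻¹ := by
    intro c hc
    have h1 : x * c * x⁻¹ ∈ C := hCn.conj_mem c hc x
    calc y * c * y⁻¹ = k⁻¹ * (x * c * x⁻¹) * k⁻¹⁻¹ := by rw [hy]; group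
      _ = _ := by rw [habel _ (C.inv_mem hk) _ h1, inv_inv, inv_mul_cancel_right]
  set t := w0 * y with ht
  have hconjt : ∀ c ∈ C, t * c * t⁻¹ = x * c * x⁻¹ := by
    intro c hc
    have h1 : x * c * x⁻¹ ∈ C := hCn.conj_mem c hc x
    calc t * c * t⁻¹ = w0 * (y * c * y⁻¹) * w0⁻¹ := by rw [ht]; group
      _ = _ := by rw [hconjy c hc, habel _ (hWC hw0) _ h1, mul_inv_cancel_right]
  have ht2 : t * t = 1 := by
    have e : t * t = w0 * (y * w0 * y⁻¹) * (y * y) := by rw [ht]; group
    rw [e, hconjy _ (hWC hw0), habel _ (hWC hw0) _ (hCn.conj_mem _ (hWC hw0) x), hw0e,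
      inv_mul_cancel]
  have htC : t ∉ C := by
    intro h
    apply hxC
    have : x = k * (w0⁻¹ * t) := by rw [ht, hy]; group
    rw [this]
    exact C.mul_mem hk (C.mul_mem (C.inv_mem (hWC hw0)) h)
  have hact' : ∀ g : P, g * t * g⁻¹ * t⁻¹ ∈ hW.omega := by
    intro g
    have hzC : g * t * g⁻¹ * t⁻¹ ∈ C := by
      rw [← QuotientGroup.eq_one_iff (N := C)]
      have hh : ((g * x * g⁻¹ * x⁻¹ : P) : P ⧸ C) = 1 := (QuotientGroup.eq_one_iff _).mpr (hcent g)
      have hk1 : ((k : P) : P ⧸ C) = 1 := (QuotientGroup.eq_one_iff _).mpr hk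
      have hw1 : ((w0 : P) : P ⧸ C) = 1 := (QuotientGroup.eq_one_iff _).mpr (hWC hw0)
      rw [ht, hy]
      simp only [QuotientGroup.mk_mul, QuotientGroup.mk_inv, hk1, hw1, inv_one, one_mul] at hh ⊢
      exact hh
    set z := g * t * g⁻¹ * t⁻¹ with hz
    have hzt : (z * t) * (z * t) = 1 := by
      have : z * t = g * t * g⁻¹ := by rw [hz]; group
      rw [this]
      calc g * t * g⁻¹ * (g * t * g⁻¹) = g * (t * t) * g⁻¹ := by group
        _ = 1 := by rw [ht2, mul_one, mul_inv_cancel]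
    have h1 : z * (x * z * x⁻¹) = 1 := by
      rw [← hconjt z hzC]
      calc z * (t * z * t⁻¹) = (z * t) * (z * t) * (t * t)⁻¹ := by group
        _ = 1 := by rw [hzt, ht2]; group
    have h2 : x * z * x⁻¹ * z⁻¹ ∈ hW.omega := hact z hzC
    have hz4 : z ^ 4 = 1 := by
      have e : x * z * x⁻¹ = z⁻¹ := (inv_eq_of_mul_eq_one_right h1).symm
      rw [e] at h2
      have := h2.2
      rw [← mul_inv_rev, inv_pow, inv_eq_one, ← pow_two, ← pow_mul] at this
      exact this
    have hzW := hW.mem_of_pow_four hP hzC hz4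
    refine ⟨hzW, hx.free z hzW ?_⟩
    rw [habel _ (hCn.conj_mem z hzC x) _ hzC]
    exact h1
  -- the normal elementary subgroup of order eight
  have hfix : ∀ w ∈ hW.omega, t * w = w * t := fun w hw => mul_inv_eq_iff_eq_mul.mp
    ((hconjt w (hWC hw.1)).trans (hx.fix w hw))
  have htw : ∀ w ∈ hW.omega, (w * t) * (w * t) = 1 := fun w hw => by
    rw [mul_assoc, ← mul_assoc t, hfix w hw, mul_assoc w t t, ht2, mul_one, ← pow_two]
    exact hw.2
  let E : Subgroup P :=
    { carrier := {e | e ∈ hW.omega ∨ e * t ∈ hW.omega}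
      one_mem' := Or.inl hW.omega.one_mem
      mul_mem' := by
        intro a b ha hb
        rcases ha with ha | ha <;> rcases hb with hb | hb
        · exact Or.inl (hW.omega.mul_mem ha hb)
        · exact Or.inr (by rw [mul_assoc]; exact hW.omega.mul_mem ha hb)
        · refine Or.inr ?_
          rw [mul_assoc, ← hfix b hb, ← mul_assoc]
          exact hW.omega.mul_mem ha hb
        · refine Or.inl ?_
          have hti : t⁻¹ = t := inv_eq_of_mul_eq_one_right ht2
          have e : a * b = (a * t) * (t * (b * t) * t⁻¹) * (t * t)⁻¹ * (t * t) := by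
            rw [ht2, inv_one, mul_one, mul_one, hti]
            calc a * b = a * (t * t) * b * (t * t) := by rw [ht2, mul_one, mul_one]
              _ = _ := by group
          rw [e, ht2, inv_one, mul_one, mul_one]
          exact hW.omega.mul_mem ha (hW.omega_conj hb t)
      inv_mem' := by
        intro a ha
        rcases ha with ha | ha
        · exact Or.inl (hW.omega.inv_mem ha)
        · refine Or.inr ?_
          have hti : t⁻¹ = t := inv_eq_of_mul_eq_one_right ht2
          have e : a⁻¹ * t = t * (a * t)⁻¹ * t⁻¹ * (t * t) := by group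
          rw [e, ht2, mul_one]
          exact hW.omega_conj (hW.omega.inv_mem ha) t }
  have hEn : E.Normal := by
    constructor
    intro e he g
    rcases he with he | he
    · exact Or.inl (hW.omega_conj he g)
    · refine Or.inr ?_
      have h1 := hW.omega_conj he g
      have h2 := hW.omega.inv_mem (hact' g)
      have e' : g * e * g⁻¹ * t = (g * (e * t) * g⁻¹) * (g * t * g⁻¹ * t⁻¹)⁻¹ * (t * t)⁻¹ * (t * t) := by
        rw [ht2, inv_one, mul_one, mul_one]
        calc g * e * g⁻¹ * t = g * e * (t * t) * g⁻¹ * t := by rw [ht2, mul_one]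
          _ = g * (e * t) * (t * g⁻¹) * t := by group
          _ = g * (e * t) * g⁻¹ * (g * t * g⁻¹ * t) := by group
          _ = g * (e * t) * g⁻¹ * (g * t * g⁻¹ * t⁻¹) := by rw [inv_eq_of_mul_eq_one_right ht2]
          _ = _ := by
            congr 1
            have hh := (hact' g).2
            rw [pow_two] at hh
            exact (inv_eq_of_mul_eq_one_right hh).symm
      rw [e', ht2, inv_one, mul_one, mul_one]
      exact hW.omega.mul_mem h1 h2
  have hsq1 : ∀ e ∈ E, e ^ 2 = 1 := by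
    intro e he
    rw [pow_two]
    rcases he with he | he
    · rw [← pow_two]; exact he.2
    · have := htw _ he
      rwa [mul_assoc e t t, ht2, mul_one] at this
  have hEc : IsMulCommutative E := by
    refine ⟨⟨fun a b => Subtype.ext ?_⟩⟩
    have ha := hsq1 _ a.2
    have hb := hsq1 _ b.2
    have hab := hsq1 _ (E.mul_mem a.2 b.2)
    rw [pow_two] at ha hb hab
    rw [Subgroup.coe_mul, Subgroup.coe_mul]
    calc (a : P) * b = ((a : P) * b)⁻¹ := (inv_eq_of_mul_eq_one_right hab).symm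
      _ = (b : P) * a := by rw [mul_inv_rev, inv_eq_of_mul_eq_one_right ha,
          inv_eq_of_mul_eq_one_right hb]
  have hE4 := hno E hEn hEc hsq1
  have hlt : hW.omega < E := lt_of_le_of_ne (fun w hw => Or.inl hw) fun e => by
    have hmem : t ∈ E := Or.inr (by rw [ht2]; exact hW.omega.one_mem)
    rw [← e] at hmem
    exact htC (hWC hmem.1)
  have h5 := Set.Finite.card_lt_card (Set.toFinite _) (SetLike.coe_ssubset_coe.mpr hlt)
  obtain ⟨h4', -⟩ := hW.sq_surj hno h16
  simp only [SetLike.coe_sort_coe] at h5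
  omega

end CfsgLib.TwoRank
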