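import Cfsg.Agent.Lib.TwoRank.Coord

/-!
The automorphisms induced on a core of order sixteen.
-/

set_option autoImplicit false

namespace CfsgLib.TwoRank

open Mat

variable {P : Type*} [Group P] [Finite P] {W : Subgroup P}

theorem mem_centralizer_iff_conjNormal [W.Normal] (x : P) :
    x ∈ Subgroup.centralizer (W : Set P) ↔ (MulAut.conjNormal x : MulAut W) = 1 := by
  constructor
  · intro h
    apply MulEquiv.ext
    intro w
    apply Subtype.ext
    rw [MulAut.conjNormal_apply, MulAut.one_apply, ← Subgroup.mem_centralizer_iff.mp h _ w.2,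
      mul_inv_cancel_right]
  · intro h
    refine Subgroup.mem_centralizer_iff.mpr fun w hw => ?_
    have := congrArg Subtype.val (DFunLike.congr_fun h (⟨w, hw⟩ : W))
    rw [MulAut.conjNormal_apply, MulAut.one_apply] at this
    exact (mul_inv_eq_iff_eq_mul.mp this).symm

theorem mem_ker_conjNormal [W.Normal] :
    (MulAut.conjNormal : P →* MulAut W).ker = Subgroup.centralizer (W : Set P) :=
  Subgroup.ext fun x => (mem_centralizer_iff_conjNormal x).symm

theorem omega_le_sqC {hW : IsCore W} (hno : NoEight P) (h16 : Nat.card W = 16) :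
    hW.omega ≤ sqC W := fun z hz => by
  obtain ⟨w, hw, rfl⟩ := (hW.sq_surj hno h16).2 z hz
  exact Subgroup.subset_closure ⟨w, hW.le_centralizer hw, pow_two w⟩

section Sixteen

variable [W.Normal]

local notation "φ" => (MulAut.conjNormal : P →* MulAut W)

/-- The element `x` induces the automorphism with code `q`. -/
theorem Coord.cases (C : Coord W) (g : P) :
    (∃ q, C.mat (φ g) = kOf q) ∨ ∃ q, C.mat (φ g) = tOf q := by
  have h := C.mat_inT g
  rcases e : C.mat (φ g) with ⟨⟨a, b⟩, c, d⟩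
  rw [e] at h
  rcases exists_tOf a b c d h with hK | ⟨q, hq⟩
  · obtain ⟨q, hq⟩ := exists_kOf a b c d hK
    exact Or.inl ⟨q, hq.symm⟩
  · exact Or.inr ⟨q, hq.symm⟩

theorem Coord.isFree (C : Coord W) (hW : IsCore W) {x : P} {q : Q4} (hq : IsFreeCode q)
    (hx : C.mat (φ x) = kOf q) : IsFree hW x ∧ x ∉ Subgroup.centralizer (W : Set P) := by
  refine ⟨⟨fun w hw => ?_, fun w hw he => ?_⟩, fun h => ?_⟩
  · have hv := (C.sq_iff (⟨w, hw.1⟩ : W)).mp (Subtype.ext hw.2)
    have h1 := C.act_mat (φ x) ⟨w, hw.1⟩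
    rw [hx, kOf_fix q _ hv.1 hv.2] at h1
    have := congrArg Subtype.val (C.vec_inj h1)
    rwa [MulAut.conjNormal_apply] at this
  · have h1 : φ x ⟨w, hw⟩ * ⟨w, hw⟩ = 1 := Subtype.ext (by
      rw [Subgroup.coe_mul, MulAut.conjNormal_apply]; exact he)
    have h2 := congrArg C.vec h1
    rw [C.vec_mul, C.act_mat, hx, C.vec_one] at h2
    have h3 := free_eq (C.vec ⟨w, hw⟩) (by
      rcases hq with h | h | h | h | h <;> rw [h] at h2 <;> simp only [h2, true_or, or_true])
    exact congrArg Subtype.val ((C.sq_iff _).mpr h3)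
  · rw [mem_centralizer_iff_conjNormal] at h
    rw [h, C.mat_one, ← kOf_zero] at hx
    have h0 := kOf_inj _ _ hx
    obtain ⟨h1, h2, h3, h4, h5⟩ := free_ne_zero
    rcases hq with e | e | e | e | e <;> rw [e] at h0
    exacts [h1 h0.symm, h2 h0.symm, h3 h0.symm, h4 h0.symm, h5 h0.symm]

theorem Coord.central (C : Coord W) {x : P} {q : Q4} (hq : C.mat (φ x) = kOf q)
    (hx : q = qN ∨ ∀ g : P, ∃ r, C.mat (φ g) = kOf r) (g : P) :
    g * x * g⁻¹ * x⁻¹ ∈ Subgroup.centralizer (W : Set P) := by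
  rw [mem_centralizer_iff_conjNormal, map_mul, map_mul, map_mul, map_inv, map_inv,
    mul_inv_eq_one, mul_inv_eq_iff_eq_mul]
  apply C.mat_inj
  rw [C.mat_mul, C.mat_mul, hq]
  rcases hx with rfl | h
  · rcases C.cases g with ⟨r, hr⟩ | ⟨r, hr⟩
    · rw [hr, kOf_add, kOf_add, add_comm]
    · rw [hr, tOf_kOf, kOf_tOf, flip_qN, add_comm]
  · obtain ⟨r, hr⟩ := h g
    rw [hr, kOf_add, kOf_add, add_comm]

theorem Coord.sq_mem_centralizer (C : Coord W) {x : P} {q : Q4} (hq : C.mat (φ x) = kOf q) :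
    x * x ∈ Subgroup.centralizer (W : Set P) := by
  rw [mem_centralizer_iff_conjNormal, map_mul]
  have h2 : ∀ q : Q4, q + q = 0 := by decide
  exact C.mat_inj (by rw [C.mat_mul, hq, kOf_add, h2, kOf_zero, C.mat_one])

/-- An element of `C(W)` fixed by an element with code `qR` has square one. -/
theorem Coord.fixed_by_qR (C : Coord W) (hP : IsPGroup 2 P) (hW : IsCore W) {y c : P}
    (hy : C.mat (φ y) = kOf qR) (hc : c ∈ Subgroup.centralizer (W : Set P))
    (hfix : y * c * y⁻¹ = c) : c ∈ hW.omega := by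
  haveI : Fact (Nat.Prime 2) := ⟨Nat.prime_two⟩
  have hfree : ∀ w : W, y * (w : P) * y⁻¹ = w → w ^ 2 = 1 := by
    intro w hw
    have h1 : φ y w = w := Subtype.ext (by rw [MulAut.conjNormal_apply]; exact hw)
    have h2 := C.act_mat (φ y) w
    rw [h1, hy] at h2
    exact (C.sq_iff w).mpr (qR_fix _ h2.symm)
  obtain ⟨n, hn⟩ := IsPGroup.iff_orderOf.mp hP c
  have hc2 : c ^ 2 = 1 := by
    rcases Nat.lt_or_ge n 2 with h | h
    · rw [← orderOf_dvd_iff_pow_eq_one, hn]
      interval_cases n <;> norm_num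
    · exfalso
      set v := c ^ 2 ^ (n - 2) with hv
      have hv4 : v ^ 4 = 1 := by
        rw [hv, ← pow_mul, show 2 ^ (n - 2) * 4 = 2 ^ n by
          rw [show (4 : ℕ) = 2 ^ 2 from rfl, ← pow_add, Nat.sub_add_cancel h], ← hn,
          pow_orderOf_eq_one]
      have hvW := hW.mem_of_pow_four hP (Subgroup.pow_mem _ hc _) hv4
      have h2 := congrArg Subtype.val (hfree ⟨v, hvW⟩ (by
        show y * v * y⁻¹ = v
        rw [hv, ← conj_pow, hfix]))
      rw [SubgroupClass.coe_pow, Subgroup.coe_one] at h2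
      change (c ^ 2 ^ (n - 2)) ^ 2 = 1 at h2
      rw [← pow_mul, ← pow_succ] at h2
      have := orderOf_dvd_of_pow_eq_one h2
      rw [hn, Nat.pow_dvd_pow_iff_le_right (by norm_num)] at this
      omega
  exact ⟨hW.mem_of_pow_four hP hc (by
    rw [show (4 : ℕ) = 2 * 2 from rfl, pow_mul, hc2, one_pow]), hc2⟩

/-- The image of `P` cannot contain both `qN` and `qR`. -/
theorem Coord.not_both (C : Coord W) (hP : IsPGroup 2 P) (hW : IsCore W) (hno : NoEight P)
    (h16 : Nat.card W = 16) {x y : P} (hx : C.mat (φ x) = kOf qN) (hy : C.mat (φ y) = kOf qR) :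
    False := by
  obtain ⟨hyF, hyC⟩ := C.isFree hW (Or.inr (Or.inr (Or.inr (Or.inl rfl)))) hy
  obtain ⟨hxF, hxC⟩ := C.isFree hW (Or.inl rfl) hx
  set Z := Subgroup.centralizer (W : Set P) with hZ
  have hy2 : y * y ∈ hW.omega :=
    C.fixed_by_qR hP hW hy (C.sq_mem_centralizer hy) (by group)
  obtain ⟨habel, hact, -⟩ := hyF.centralizer_facts hP hno h16 hyC (omega_le_sqC hno h16 hy2)
  set z := x * y * x⁻¹ * y⁻¹ with hz
  have hzC : z ∈ Z := by
    rw [hz, hZ, mem_centralizer_iff_conjNormal, map_mul, map_mul, map_mul, map_inv, map_inv,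
      mul_inv_eq_one, mul_inv_eq_iff_eq_mul]
    exact C.mat_inj (by rw [C.mat_mul, C.mat_mul, hx, hy, kOf_add, kOf_add, add_comm])
  have h1 : z * (y * z * y⁻¹) = 1 := by
    have e : (z * y) * (z * y) = y * y := by
      calc (z * y) * (z * y) = x * (y * y) * x⁻¹ := by rw [hz]; group
        _ = y * y := hxF.fix _ hy2
    calc z * (y * z * y⁻¹) = (z * y) * (z * y) * (y * y)⁻¹ := by group
      _ = 1 := by rw [e, mul_inv_cancel]
  have hcz : y * z * y⁻¹ ∈ Z := by
    haveI hn : Z.Normal := by rw [hZ]; infer_instance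
    exact hn.conj_mem z hzC y
  have hz4 : z ^ 4 = 1 := by
    have h2 := hact z hzC
    rw [(inv_eq_of_mul_eq_one_right h1).symm] at h2
    have := h2.2
    rw [← mul_inv_rev, inv_pow, inv_eq_one, ← pow_two, ← pow_mul] at this
    exact this
  have hzW := hW.mem_of_pow_four hP hzC hz4
  have hzΩ : z ∈ hW.omega := ⟨hzW, hyF.free z hzW (by rw [habel _ hcz _ hzC]; exact h1)⟩
  have hfix : y * (x * x) * y⁻¹ = x * x := by
    have hzinv : z⁻¹ = z := inv_eq_of_mul_eq_one_right (by rw [← pow_two]; exact hzΩ.2)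
    have hzx : x * z * x⁻¹ = z := hxF.fix z hzΩ
    have e : y * x * y⁻¹ = z * x := by rw [← hzinv, hz]; group
    calc y * (x * x) * y⁻¹ = (y * x * y⁻¹) * (y * x * y⁻¹) := by group
      _ = z * (x * z * x⁻¹) * (x * x) := by rw [e]; group
      _ = x * x := by rw [hzx, ← pow_two, hzΩ.2, one_mul]
  have hx2 := C.fixed_by_qR hP hW hy (C.sq_mem_centralizer hx) hfix
  exact hxF.false_of_central hP hno h16 hxC (omega_le_sqC hno h16 hx2)
    (C.central hx (Or.inl rfl))

/-- The codes of the automorphisms in a subgroup `A`. -/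
def Coord.codes (C : Coord W) (A : Subgroup (MulAut W)) : AddSubgroup Q4 where
  carrier := {q | ∃ α ∈ A, C.mat α = kOf q}
  zero_mem' := ⟨1, A.one_mem, by rw [C.mat_one, kOf_zero]⟩
  add_mem' {a b} := by
    rintro ⟨α, hα, ha⟩ ⟨β, hβ, hb⟩
    exact ⟨α * β, A.mul_mem hα hβ, by rw [C.mat_mul, ha, hb, kOf_add]⟩
  neg_mem' {a} := by
    intro h
    rwa [(show ∀ q : Q4, -q = q by decide) a]

/-- A subgroup of the induced group contains at most twice as many elements as it has codes. -/
theorem Coord.card_le_codes (C : Coord W) {A : Subgroup (MulAut W)} (hA : A ≤ (φ).range) :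
    Nat.card A ≤ 2 * Nat.card (C.codes A) ∧
      ((∀ α ∈ A, ∃ q, C.mat α = kOf q) → Nat.card A = Nat.card (C.codes A)) := by
  classical
  have hcases : ∀ α ∈ A, (∃ q, C.mat α = kOf q) ∨ ∃ q, C.mat α = tOf q := by
    intro α hα
    obtain ⟨g, rfl⟩ := hA hα
    exact C.cases g
  refine ⟨?_, fun h => ?_⟩
  · by_cases h : ∀ α ∈ A, ∃ q, C.mat α = kOf q
    · have := Nat.card_le_card_of_injective
        (fun α : A => (⟨(h α α.2).choose, α, α.2, (h α α.2).choose_spec⟩ : C.codes A))
        fun a b e => Subtype.ext (C.mat_inj (by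
          rw [(h a a.2).choose_spec, (h b b.2).choose_spec]
          exact congrArg (fun t : C.codes A => kOf (t : Q4)) e))
      omega
    push_neg at h
    obtain ⟨g, hgA, hgK⟩ := h
    obtain ⟨r, hr⟩ := (hcases g hgA).resolve_left (fun ⟨q, hq⟩ => hgK q hq)
    have hmem : ∀ α : A, (∃ q, C.mat α = kOf q) ∨ ∃ q, C.mat (g * α) = kOf q := by
      intro α
      rcases hcases α α.2 with h | ⟨q, hq⟩
      · exact Or.inl h
      · exact Or.inr ⟨_, by rw [C.mat_mul, hr, hq, tOf_tOf]⟩
    have := Nat.card_le_card_of_injective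
      (fun α : A => if hα : ∃ q, C.mat (α : MulAut W) = kOf q then
          (true, (⟨hα.choose, α, α.2, hα.choose_spec⟩ : C.codes A))
        else (false, ⟨((hmem α).resolve_left hα).choose, g * α, A.mul_mem hgA α.2,
          ((hmem α).resolve_left hα).choose_spec⟩))
      (fun α β e => by
        dsimp only at e
        split_ifs at e with h1 h2 h2
        · exact Subtype.ext (C.mat_inj (by
            rw [h1.choose_spec, h2.choose_spec]
            exact congrArg (fun t : Bool × C.codes A => kOf (t.2 : Q4)) e))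
        · simp at e
        · simp at e
        · refine Subtype.ext (mul_left_cancel (a := g) (C.mat_inj ?_))
          rw [((hmem α).resolve_left h1).choose_spec, ((hmem β).resolve_left h2).choose_spec]
          exact congrArg (fun t : Bool × C.codes A => kOf (t.2 : Q4)) e)
    rwa [Nat.card_prod, Nat.card_eq_fintype_card (α := Bool), Fintype.card_bool] at this
  · refine Nat.card_congr (Equiv.ofBijective
      (fun α : A => (⟨(h α α.2).choose, α, α.2, (h α α.2).choose_spec⟩ : C.codes A)) ⟨?_, ?_⟩)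
    · intro a b e
      exact Subtype.ext (C.mat_inj (by
        rw [(h a a.2).choose_spec, (h b b.2).choose_spec]
        exact congrArg (fun t : C.codes A => kOf (t : Q4)) e))
    · rintro ⟨q, α, hα, hq⟩
      refine ⟨⟨α, hα⟩, Subtype.ext (kOf_inj _ _ ?_)⟩
      rw [← hq]
      exact ((h α hα).choose_spec).symm

/-- The induced group has at most eight codes. -/
theorem Coord.card_codes_range_le (C : Coord W) (hP : IsPGroup 2 P) (hW : IsCore W)
    (hno : NoEight P) (h16 : Nat.card W = 16) : Nat.card (C.codes (φ).range) ≤ 8 := by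
  by_contra hgt
  have h16' : Nat.card Q4 = 16 := by simp
  obtain ⟨a, ha⟩ := AddSubgroup.card_addSubgroup_dvd_card (C.codes (φ).range)
  rw [h16'] at ha
  have htop : C.codes (φ).range = ⊤ := by
    refine AddSubgroup.eq_top_of_card_eq _ ?_
    rw [h16']
    rcases a with _ | _ | a
    · omega
    · omega
    · nlinarith
  obtain ⟨_, ⟨x, rfl⟩, hx⟩ : qN ∈ C.codes (φ).range := htop ▸ AddSubgroup.mem_top _
  obtain ⟨_, ⟨y, rfl⟩, hy⟩ : qR ∈ C.codes (φ).range := htop ▸ AddSubgroup.mem_top _
  exact C.not_both hP hW hno h16 hx hy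

end Sixteen

end CfsgLib.TwoRank
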