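import Cfsg.Agent.Lib.TwoRank.Cm
import Cfsg.Agent.Lib.TwoRank.MaxClass

/-!
A self-centralising elementary abelian subgroup of order eight acting on a normal elementary
abelian subgroup.
-/

set_option autoImplicit false

namespace CfsgLib.TwoRank

variable {S : Type*} [Group S] [Finite S]

/-- A self-centralising elementary abelian `A` of order eight and a normal elementary abelian `E`
of order at least eight. -/
structure Setting (A E : Subgroup S) : Prop where
  pgroup : IsPGroup 2 S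
  hA : Elem A
  cardA : Nat.card A = 8
  selfC : Subgroup.centralizer (A : Set S) = A
  normal : E.Normal
  hE : Elem E
  cardE : 8 ≤ Nat.card E

namespace Setting

variable {A E : Subgroup S} (h : Setting A E)
include h

omit [Finite S] in
theorem norm (a : S) : ∀ e ∈ E, a * e * a⁻¹ ∈ E := fun e he => h.normal.conj_mem e he a

omit [Finite S] in
theorem cm_mem (a : S) {e : S} (he : e ∈ E) : cm a e ∈ E := cm_mem_of_normalize (h.norm a) he

theorem center_mem {z : S} (hz : ∀ g, g * z = z * g) : z ∈ A := by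
  rw [← h.selfC]
  exact Subgroup.mem_centralizer_iff.mpr fun a _ => hz a

omit [Finite S] in
theorem mem_A_of_comm {x : S} (hx : ∀ a ∈ A, a * x = x * a) : x ∈ A := by
  rw [← h.selfC]
  exact Subgroup.mem_centralizer_iff.mpr hx

/-- There is a central involution of the group in `A ⊓ E`. -/
theorem exists_central : ∃ z ∈ A ⊓ E, z ≠ 1 ∧ ∀ g, g * z = z * g := by
  haveI : Fact (Nat.Prime 2) := ⟨Nat.prime_two⟩
  haveI := h.pgroup.isNilpotent
  haveI := h.normal
  have hne : E ≠ ⊥ := fun e => by have := h.cardE; rw [e, Subgroup.card_bot] at this; omega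
  obtain ⟨⟨z, hzE, hzc⟩, hz1⟩ := Subgroup.ne_bot_iff_exists_ne_one.1
    (Critical.inf_center_ne_bot E hne)
  exact ⟨z, ⟨h.center_mem (Subgroup.mem_center_iff.mp hzc), hzE⟩, fun e => hz1 (Subtype.ext e),
    Subgroup.mem_center_iff.mp hzc⟩

theorem card_inf : Nat.card (A ⊓ E : Subgroup S) = 2 ∨ Nat.card (A ⊓ E : Subgroup S) = 4 ∨
    A = E := by
  obtain ⟨d, hd⟩ := Subgroup.card_dvd_of_le (inf_le_left : A ⊓ E ≤ A)
  obtain ⟨z, hz, hz1, -⟩ := h.exists_central
  have hne : Nat.card (A ⊓ E : Subgroup S) ≠ 1 := fun e => hz1 (by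
    have := Subgroup.eq_bot_of_card_eq _ e
    exact Subgroup.mem_bot.mp (this ▸ hz))
  rw [h.cardA] at hd
  rcases d with _ | _ | d
  · omega
  · right; right
    have hAE : A ≤ E := fun a ha => by
      have e := Subgroup.eq_of_le_of_card_ge (inf_le_left : A ⊓ E ≤ A) (by rw [h.cardA]; omega)
      exact (e.symm ▸ ha : a ∈ A ⊓ E).2
    refine le_antisymm hAE fun e he => h.mem_A_of_comm fun a ha => h.hE.comm a (hAE ha) e he
  · have hle : Nat.card (A ⊓ E : Subgroup S) ≤ 4 := by nlinarith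
    generalize Nat.card (A ⊓ E : Subgroup S) = k at hd hle hne
    interval_cases k <;> omega

/-- With `|A ⊓ E| = 4`: an element commuting with `a` and `A ⊓ E` lies in `A`. -/
theorem mem_A_four (h4 : Nat.card (A ⊓ E : Subgroup S) = 4) {a x : S} (ha : a ∈ A) (haE : a ∉ E)
    (hxa : a * x = x * a) (hxL : ∀ l ∈ A ⊓ E, l * x = x * l) : x ∈ A := by
  apply h.mem_A_of_comm
  have hle : A ⊓ E ⊔ Subgroup.zpowers a = A := by
    have hsub : A ⊓ E ⊔ Subgroup.zpowers a ≤ A := sup_le inf_le_left (Subgroup.zpowers_le.mpr ha)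
    refine Subgroup.eq_of_le_of_card_ge hsub ?_
    have hlt : A ⊓ E < A ⊓ E ⊔ Subgroup.zpowers a := lt_of_le_of_ne le_sup_left fun e =>
      haE ((e.symm ▸ Subgroup.mem_sup_right (Subgroup.mem_zpowers a) : a ∈ A ⊓ E)).2
    have h1 := Set.Finite.card_lt_card (Set.toFinite _) (SetLike.coe_ssubset_coe.mpr hlt)
    simp only [SetLike.coe_sort_coe] at h1
    obtain ⟨c, hc⟩ := Subgroup.card_dvd_of_le hsub
    rw [h.cardA] at hc ⊢
    rcases c with _ | _ | c
    · omega
    · omega
    · nlinarith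
  have hcen : A ≤ Subgroup.centralizer {x} := by
    rw [← hle]
    exact sup_le (fun l hl => Subgroup.mem_centralizer_singleton_iff.mpr (hxL l hl))
      (Subgroup.zpowers_le.mpr (Subgroup.mem_centralizer_singleton_iff.mpr hxa))
  exact fun b hb => Subgroup.mem_centralizer_singleton_iff.mp (hcen hb)

/-- With `|A ⊓ E| = 4`, the fixed points of `a ∈ A \ E` on `E` are `A ⊓ E`. -/
theorem fixed_four (h4 : Nat.card (A ⊓ E : Subgroup S) = 4) {a : S} (ha : a ∈ A) (haE : a ∉ E) :
    E ⊓ Subgroup.centralizer {a} = A ⊓ E := by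
  refine le_antisymm (fun e he => ⟨h.mem_A_four h4 ha haE ?_ ?_, he.1⟩) fun l hl =>
    ⟨hl.2, Subgroup.mem_centralizer_singleton_iff.mpr (h.hA.comm l hl.1 a ha)⟩
  · exact (Subgroup.mem_centralizer_singleton_iff.mp he.2).symm
  · exact fun l hl => h.hE.comm l hl.2 e he.1

/-- With `|A ⊓ E| = 2`, some `b ∈ A` is independent of `a` modulo `E`. -/
theorem exists_second (h2 : Nat.card (A ⊓ E : Subgroup S) = 2) {a : S} (ha : a ∈ A) :
    ∃ b ∈ A, b ∉ E ∧ a * b ∉ E := by
  by_contra hc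
  push_neg at hc
  have hcov : ∀ q : A, (q : S) ∈ A ⊓ E ∨ a * q ∈ A ⊓ E := fun q => by
    by_cases hq : (q : S) ∈ E
    · exact Or.inl ⟨q.2, hq⟩
    · exact Or.inr ⟨A.mul_mem ha q.2, hc q q.2 hq⟩
  have := card_le_two_mul_of_mul_mem A (A ⊓ E) (fun q hq hqn r hr hrn => by
    have h1 : a * q ∈ A ⊓ E := (hcov ⟨q, hq⟩).resolve_left hqn
    have h2 : a * r ∈ A ⊓ E := (hcov ⟨r, hr⟩).resolve_left hrn
    have e : q * r = (a * q) * (a * r) := by
      calc q * r = (a * a) * (q * r) := by rw [h.hA.sq a ha, one_mul]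
        _ = a * (a * q) * r := by group
        _ = a * (q * a) * r := by rw [h.hA.comm a ha q hq]
        _ = _ := by group
    rw [e]
    exact (A ⊓ E).mul_mem h1 h2)
  rw [h.cardA, h2] at this
  omega

/-- With `|A ⊓ E| = 2`: an element commuting with `a`, `b` and `A ⊓ E` lies in `A`. -/
theorem mem_A_two {a b x : S} (h2 : Nat.card (A ⊓ E : Subgroup S) = 2) (ha : a ∈ A) (haE : a ∉ E)
    (hb : b ∈ A) (hbE : b ∉ E) (habE : a * b ∉ E) (hxa : a * x = x * a) (hxb : b * x = x * b)
    (hxL : ∀ l ∈ A ⊓ E, l * x = x * l) : x ∈ A := by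
  apply h.mem_A_of_comm
  set L := A ⊓ E
  set T := L ⊔ Subgroup.zpowers a with hT
  set U := T ⊔ Subgroup.zpowers b with hU
  have hT' : T ≤ A := sup_le inf_le_left (Subgroup.zpowers_le.mpr ha)
  have hU' : U ≤ A := sup_le hT' (Subgroup.zpowers_le.mpr hb)
  have hlt1 : L < T := lt_of_le_of_ne le_sup_left fun e =>
    haE ((e.symm ▸ Subgroup.mem_sup_right (Subgroup.mem_zpowers a) : a ∈ L)).2
  have hbT : b ∉ T := by
    intro hbT
    have hle : T ≤ A ⊓ (E ⊔ Subgroup.zpowers a) := le_inf hT' (sup_le_sup inf_le_right le_rfl)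
    obtain ⟨e, he, p, hp, hep⟩ := (Subgroup.mem_sup_of_normal_left (hs := h.normal)).mp (hle hbT).2
    obtain ⟨i, rfl⟩ := hp
    change e * a ^ i = b at hep
    have ha2 := h.hA.sq a ha
    rcases Int.even_or_odd i with ⟨c, hc⟩ | ⟨c, hc⟩
    · rw [hc, ← two_mul, zpow_mul, zpow_two, ha2, one_zpow, mul_one] at hep
      exact hbE (hep ▸ he)
    · rw [hc, zpow_add, zpow_mul, zpow_two, ha2, one_zpow, one_mul, zpow_one] at hep
      refine habE ?_
      rw [h.hA.comm a ha b hb, ← hep, mul_assoc, ha2, mul_one]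
      exact he
  have hlt2 : T < U := lt_of_le_of_ne le_sup_left fun e =>
    hbT (e.symm ▸ Subgroup.mem_sup_right (Subgroup.mem_zpowers b))
  have hcard : U = A := by
    refine Subgroup.eq_of_le_of_card_ge hU' ?_
    have h1 := Set.Finite.card_lt_card (Set.toFinite _) (SetLike.coe_ssubset_coe.mpr hlt1)
    have h1' := Set.Finite.card_lt_card (Set.toFinite _) (SetLike.coe_ssubset_coe.mpr hlt2)
    simp only [SetLike.coe_sort_coe] at h1 h1'
    obtain ⟨c, hc⟩ := Subgroup.card_dvd_of_le hU'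
    rw [h.cardA] at hc ⊢
    rw [h2] at h1
    rcases c with _ | _ | c
    · omega
    · omega
    · have hU4 : Nat.card U ≤ 4 := by nlinarith
      obtain ⟨d, hd⟩ := Subgroup.card_dvd_of_le (hlt2.le : T ≤ U)
      rcases d with _ | _ | d
      · have : 0 < Nat.card U := Nat.card_pos
        omega
      · omega
      · nlinarith
  have hcen : A ≤ Subgroup.centralizer {x} := by
    rw [← hcard]
    exact sup_le (sup_le (fun l hl => Subgroup.mem_centralizer_singleton_iff.mpr (hxL l hl))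
      (Subgroup.zpowers_le.mpr (Subgroup.mem_centralizer_singleton_iff.mpr hxa)))
      (Subgroup.zpowers_le.mpr (Subgroup.mem_centralizer_singleton_iff.mpr hxb))
  exact fun c hc => Subgroup.mem_centralizer_singleton_iff.mp (hcen hc)

theorem mem_inf_two {a b e : S} (h2 : Nat.card (A ⊓ E : Subgroup S) = 2) (ha : a ∈ A)
    (haE : a ∉ E) (hb : b ∈ A) (hbE : b ∉ E) (habE : a * b ∉ E) (he : e ∈ E)
    (hea : a * e = e * a) (heb : b * e = e * b) : e ∈ A ⊓ E :=
  ⟨h.mem_A_two h2 ha haE hb hbE habE hea heb fun l hl => h.hE.comm l hl.2 e he, he⟩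

/-- Each element of `A` outside `E` fixes at most four elements of `E`. -/
theorem fixed_le_four {a : S} (ha : a ∈ A) (haE : a ∉ E) :
    Nat.card (E ⊓ Subgroup.centralizer {a} : Subgroup S) ≤ 4 := by
  rcases h.card_inf with h2 | h4 | hAE
  · obtain ⟨b, hb, hbE, habE⟩ := h.exists_second h2 ha
    set F := E ⊓ Subgroup.centralizer {a} with hF
    have hab := h.hA.comm a ha b hb
    have hn : ∀ e ∈ F, b * e * b⁻¹ ∈ F := by
      intro e he
      refine ⟨h.norm b e he.1, Subgroup.mem_centralizer_singleton_iff.mpr ?_⟩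
      have h1 := Subgroup.mem_centralizer_singleton_iff.mp he.2
      calc b * e * b⁻¹ * a = b * e * (b⁻¹ * a) := by group
        _ = b * e * (a * b⁻¹) := by rw [h.hA.comm b⁻¹ (A.inv_mem hb) a ha]
        _ = b * (e * a) * b⁻¹ := by group
        _ = b * (a * e) * b⁻¹ := by rw [h1]
        _ = (b * a) * e * b⁻¹ := by group
        _ = _ := by rw [← hab]; group
    have h1 := card_le_fixed_sq F (h.hE.mono inf_le_left) b (h.hA.sq b hb) hn
    have h3 : Nat.card (F ⊓ Subgroup.centralizer {b} : Subgroup S) ≤ 2 := by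
      rw [← h2]
      exact Subgroup.card_le_of_le fun e he => h.mem_inf_two h2 ha haE hb hbE habE he.1.1
        (Subgroup.mem_centralizer_singleton_iff.mp he.1.2).symm
        (Subgroup.mem_centralizer_singleton_iff.mp he.2).symm
    exact h1.trans (Nat.mul_le_mul h3 h3)
  · rw [h.fixed_four h4 ha haE, h4]
  · exact absurd (hAE ▸ ha) haE

theorem cardE_le {a : S} (ha : a ∈ A) (haE : a ∉ E) : Nat.card E ≤ 16 :=
  (card_le_fixed_sq E h.hE a (h.hA.sq a ha) (h.norm a)).trans
    (Nat.mul_le_mul (h.fixed_le_four ha haE) (h.fixed_le_four ha haE))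

omit [Finite S] in
theorem exists_outside (hne : A ≠ E) : ∃ a ∈ A, a ∉ E := by
  by_contra hc
  push_neg at hc
  exact hne (le_antisymm hc fun e he => h.mem_A_of_comm fun a ha => h.hE.comm a (hc a ha) e he)

/-- `A` meets the centraliser of `E` in `E`. -/
theorem inf_centralizer {x : S} (hx : x ∈ A) (hxD : x ∈ Subgroup.centralizer (E : Set S)) :
    x ∈ E := by
  by_contra hxE
  have := h.fixed_le_four hx hxE
  rw [inf_eq_left.mpr (fun e he => Subgroup.mem_centralizer_singleton_iff.mpr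
    (Subgroup.mem_centralizer_iff.mp hxD e he))] at this
  have := h.cardE
  omega

omit [Finite S] in
theorem le_centralizer : E ≤ Subgroup.centralizer (E : Set S) := fun e he =>
  Subgroup.mem_centralizer_iff.mpr fun f hf => h.hE.comm f hf e he

omit [Finite S] in
/-- Multiplying by an element of `E` with the same commutator gives a fixed element. -/
theorem adjust {a s e : S} (ha : a * a = 1) (he : e ∈ E) (hs : cm a s ∈ E)
    (hes : cm a e = cm a s) : a * (e * s) = (e * s) * a := by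
  apply cm_eq_one.mp
  rw [cm_mul_right, hes, h.hE.comm e he _ hs, mul_inv_cancel_right]
  exact h.hE.sq _ hs

/-- The kernel lemma when `|A ⊓ E| = 4`. -/
theorem mem_sup_four (h4 : Nat.card (A ⊓ E : Subgroup S) = 4) {a s : S} (ha : a ∈ A) (haE : a ∉ E)
    (hs : cm a s ∈ cmImg E h.hE a (h.norm a)) (hsL : ∀ l ∈ A ⊓ E, l * s = s * l) :
    ∃ e ∈ E, e * s ∈ A := by
  obtain ⟨e, he, hes⟩ := mem_cmImg.mp hs
  refine ⟨e, he, h.mem_A_four h4 ha haE (h.adjust (h.hA.sq a ha) he (cmImg_le hs) hes) ?_⟩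
  intro l hl
  rw [← mul_assoc, h.hE.comm l hl.2 e he, mul_assoc, hsL l hl, mul_assoc]

theorem cmImg_eq_two {a b : S} (h2 : Nat.card (A ⊓ E : Subgroup S) = 2) (ha : a ∈ A) (haE : a ∉ E)
    (hb : b ∈ A) (hbE : b ∉ E) (habE : a * b ∉ E) (F : Subgroup S) (hF : F ≤ E)
    (hn : ∀ e ∈ F, b * e * b⁻¹ ∈ F) (hFc : 2 * 2 ≤ Nat.card F)
    (hfix : ∀ e ∈ F, a * e = e * a) :
    cmImg F (h.hE.mono hF) b hn = A ⊓ E := by
  have hsub : cmImg F (h.hE.mono hF) b hn ≤ A ⊓ E := fun x hx => by
    have hx' := cmImg_le_fixed (h.hA.sq b hb) hx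
    exact h.mem_inf_two h2 ha haE hb hbE habE (hF hx'.1) (hfix x hx'.1)
      (Subgroup.mem_centralizer_singleton_iff.mp hx'.2).symm
  refine Subgroup.eq_of_le_of_card_ge hsub ?_
  rw [h2]
  have h1 := card_cmImg F (h.hE.mono hF) b hn
  have h3 : Nat.card (F ⊓ Subgroup.centralizer {b} : Subgroup S) ≤ 2 := by
    rw [← h2]
    exact Subgroup.card_le_of_le fun e he => h.mem_inf_two h2 ha haE hb hbE habE (hF he.1)
      (hfix e he.1) (Subgroup.mem_centralizer_singleton_iff.mp he.2).symm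
  nlinarith

/-- The kernel lemma when `|A ⊓ E| = 2`. -/
theorem mem_sup_two {a b s : S} (h2 : Nat.card (A ⊓ E : Subgroup S) = 2) (ha : a ∈ A) (haE : a ∉ E)
    (hb : b ∈ A) (hbE : b ∉ E) (habE : a * b ∉ E) (hsa : cm a s ∈ cmImg E h.hE a (h.norm a))
    (hsb : cm b s ∈ E) (hsL : ∀ l ∈ A ⊓ E, l * s = s * l) : ∃ e ∈ E, e * s ∈ A := by
  obtain ⟨e, he, hes⟩ := mem_cmImg.mp hsa
  have hfixa := h.adjust (h.hA.sq a ha) he (cmImg_le hsa) hes
  set t := e * s with ht
  have htb : cm b t ∈ E := by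
    rw [ht, cm_mul_right]
    exact E.mul_mem (h.cm_mem b he) (h.normal.conj_mem _ hsb e)
  have hab := h.hA.comm a ha b hb
  have htfa : a * cm b t = cm b t * a := by
    have c1 : Commute a b := hab
    have c2 : Commute a t := hfixa
    exact (((c1.mul_right c2).mul_right c1.inv_right).mul_right c2.inv_right).eq
  have htA : cm b t ∈ A ⊓ E := h.mem_inf_two h2 ha haE hb hbE habE htb htfa
    (mul_inv_eq_iff_eq_mul.mp (cm_fixed h.hE (h.hA.sq b hb) htb))
  set F := E ⊓ Subgroup.centralizer {a}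
  have hn : ∀ x ∈ F, b * x * b⁻¹ ∈ F := by
    intro x hx
    refine ⟨h.norm b x hx.1, Subgroup.mem_centralizer_singleton_iff.mpr ?_⟩
    have h1 : Commute a x := (Subgroup.mem_centralizer_singleton_iff.mp hx.2).symm
    exact (((show Commute a b from hab).mul_right h1).mul_right
      (show Commute a b from hab).inv_right).symm.eq
  have hF4 : 2 * 2 ≤ Nat.card F := by
    have h1 := card_le_fixed_sq E h.hE a (h.hA.sq a ha) (h.norm a)
    have h2' := h.cardE
    have h3 : F ≤ E := inf_le_left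
    obtain ⟨d, hd⟩ := Subgroup.card_dvd_of_le h3
    obtain ⟨m, hm⟩ := exists_two_pow h.pgroup F
    rw [hm] at h1 ⊢
    by_contra hlt
    have : m ≤ 1 := by
      by_contra hm2
      have : 2 ^ 2 ≤ 2 ^ m := Nat.pow_le_pow_right (by norm_num) (by omega)
      omega
    interval_cases m <;> omega
  have himg := h.cmImg_eq_two h2 ha haE hb hbE habE F inf_le_left hn hF4
    (fun x hx => (Subgroup.mem_centralizer_singleton_iff.mp hx.2).symm)
  obtain ⟨f, hf, hft⟩ := mem_cmImg.mp (himg.symm ▸ htA)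
  refine ⟨f * e, E.mul_mem hf.1 he, ?_⟩
  rw [mul_assoc, ← ht]
  refine h.mem_A_two h2 ha haE hb hbE habE ?_ (h.adjust (h.hA.sq b hb) hf.1 htb hft) fun l hl => ?_
  · exact ((show Commute a f from (Subgroup.mem_centralizer_singleton_iff.mp hf.2).symm).mul_right
      hfixa).eq
  · rw [ht, ← mul_assoc f, ← mul_assoc, h.hE.comm l hl.2 _ (E.mul_mem hf.1 he), mul_assoc,
      hsL l hl, mul_assoc]
    group

end Setting

end CfsgLib.TwoRank
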