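import Cfsg.Agent.Lib.TwoRank.SelfCentSixteen
import Cfsg.Agent.Lib.TwoRank.Induced

/-!
The case of a normal elementary abelian subgroup of order eight, none larger existing.
-/

set_option autoImplicit false

namespace CfsgLib.TwoRank

variable {S : Type*} [Group S] [Finite S] {A E : Subgroup S}

/-- The union of `E` and the coset `E d`. -/
def extendBy (E : Subgroup S) {d : S} (hd : d ∈ Subgroup.centralizer (E : Set S))
    (hdd : d * d ∈ E) : Subgroup S where
  carrier := {x | x ∈ E ∨ x * d ∈ E}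
  one_mem' := Or.inl E.one_mem
  mul_mem' := by
    have hc : ∀ e ∈ E, d * e = e * d := fun e he => (Subgroup.mem_centralizer_iff.mp hd e he).symm
    rintro x y (hx | hx) (hy | hy)
    · exact Or.inl (E.mul_mem hx hy)
    · exact Or.inr (by rw [mul_assoc]; exact E.mul_mem hx hy)
    · refine Or.inr ?_
      rw [mul_assoc, ← hc y hy, ← mul_assoc]
      exact E.mul_mem hx hy
    · refine Or.inl ?_
      have e : x * y = (x * d) * (y * d) * (d * d)⁻¹ := by
        calc x * y = x * ((y * d) * d⁻¹) := by group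
          _ = x * (d * (d⁻¹ * (y * d)) * d⁻¹) := by group
          _ = x * (d * (y * d * d⁻¹) * d⁻¹) := by
            rw [show d⁻¹ * (y * d) = y * d * d⁻¹ from by
              rw [inv_mul_eq_iff_eq_mul, ← mul_assoc, hc _ hy, mul_inv_cancel_right]]
          _ = _ := by group
      rw [e]
      exact E.mul_mem (E.mul_mem hx hy) (E.inv_mem hdd)
  inv_mem' := by
    have hc : ∀ e ∈ E, d * e = e * d := fun e he => (Subgroup.mem_centralizer_iff.mp hd e he).symm
    rintro x (hx | hx)
    · exact Or.inl (E.inv_mem hx)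
    · refine Or.inr ?_
      have e : x⁻¹ * d = d * (x * d)⁻¹ * d := by group
      rw [e, hc _ (E.inv_mem hx), mul_assoc]
      exact E.mul_mem (E.inv_mem hx) hdd

namespace Setting

variable (h : Setting A E)
include h

omit [Finite S] in
theorem extendBy_normal {d : S} (hd : d ∈ Subgroup.centralizer (E : Set S)) (hdd : d * d ∈ E)
    (hdc : ∀ g, cm g d ∈ E) : (extendBy E hd hdd).Normal := by
  constructor
  rintro x (hx | hx) g
  · exact Or.inl (h.norm g x hx)
  · refine Or.inr ?_
    have e : g * x * g⁻¹ * d = g * (x * d) * g⁻¹ * (cm g d)⁻¹ * (d⁻¹ * d) := by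
      have hc : cm g d * d = d * cm g d :=
        (Subgroup.mem_centralizer_iff.mp hd _ (hdc g))
      calc g * x * g⁻¹ * d = g * (x * d) * g⁻¹ * ((g * d * g⁻¹)⁻¹ * d) := by group
        _ = g * (x * d) * g⁻¹ * (d⁻¹ * (cm g d)⁻¹ * d) := by rw [cm]; group
        _ = g * (x * d) * g⁻¹ * ((cm g d)⁻¹ * d⁻¹ * d) := by rw [← mul_inv_rev, hc, mul_inv_rev]
        _ = _ := by group
    rw [e, inv_mul_cancel, mul_one]
    exact E.mul_mem (h.norm g _ hx) (E.inv_mem (hdc g))

omit [Finite S] in
/-- Without larger normal elementary subgroups, a central element modulo `E` has non-trivial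
square. -/
theorem sq_ne_one (hmax : ∀ F : Subgroup S, F.Normal → Elem F → Nat.card F ≤ 8)
    (h8 : Nat.card E = 8) [Finite S] {d : S} (hd : d ∈ Subgroup.centralizer (E : Set S))
    (hdE : d ∉ E) (hdd : d * d ∈ E) (hdc : ∀ g, cm g d ∈ E) : d * d ≠ 1 := by
  intro e1
  have hc : ∀ e ∈ E, d * e = e * d := fun e he => (Subgroup.mem_centralizer_iff.mp hd e he).symm
  have hdi : d⁻¹ = d := inv_eq_of_mul_eq_one_right e1
  have hrep : ∀ x ∈ extendBy E hd hdd, ∃ e ∈ E, x = e ∨ x = e * d := by
    rintro x (hx | hx)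
    · exact ⟨x, hx, Or.inl rfl⟩
    · exact ⟨x * d, hx, Or.inr (by rw [mul_assoc, e1, mul_one])⟩
  have hcd : ∀ e ∈ E, ∀ f ∈ E, ∀ x y : S, (x = e ∨ x = e * d) → (y = f ∨ y = f * d) →
      x * y = y * x := by
    intro e he f hf x y hx hy
    have c1 : Commute e f := h.hE.comm e he f hf
    have c2 : Commute d e := hc e he
    have c3 : Commute d f := hc f hf
    rcases hx with rfl | rfl <;> rcases hy with rfl | rfl
    exacts [c1.eq, (c1.mul_right c2.symm).eq, (c1.mul_left c3).eq,
      ((c1.mul_right c2.symm).mul_left (c3.mul_right (Commute.refl d))).eq]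
  have hF : Elem (extendBy E hd hdd) := by
    refine ⟨fun x hx y hy => ?_, fun x hx => ?_⟩
    · obtain ⟨e, he, hxe⟩ := hrep x hx
      obtain ⟨f, hf, hyf⟩ := hrep y hy
      exact hcd e he f hf x y hxe hyf
    · obtain ⟨e, he, rfl | rfl⟩ := hrep x hx
      · exact h.hE.sq _ he
      · rw [mul_assoc, ← mul_assoc d, hc e he, mul_assoc e d d, e1, mul_one]
        exact h.hE.sq e he
  have hlt : E < extendBy E hd hdd := lt_of_le_of_ne (fun x hx => Or.inl hx) fun e =>
    hdE (e.symm ▸ (Or.inr hdd : d ∈ extendBy E hd hdd))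
  have h1 := Set.Finite.card_lt_card (Set.toFinite _) (SetLike.coe_ssubset_coe.mpr hlt)
  simp only [SetLike.coe_sort_coe] at h1
  have := hmax _ (h.extendBy_normal hd hdd hdc) hF
  omega

omit [Finite S] in
theorem sq_central {d : S} (hd : d ∈ Subgroup.centralizer (E : Set S)) (hdc : ∀ g, cm g d ∈ E)
    (g : S) : g * (d * d) = d * d * g := by
  have hc : d * cm g d = cm g d * d := (Subgroup.mem_centralizer_iff.mp hd _ (hdc g)).symm
  apply mul_inv_eq_iff_eq_mul.mp
  calc g * (d * d) * g⁻¹ = (cm g d * d) * (cm g d * d) := by rw [cm]; group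
    _ = cm g d * (d * cm g d) * d := by group
    _ = (cm g d * cm g d) * (d * d) := by rw [hc]; group
    _ = d * d := by rw [h.hE.sq _ (hdc g), one_mul]

omit [Finite S] in
theorem cm_mul_central {v x y : S} (hx : x ∈ Subgroup.centralizer (E : Set S))
    (hy : cm v y ∈ E) : cm v (x * y) = cm v x * cm v y := by
  rw [cm_mul_right, ← Subgroup.mem_centralizer_iff.mp hx _ hy, mul_inv_cancel_right]

/-- The centraliser of `E` has order at most sixteen. -/
theorem card_centralizer_le (h8 : Nat.card E = 8) (Z : Subgroup S) (hZ : Nat.card Z = 2)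
    (hT : ∀ v ∈ A, v ∉ E → ∀ e ∈ E, cm v e ∈ Z)
    (hfix : ∀ v ∈ A, v ∉ E → Z ≤ E ⊓ Subgroup.centralizer {v})
    (hkill : ∀ v ∈ A, v ∉ E → ∀ d ∈ Subgroup.centralizer (E : Set S),
      (∀ w ∈ A, cm w d ∈ E) → cm v d ∈ Z → d ∈ E)
    (hsq : ∀ d ∈ Subgroup.centralizer (E : Set S), d ∉ E → d * d ∈ E → (∀ g, cm g d ∈ E) →
      d * d ∈ Z)
    {a : S} (ha : a ∈ A) (haE : a ∉ E) :
    Nat.card (Subgroup.centralizer (E : Set S)) ≤ 16 ∧
      ∀ d ∈ Subgroup.centralizer (E : Set S), d ∉ E → ∀ g, cm g d ∈ E := by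
  haveI := h.normal
  set D := Subgroup.centralizer (E : Set S) with hD
  haveI : D.Normal := by rw [hD]; infer_instance
  by_cases hDE : D ≤ E
  · exact ⟨(Subgroup.card_le_of_le hDE).trans (by omega), fun d hd hdE => absurd (hDE hd) hdE⟩
  obtain ⟨d, hd, hdE, hdd, hdc⟩ := exists_central_mod h.pgroup E D hDE
  set F := extendBy E hd hdd with hF
  haveI : F.Normal := h.extendBy_normal hd hdd hdc
  have hdF : d ∈ F := Or.inr hdd
  have hFD : F ≤ D := by
    rintro x (hx | hx)
    · exact h.le_centralizer hx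
    · have := D.mul_mem (h.le_centralizer hx) (D.inv_mem hd)
      rwa [mul_inv_cancel_right] at this
  have hDF : D ≤ F := by
    by_contra hne
    obtain ⟨y, hy, hyF, -, hyc⟩ := exists_central_mod h.pgroup F D hne
    have hyE : y ∉ E := fun e => hyF (Or.inl e)
    have hydE : y * d ∉ E := fun e => hyF (Or.inr e)
    -- some element of `A` moves `y`
    obtain ⟨v, hv, hvE, hvy⟩ : ∃ v ∈ A, v ∉ E ∧ cm v y ∉ E := by
      by_contra hc
      push_neg at hc
      have hall : ∀ w ∈ A, cm w y ∈ E := fun w hw => by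
        by_cases hwE : w ∈ E
        · rw [cm_eq_one.mpr (Subgroup.mem_centralizer_iff.mp hy w hwE)]
          exact E.one_mem
        · exact hc w hw hwE
      have hprod : cm a y * cm a d ∈ Z := by
        set L := E ⊓ Subgroup.centralizer {a}
        have hL4 : Nat.card L ≤ 4 := h.fixed_le_four ha haE
        have hidx : Z.relIndex L ≤ 2 := by
          have hm := Subgroup.relIndex_mul_relIndex ⊥ Z L bot_le (hfix a ha haE)
          rw [Subgroup.relIndex_bot_left, Subgroup.relIndex_bot_left, hZ] at hm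
          omega
        have h1 : cm a y ∉ Z := fun e => hyE (hkill a ha haE y hy hall e)
        have h2 : cm a d ∉ Z := fun e => hdE (hkill a ha haE d hd (fun w _ => hdc w) e)
        have hidx2 : (Z.subgroupOf L).index = 2 := by
          have h0 : 0 < (Z.subgroupOf L).index :=
            Nat.pos_of_ne_zero Subgroup.index_ne_zero_of_finite
          have h1' : (Z.subgroupOf L).index ≠ 1 := fun e => h1 (Subgroup.mem_subgroupOf.mp
            (Subgroup.index_eq_one.mp e ▸
              Subgroup.mem_top (⟨cm a y, h.fixed_mem ha (hall a ha)⟩ : L)))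
          change (Z.subgroupOf L).index ≤ 2 at hidx
          omega
        exact Subgroup.mem_subgroupOf.mp ((Subgroup.mul_mem_iff_of_index_two hidx2
          (a := ⟨cm a y, h.fixed_mem ha (hall a ha)⟩) (b := ⟨cm a d, h.fixed_mem ha (hdc a)⟩)).mpr
          ⟨fun e => absurd (Subgroup.mem_subgroupOf.mp e) h1,
            fun e => absurd (Subgroup.mem_subgroupOf.mp e) h2⟩)
      refine hydE (hkill a ha haE (y * d) (D.mul_mem hy hd) (fun w hw => ?_) ?_)
      · rw [h.cm_mul_central hy (hdc w)]; exact E.mul_mem (hall w hw) (hdc w)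
      · rw [h.cm_mul_central hy (hdc a)]; exact hprod
    -- the commutator lies in the coset of `d`
    have hcd : cm v y * d ∈ E := (hyc v).resolve_left hvy
    set e := cm v y * d⁻¹ with he_def
    have he : e ∈ E := by
      have : e = (cm v y * d) * (d * d)⁻¹ := by rw [he_def]; group
      rw [this]
      exact E.mul_mem hcd (E.inv_mem hdd)
    have hv2 := h.hA.sq v hv
    have hvy' : v * y * v⁻¹ = e * d * y := by rw [he_def, cm]; group
    have hc' : cm v d * d = v * d * v⁻¹ := by rw [cm]; group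
    have key : (v * e * v⁻¹) * cm v d * (d * e * d) = 1 := by
      apply mul_right_cancel (b := y)
      rw [one_mul]
      calc (v * e * v⁻¹) * cm v d * (d * e * d) * y
          = (v * e * v⁻¹) * (cm v d * d) * (e * d * y) := by group
        _ = (v * e * v⁻¹) * (v * d * v⁻¹) * (v * y * v⁻¹) := by rw [hc', hvy']
        _ = v * (e * d * y) * v⁻¹ := by group
        _ = (v * v) * y * (v * v)⁻¹ := by rw [← hvy']; group
        _ = y := by rw [hv2]; group
    have hde : d * e * d = e * (d * d) := by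
      rw [← Subgroup.mem_centralizer_iff.mp hd e he]; group
    rw [hde] at key
    have hZdd : d * d ∈ Z := hsq d hd hdE hdd hdc
    have hcvd : cm v d ∈ E := hdc v
    have hprod : cm v e * cm v d * (d * d) = 1 := by
      calc cm v e * cm v d * (d * d) = (v * e * v⁻¹) * (e⁻¹ * cm v d) * (d * d) := by
            simp only [cm]; group
        _ = (v * e * v⁻¹) * (cm v d * e) * (d * d) := by
            rw [h.hE.inv he, h.hE.comm e he _ hcvd]
        _ = (v * e * v⁻¹) * cm v d * (e * (d * d)) := by group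
        _ = 1 := key
    have : cm v d ∈ Z := by
      have e' : cm v d = (cm v e)⁻¹ * (d * d)⁻¹ := by
        calc cm v d = (cm v e)⁻¹ * (cm v e * cm v d * (d * d)) * (d * d)⁻¹ := by group
          _ = _ := by rw [hprod, mul_one]
      rw [e']
      exact Z.mul_mem (Z.inv_mem (hT v hv hvE e he)) (Z.inv_mem hZdd)
    exact hdE (hkill v hv hvE d hd (fun w _ => hdc w) this)
  refine ⟨?_, fun x hx hxE g => ?_⟩
  · refine (Subgroup.card_le_of_le hDF).trans ((card_le_two_mul_of_mul_mem F E ?_).trans (by omega))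
    intro q hq hqE r hr hrE
    have hqd : q * d ∈ E := hq.resolve_left hqE
    have hrd : r * d ∈ E := hr.resolve_left hrE
    have e : q * r = (q * d) * (r * d) * (d * d)⁻¹ := by
      calc q * r = q * d * (d⁻¹ * (r * d)) * d⁻¹ := by group
        _ = q * d * ((r * d) * d⁻¹) * d⁻¹ := by
          rw [show d⁻¹ * (r * d) = r * d * d⁻¹ from by
            rw [inv_mul_eq_iff_eq_mul, ← mul_assoc,
              ← Subgroup.mem_centralizer_iff.mp hd _ hrd, mul_inv_cancel_right]]
        _ = _ := by group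
    rw [e]
    exact E.mul_mem (E.mul_mem hqd hrd) (E.inv_mem hdd)
  · have hxd : x * d ∈ E := (hDF hx).resolve_left hxE
    have e : x = (x * d) * (d * d)⁻¹ * d := by group
    rw [e, cm_mul_right]
    have h1 : (x * d) * (d * d)⁻¹ ∈ E := E.mul_mem hxd (E.inv_mem hdd)
    exact E.mul_mem (h.cm_mem g h1) (h.norm _ _ (hdc g))

/-- The bound when the centraliser of `E` is small. -/
theorem card_le_tail (h8 : Nat.card E = 8) (hD16 : Nat.card (Subgroup.centralizer (E : Set S)) ≤ 16)
    (Z : Subgroup S) (hZ : Nat.card Z = 2) (hZE : Z ≤ E) {a : S} (ha : ∀ e ∈ E, cm a e ∈ Z)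
    (hd : ∀ d ∈ Subgroup.centralizer (E : Set S), d ∉ E →
      d * d ∈ Z ∧ d * d ≠ 1 ∧ cm a d ∈ E ∧ cm a d ∉ Z)
    {X K : Subgroup S} (hXK : SqLE X K) : Nat.card X ≤ 16 * Nat.card K := by
  classical
  haveI : Fact (Nat.Prime 2) := ⟨Nat.prime_two⟩
  haveI := h.normal
  haveI : Finite (MulAut E) := Finite.of_injective _ MulEquiv.toEquiv_injective
  set φ := (MulAut.conjNormal : S →* MulAut E) with hφ
  set D := Subgroup.centralizer (E : Set S) with hDdef
  have hker : φ.ker = D := mem_ker_conjNormal (W := E)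
  have hr2 := card_map_le_of_eight h.pgroup E h.hE h8 hXK
  rw [← hφ] at hr2
  set Y := X ⊓ φ.ker with hY
  have hY16 : Nat.card Y ≤ 16 := (Subgroup.card_le_of_le (inf_le_right.trans hker.le)).trans hD16
  have hK0 : 0 < Nat.card (K ⊓ φ.ker : Subgroup S) := Nat.card_pos
  have hbigY : 8 < Nat.card Y → ∃ d ∈ Y, d ∉ E := by
    intro hlt
    by_contra hc
    push_neg at hc
    have hle : Y ≤ E := hc
    have h1 : Nat.card Y ≤ Nat.card E := Subgroup.card_le_of_le hle
    omega
  have hnt : ∀ {w : S}, w ∈ K ⊓ φ.ker → w ≠ 1 → 2 ≤ Nat.card (K ⊓ φ.ker : Subgroup S) := by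
    intro w hw hw1
    by_contra hc
    exact hw1 (Subgroup.mem_bot.mp (Subgroup.eq_bot_of_card_le (K ⊓ φ.ker) (by omega) ▸ hw))
  have hsqY : ∀ y ∈ Y, y ∉ E → y * y ∈ K ⊓ φ.ker ∧ y * y ≠ 1 := fun y hy hyE =>
    ⟨⟨hXK.2 y hy.1, φ.ker.mul_mem hy.2 hy.2⟩, (hd y (hker ▸ hy.2) hyE).2.1⟩
  rcases Nat.lt_or_ge (Nat.card (X.map φ)) (4 * Nat.card (K.map φ)) with hsmall | hbig
  · have hr2' : Nat.card (X.map φ) ≤ 2 * Nat.card (K.map φ) := by
      obtain ⟨m, hm⟩ := IsPGroup.iff_card.mp ((h.pgroup.to_subgroup X).map φ)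
      obtain ⟨k, hk⟩ := IsPGroup.iff_card.mp ((h.pgroup.to_subgroup K).map φ)
      rw [hm, hk] at hsmall ⊢
      rw [show 4 * 2 ^ k = 2 ^ (k + 2) by rw [pow_add]; ring] at hsmall
      rw [show 2 * 2 ^ k = 2 ^ (k + 1) by rw [pow_add]; ring]
      have := (Nat.pow_lt_pow_iff_right Nat.one_lt_two).mp hsmall
      exact Nat.pow_le_pow_right Nat.two_pos (by omega)
    refine (card_le_split φ (a := 8) ?_ hr2').trans (by norm_num)
    by_cases hY8 : Nat.card Y ≤ 8
    · show Nat.card Y ≤ _; omega
    obtain ⟨y, hy, hyE⟩ := hbigY (by omega)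
    have := hnt (hsqY y hy hyE).1 (hsqY y hy hyE).2
    show Nat.card Y ≤ _
    omega
  refine (card_le_split φ (a := 4) ?_ hr2).trans (by norm_num)
  show Nat.card Y ≤ _
  by_cases hY4 : Nat.card Y ≤ 4
  · omega
  have hXD : ¬ X ≤ φ.ker := fun hle => by
    have e : X.map φ = ⊥ := (Subgroup.map_eq_bot_iff _).mpr hle
    rw [e, Subgroup.card_bot] at hbig
    have : 0 < Nat.card (K.map φ) := Nat.card_pos
    omega
  by_cases hY8 : Nat.card Y ≤ 8
  · -- order eight
    obtain ⟨w, hw, hw1⟩ : ∃ w ∈ K ⊓ φ.ker, w ≠ 1 := by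
      by_cases hex : ∃ y ∈ Y, y ∉ E
      · obtain ⟨y, hy, hyE⟩ := hex
        exact ⟨_, (hsqY y hy hyE).1, (hsqY y hy hyE).2⟩
      push_neg at hex
      have hYE : Y = E := by
        refine Subgroup.eq_of_le_of_card_ge hex ?_
        rw [h8]
        obtain ⟨m, hm⟩ := exists_two_pow h.pgroup Y
        rw [hm] at hY4 ⊢
        by_contra hc
        have : m ≤ 2 := by
          by_contra hm2
          have : 2 ^ 3 ≤ 2 ^ m := Nat.pow_le_pow_right (by norm_num) (by omega)
          omega
        have : 2 ^ m ≤ 2 ^ 2 := Nat.pow_le_pow_right (by norm_num) this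
        omega
      obtain ⟨x, hx, hxD⟩ := SetLike.not_le_iff_exists.mp hXD
      obtain ⟨e, he, hxe⟩ : ∃ e ∈ E, cm x e ≠ 1 := by
        by_contra hc
        push_neg at hc
        apply hxD
        rw [hker]
        exact Subgroup.mem_centralizer_iff.mpr fun e he => (cm_eq_one.mp (hc e he)).symm
      have heY : e ∈ Y := hYE.symm ▸ he
      exact ⟨cm x e, ⟨hXK.comm_mem hx heY.1, by
        rw [hker]; exact h.le_centralizer (h.cm_mem x he)⟩, hxe⟩
    have := hnt hw hw1
    omega
  -- order sixteen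
  have hYD : Y = D := by
    refine Subgroup.eq_of_le_of_card_ge (inf_le_right.trans hker.le) ?_
    obtain ⟨m, hm⟩ := exists_two_pow h.pgroup Y
    rw [hm] at hY8 ⊢
    have : 4 ≤ m := by
      by_contra hc
      have : 2 ^ m ≤ 2 ^ 3 := Nat.pow_le_pow_right (by norm_num) (by omega)
      omega
    have : 2 ^ 4 ≤ 2 ^ m := Nat.pow_le_pow_right (by norm_num) this
    omega
  obtain ⟨d, hdY, hdE⟩ := hbigY (by omega)
  obtain ⟨hddZ, hdd1, hadE, hadZ⟩ := hd d (hker ▸ hdY.2) hdE
  obtain ⟨hddK, -⟩ := hsqY d hdY hdE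
  have hEX : ∀ e ∈ E, e ∈ X := fun e he =>
    ((hYD.symm ▸ h.le_centralizer he : e ∈ Y)).1
  obtain ⟨w, hw, hwZ⟩ : ∃ w ∈ K ⊓ φ.ker, w ∉ Z := by
    by_contra hcon
    push_neg at hcon
    have hall : ∀ x ∈ X, ∀ e ∈ E, cm x e ∈ Z := fun x hx e he =>
      hcon _ ⟨hXK.comm_mem hx (hEX e he), by
        rw [hker]; exact h.le_centralizer (h.cm_mem x he)⟩
    obtain ⟨⟨z, hzZ⟩, hz1, hzu⟩ := (Nat.card_eq_two_iff' (1 : Z)).mp hZ
    obtain ⟨e1, he1, he1Z⟩ : ∃ e ∈ E, e ∉ Z := by
      by_contra hc
      push_neg at hc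
      have := Subgroup.card_le_of_le (show E ≤ Z from hc)
      omega
    obtain ⟨e2, he2, he2Z, he21⟩ : ∃ e ∈ E, e ∉ Z ∧ e * e1 ∉ Z := by
      by_contra hc
      push_neg at hc
      have := card_le_two_mul_of_mul_mem E Z fun q hq hqZ r hr hrZ => by
        have e : q * r = (q * e1) * (r * e1) := by
          calc q * r = q * r * (e1 * e1) := by rw [h.hE.sq e1 he1, mul_one]
            _ = q * (r * e1) * e1 := by group
            _ = q * (e1 * (r * e1)) := by
              rw [mul_assoc, h.hE.comm _ (E.mul_mem hr he1) e1 he1]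
            _ = _ := by group
        rw [e]
        exact Z.mul_mem (hc q hq hqZ) (hc r hr hrZ)
      omega
    let V : Set (MulAut E) := {α | ∀ e : E, ((α e : E) : S) * (e : S)⁻¹ ∈ Z}
    have hVcard : Nat.card V ≤ 4 := by
      have hfixZ : ∀ α ∈ V, ∀ e : E, (e : S) ∈ Z → α e = e := by
        intro α hα e he
        by_cases hee : e = 1
        · rw [hee, map_one]
        have hαe : ((α e : E) : S) ∈ Z := by
          have := Z.mul_mem (hα e) he
          rwa [inv_mul_cancel_right] at this
        have hne : α e ≠ 1 := fun h' => hee ((map_eq_one_iff α (MulEquiv.injective α)).mp h')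
        have h1 := hzu ⟨_, hαe⟩ (fun h' => hne (Subtype.ext (congrArg Subtype.val h' :)))
        have h2 := hzu ⟨_, he⟩ (fun h' => hee (Subtype.ext (congrArg Subtype.val h' :)))
        exact Subtype.ext (congrArg Subtype.val (h1.trans h2.symm) :)
      let g : V → Z × Z := fun α => (⟨_, α.2 ⟨e1, he1⟩⟩, ⟨_, α.2 ⟨e2, he2⟩⟩)
      have hg : Function.Injective g := by
        intro α β e
        let H : Subgroup E := MonoidHom.eqLocus α.1.toMonoidHom β.1.toMonoidHom
        have hz : ∀ w : E, (w : S) ∈ Z → w ∈ H := fun w hw => by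
          show α.1 w = β.1 w
          rw [hfixZ _ α.2 w hw, hfixZ _ β.2 w hw]
        have hH1 : (⟨e1, he1⟩ : E) ∈ H := by
          show α.1 _ = β.1 _
          exact Subtype.ext (mul_right_cancel (congrArg (fun p : Z × Z => (p.1 : S)) e))
        have hH2 : (⟨e2, he2⟩ : E) ∈ H := by
          show α.1 _ = β.1 _
          exact Subtype.ext (mul_right_cancel (congrArg (fun p : Z × Z => (p.2 : S)) e))
        have hHcard : 6 ≤ Nat.card H := by
          let c : Fin 3 → E := ![1, ⟨e1, he1⟩, ⟨e2, he2⟩]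
          have hc : ∀ i, c i ∈ H := by
            intro i; fin_cases i
            exacts [H.one_mem, hH1, hH2]
          have hinj : Function.Injective (fun p : Z × Fin 3 =>
              (⟨⟨(p.1 : S), hZE p.1.2⟩ * c p.2, H.mul_mem (hz _ p.1.2) (hc p.2)⟩ : H)) := by
            rintro ⟨u, i⟩ ⟨u', j⟩ e'
            have e'' : (u : S) * (c i : S) = (u' : S) * (c j : S) :=
              congrArg (fun t : H => ((t : E) : S)) e'
            have hm : (c i : S) * (c j : S)⁻¹ ∈ Z := by
              have : (c i : S) * (c j : S)⁻¹ = (u : S)⁻¹ * u' := by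
                rw [eq_inv_mul_iff_mul_eq, ← mul_assoc, e'', mul_inv_cancel_right]
              rw [this]
              exact Z.mul_mem (Z.inv_mem u.2) u'.2
            have hij : i = j := by
              have hi : ∀ {w : S}, w⁻¹ ∈ Z → w ∈ Z := fun hw => (Subgroup.inv_mem_iff Z).mp hw
              have h21 : e2 * e1⁻¹ ∉ Z := by rwa [h.hE.inv he1]
              have h12 : e1 * e2⁻¹ ∉ Z := fun hh => h21 (hi (by simpa using hh))
              fin_cases i <;> fin_cases j <;> simp [c] at hm <;> first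
                | rfl | exact absurd hm he1Z | exact absurd hm he2Z
                | exact absurd hm h12 | exact absurd hm h21
            subst hij
            have : u = u' := Subtype.ext (mul_right_cancel e'')
            rw [this]
          have := Nat.card_le_card_of_injective _ hinj
          rw [Nat.card_prod, hZ, Nat.card_eq_fintype_card (α := Fin 3), Fintype.card_fin] at this
          exact this
        have hHtop : H = ⊤ := by
          refine Subgroup.eq_top_of_card_eq _ ?_
          obtain ⟨c, hc⟩ := Subgroup.card_subgroup_dvd_card H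
          rw [h8] at hc ⊢
          rcases c with _ | _ | c
          · omega
          · omega
          · nlinarith
        apply Subtype.ext
        apply MulEquiv.ext
        intro w
        exact (hHtop ▸ Subgroup.mem_top w : w ∈ H)
      refine (Nat.card_le_card_of_injective g hg).trans (le_of_eq ?_)
      rw [Nat.card_prod, hZ]
    have hsub : ((X.map φ : Subgroup (MulAut E)) : Set (MulAut E)) ⊆ V := by
      rintro _ ⟨x, hx, rfl⟩ e
      rw [MulAut.conjNormal_apply]
      exact hall x hx e e.2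
    have hXV : ((X.map φ : Subgroup (MulAut E)) : Set (MulAut E)) = V := by
      refine Set.eq_of_subset_of_ncard_le hsub ?_ (Set.toFinite _)
      rw [← Nat.card_coe_set_eq, ← Nat.card_coe_set_eq]
      have : 0 < Nat.card (K.map φ) := Nat.card_pos
      exact hVcard.trans ((show 4 ≤ Nat.card (X.map φ) by omega))
    have haV : φ a ∈ V := fun e => by
      rw [MulAut.conjNormal_apply]; exact ha e e.2
    rw [← hXV] at haV
    obtain ⟨x, hx, hxa⟩ := haV
    have haX : a ∈ X := by
      have : x⁻¹ * a ∈ φ.ker := by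
        rw [MonoidHom.mem_ker, map_mul, map_inv, hxa, inv_mul_cancel]
      have hm : x⁻¹ * a ∈ Y := by rw [hYD, ← hker]; exact this
      have := X.mul_mem hx hm.1
      rwa [mul_inv_cancel_left] at this
    exact hadZ (hcon _ ⟨hXK.comm_mem haX hdY.1, by
      rw [hker]; exact h.le_centralizer hadE⟩)
  -- at least four elements
  have h4 : 4 ≤ Nat.card (K ⊓ φ.ker : Subgroup S) := by
    obtain ⟨m, hm⟩ := exists_two_pow h.pgroup (K ⊓ φ.ker)
    have h2 := hnt hddK hdd1
    rw [hm] at h2 ⊢
    rcases Nat.lt_or_ge m 2 with hm1 | hm2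
    · exfalso
      have hm' : m = 1 := by
        rcases m with _ | _ | m
        · simp at h2
        · rfl
        · omega
      rw [hm', pow_one] at hm
      obtain ⟨y, -, hy⟩ := (Nat.card_eq_two_iff' (1 : (K ⊓ φ.ker : Subgroup S))).mp hm
      have hw1 : w ≠ 1 := fun e => hwZ (e ▸ Z.one_mem)
      have e := (hy ⟨w, hw⟩ (fun e => hw1 (congrArg Subtype.val e :))).trans
        (hy ⟨d * d, hddK⟩ (fun e => hdd1 (congrArg Subtype.val e :))).symm
      exact hwZ ((show w = d * d from congrArg Subtype.val e).symm ▸ hddZ)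
    · exact le_of_eq_of_le (by norm_num) (Nat.pow_le_pow_right (by norm_num : 0 < 2) hm2)
  omega

end Setting

end CfsgLib.TwoRank
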