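import Cfsg.Agent.Lib.TwoRank.SelfCent

/-!
The case of a normal elementary abelian subgroup of order sixteen.
-/

set_option autoImplicit false

namespace CfsgLib.TwoRank

variable {S : Type*} [Group S] [Finite S] {A E : Subgroup S}

namespace Setting

variable (h : Setting A E)
include h

theorem img_eq_fixed {a : S} (ha : a ∈ A) (haE : a ∉ E) (h16 : Nat.card E = 16) :
    cmImg E h.hE a (h.norm a) = E ⊓ Subgroup.centralizer {a} := by
  refine Subgroup.eq_of_le_of_card_ge (cmImg_le_fixed (h.hA.sq a ha)) ?_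
  have h1 := card_cmImg E h.hE a (h.norm a)
  have h2 := h.fixed_le_four ha haE
  have h3 := Subgroup.card_le_of_le (cmImg_le_fixed (h.hA.sq a ha) :
    cmImg E h.hE a (h.norm a) ≤ E ⊓ Subgroup.centralizer {a})
  rw [h16] at h1
  nlinarith

omit [Finite S] in
theorem fixed_mem {a x : S} (ha : a ∈ A) (hx : cm a x ∈ E) :
    cm a x ∈ E ⊓ Subgroup.centralizer {a} :=
  ⟨hx, Subgroup.mem_centralizer_singleton_iff.mpr
    (mul_inv_eq_iff_eq_mul.mp (cm_fixed h.hE (h.hA.sq a ha) hx)).symm⟩

/-- An element fixing `A ⊓ E` and centralising `A` modulo `E` lies in `E A`. -/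
theorem mem_sup_sixteen (h16 : Nat.card E = 16) {s : S} (hs : ∀ v ∈ A, cm v s ∈ E)
    (hsL : ∀ l ∈ A ⊓ E, l * s = s * l) : ∃ e ∈ E, e * s ∈ A := by
  obtain ⟨a, ha, haE⟩ := h.exists_outside fun e => by
    have := h.cardA; rw [e, h16] at this; omega
  rcases h.card_inf with h2 | h4 | hAE
  · obtain ⟨b, hb, hbE, habE⟩ := h.exists_second h2 ha
    exact h.mem_sup_two h2 ha haE hb hbE habE
      (h.img_eq_fixed ha haE h16 ▸ h.fixed_mem ha (hs a ha)) (hs b hb) hsL
  · exact h.mem_sup_four h4 ha haE (h.img_eq_fixed ha haE h16 ▸ h.fixed_mem ha (hs a ha)) hsL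
  · exact absurd (hAE ▸ ha) haE

theorem centralizer_eq (h16 : Nat.card E = 16) : Subgroup.centralizer (E : Set S) = E := by
  refine le_antisymm ?_ h.le_centralizer
  by_contra hne
  haveI := h.normal
  obtain ⟨d, hd, hdE, -, hdc⟩ := exists_central_mod h.pgroup E (Subgroup.centralizer (E : Set S)) hne
  obtain ⟨e, he, hed⟩ := h.mem_sup_sixteen h16 (fun v _ => hdc v)
    fun l hl => Subgroup.mem_centralizer_iff.mp hd l hl.2
  have := h.inf_centralizer hed ((Subgroup.centralizer (E : Set S)).mul_mem (h.le_centralizer he) hd)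
  exact hdE ((E.mul_mem_cancel_left he).mp this)

theorem card_map_mk [E.Normal] :
    Nat.card (A ⊓ E : Subgroup S) * Nat.card (A.map (QuotientGroup.mk' E)) = 8 := by
  rw [← h.cardA]
  have := card_split (QuotientGroup.mk' E) A
  rw [QuotientGroup.ker_mk'] at this
  exact this.symm

omit [Finite S] in
theorem centralizer_single_eq {v e x : S} (he : e ∈ E) (hx : x = e * v) :
    E ⊓ Subgroup.centralizer {x} ≤ E ⊓ Subgroup.centralizer {v} := by
  rintro f ⟨hf, hfx⟩
  refine ⟨hf, Subgroup.mem_centralizer_singleton_iff.mpr ?_⟩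
  have h1 : f * x = x * f := Subgroup.mem_centralizer_singleton_iff.mp hfx
  apply mul_left_cancel (a := e)
  calc e * (f * v) = (e * f) * v := by group
    _ = f * (e * v) := by rw [h.hE.comm e he f hf]; group
    _ = x * f := by rw [← hx, h1]
    _ = e * (v * f) := by rw [hx]; group

/-- An element of the quotient with small centraliser, together with a central involution all of
whose preimages fix at most four elements. -/
theorem exists_quotient_data [E.Normal] (h16 : Nat.card E = 16) :
    ∃ t z : S ⧸ E, Nat.card (Subgroup.centralizer ({t} : Set (S ⧸ E))) ≤ 4 ∧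
      (∀ q, q * z = z * q) ∧ z * z = 1 ∧
      ∀ x : S, (x : S ⧸ E) = z → Nat.card (E ⊓ Subgroup.centralizer {x} : Subgroup S) ≤ 4 := by
  haveI : Fact (Nat.Prime 2) := ⟨Nat.prime_two⟩
  set f := QuotientGroup.mk' E
  obtain ⟨a, ha, haE⟩ := h.exists_outside fun e => by
    have := h.cardA; rw [e, h16] at this; omega
  obtain ⟨z0, -, hz0n, hz0sq, hz0c⟩ := exists_central_mod h.pgroup E ⊤ (fun hle => haE (hle trivial))
  set z : S ⧸ E := f z0 with hz
  have hz2 : z * z = 1 := by
    rw [hz, ← map_mul]; exact (QuotientGroup.eq_one_iff _).mpr hz0sq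
  have hzc : ∀ q, q * z = z * q := by
    intro q
    obtain ⟨g, rfl⟩ := QuotientGroup.mk'_surjective E q
    have := (QuotientGroup.eq_one_iff _).mpr (hz0c g)
    change f (cm g z0) = 1 at this
    simp only [cm, map_mul, map_inv] at this
    exact mul_inv_eq_iff_eq_mul.mp (mul_inv_eq_one.mp this)
  have hEA : ∀ {s e : S}, e ∈ E → e * s ∈ A → f s ∈ A.map f := fun {s e} he hes =>
    ⟨e * s, hes, by rw [map_mul, show f e = 1 from (QuotientGroup.eq_one_iff e).mpr he, one_mul]⟩
  have hcomm : ∀ {v s : S}, f v * f s = f s * f v → cm v s ∈ E := fun {v s} hvs => by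
    apply (QuotientGroup.eq_one_iff _).mp
    show f (cm v s) = 1
    simp only [cm, map_mul, map_inv, hvs]
    group
  rcases h.card_inf with h2 | h4 | hAE
  rotate_left 2
  · exact absurd (hAE ▸ ha) haE
  · -- `|A ⊓ E| = 2`
    obtain ⟨z1, hz1, hz1ne, hz1c⟩ := h.exists_central
    have hA1 : ∀ l ∈ A ⊓ E, ∀ s : S, l * s = s * l := by
      intro l hl s
      obtain ⟨y, -, hy⟩ := (Nat.card_eq_two_iff' (1 : (A ⊓ E : Subgroup S))).mp h2
      by_cases hl1 : l = 1
      · rw [hl1, one_mul, mul_one]
      · have := (hy ⟨l, hl⟩ (fun e => hl1 (congrArg Subtype.val e))).trans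
          (hy ⟨z1, hz1⟩ (fun e => hz1ne (congrArg Subtype.val e))).symm
        rw [show l = z1 from congrArg Subtype.val this]
        exact (hz1c s).symm
    have hV : Nat.card (A.map f) = 4 := by
      have : Nat.card (A ⊓ E : Subgroup S) * Nat.card (A.map f) = 8 := h.card_map_mk
      rw [h2] at this
      omega
    have hkill : ∀ s : S, (∀ v ∈ A, f v * f s = f s * f v) → f s ∈ A.map f := by
      intro s hs
      obtain ⟨e, he, hes⟩ := h.mem_sup_sixteen h16 (fun v hv => hcomm (hs v hv))
        fun l hl => hA1 l hl s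
      exact hEA he hes
    obtain ⟨v, hv, hvz⟩ := hkill z0 fun v _ => hzc _
    have hvE : v ∉ E := fun hvE => hz0n ((QuotientGroup.eq_one_iff z0).mp
      (hvz.symm.trans ((QuotientGroup.eq_one_iff v).mpr hvE)))
    obtain ⟨b, hb, hbE, hvbE⟩ := h.exists_second h2 hv
    refine ⟨f b, z, ?_, hzc, hz2, fun x hx => ?_⟩
    · refine le_trans (Subgroup.card_le_of_le (K := A.map f) ?_) hV.le
      intro q hq
      obtain ⟨s, rfl⟩ := QuotientGroup.mk'_surjective E q
      have hqb := Subgroup.mem_centralizer_singleton_iff.mp hq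
      obtain ⟨e, he, hes⟩ := h.mem_sup_two h2 hv hvE hb hbE hvbE
        (h.img_eq_fixed hv hvE h16 ▸ h.fixed_mem hv (hcomm (by rw [hvz]; exact (hzc _).symm)))
        (hcomm hqb.symm) (fun l hl => hA1 l hl s)
      exact hEA he hes
    · have hxv : x * v⁻¹ ∈ E := by
        apply (QuotientGroup.eq_one_iff _).mp
        show f (x * v⁻¹) = 1
        rw [map_mul, map_inv, hvz, mul_inv_eq_one]
        exact hx
      exact (Subgroup.card_le_of_le (h.centralizer_single_eq hxv (inv_mul_cancel_right x v).symm)).trans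
        (h.fixed_le_four hv hvE)
  · -- `|A ⊓ E| = 4`
    obtain ⟨l0, hl0, hl01, hl0c⟩ := h.exists_central
    have hL := h.fixed_four h4 ha haE
    obtain ⟨l, hl, hl1, hll0⟩ : ∃ l ∈ A ⊓ E, l ≠ 1 ∧ l ≠ l0 := by
      by_contra hc
      push_neg at hc
      classical
      have := Nat.card_le_card_of_injective (fun x : (A ⊓ E : Subgroup S) => decide ((x : S) = 1))
        fun x y e => by
          have e' := decide_eq_decide.mp e
          by_cases hx : (x : S) = 1
          · exact Subtype.ext (hx.trans (e'.mp hx).symm)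
          · exact Subtype.ext
              ((hc x x.2 hx).trans (hc y y.2 (fun h' => hx (e'.mpr h'))).symm)
      rw [h4] at this
      simp at this
    have hfour := four_cases h4 hl0 (h.hA.sq l0 hl0.1) hl hl01 hl1 hll0
    have hfix : ∀ s : S, s * l * s⁻¹ = l → ∀ m ∈ A ⊓ E, m * s = s * m := by
      intro s hs m hm
      have c1 : Commute s l := mul_inv_eq_iff_eq_mul.mp hs
      have c2 : Commute s l0 := hl0c s
      rcases hfour m hm with rfl | rfl | rfl | rfl
      exacts [(Commute.one_right s).eq.symm, c2.eq.symm, c1.eq.symm, (c1.mul_right c2).eq.symm]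
    have hmove : ∀ s : S, cm a s ∈ E → s * l * s⁻¹ ≠ l → s * l * s⁻¹ = l * l0 := by
      intro s hs hne
      have hmem : s * l * s⁻¹ ∈ A ⊓ E := by
        rw [← hL]
        refine ⟨h.norm s l hl.2, Subgroup.mem_centralizer_singleton_iff.mpr ?_⟩
        set c := cm a s with hc
        have e1 : a = c * (s * a * s⁻¹) := by rw [hc, cm]; group
        have hlE : s * l * s⁻¹ ∈ E := h.norm s l hl.2
        calc s * l * s⁻¹ * a = (s * l * s⁻¹ * c) * (s * a * s⁻¹) := by
              conv_lhs => rw [e1]
              group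
          _ = (c * (s * l * s⁻¹)) * (s * a * s⁻¹) := by rw [h.hE.comm _ hlE c hs]
          _ = c * (s * (l * a) * s⁻¹) := by group
          _ = c * (s * a * s⁻¹) * (s * l * s⁻¹) := by rw [h.hA.comm l hl.1 a ha]; group
          _ = a * (s * l * s⁻¹) := by rw [← e1]
      rcases hfour _ hmem with e | e | e | e
      · exact absurd (conj_eq_one_iff.mp e) hl1
      · have e' : l = l0 := by
          calc l = s⁻¹ * (s * l * s⁻¹) * s := by group
            _ = s⁻¹ * (l0 * s) := by rw [e, mul_assoc]
            _ = l0 := by rw [← hl0c s]; group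
        exact absurd e' hll0
      · exact absurd e hne
      · exact e
    have hAmap : Nat.card (A.map f) = 2 := by
      have : Nat.card (A ⊓ E : Subgroup S) * Nat.card (A.map f) = 8 := h.card_map_mk
      rw [h4] at this
      omega
    have hgen : ∀ v ∈ A, f v = 1 ∨ f v = f a := by
      intro v hv
      obtain ⟨y, -, hy⟩ := (Nat.card_eq_two_iff' (1 : A.map f)).mp hAmap
      by_cases hv1 : f v = 1
      · exact Or.inl hv1
      · refine Or.inr ?_
        have h1 := hy ⟨f v, v, hv, rfl⟩ (fun e => hv1 (congrArg Subtype.val e))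
        have h2 := hy ⟨f a, a, ha, rfl⟩
          (fun e => haE ((QuotientGroup.eq_one_iff a).mp (congrArg Subtype.val e)))
        exact congrArg Subtype.val (h1.trans h2.symm)
    have hkill : ∀ s : S, f a * f s = f s * f a → s * l * s⁻¹ = l → f s ∈ A.map f := by
      intro s hs hsl
      obtain ⟨e, he, hes⟩ := h.mem_sup_sixteen h16 (fun v hv => hcomm (by
        rcases hgen v hv with e | e <;> rw [e]
        · rw [one_mul, mul_one]
        · exact hs)) (hfix s hsl)
      exact hEA he hes
    refine ⟨f a, z, ?_, hzc, hz2, fun x hx => ?_⟩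
    · refine le_trans (card_le_two_mul_of_mul_mem _ (A.map f) ?_) (by rw [hAmap])
      intro q hq hqn r hr hrn
      obtain ⟨s, rfl⟩ := QuotientGroup.mk'_surjective E q
      obtain ⟨t, rfl⟩ := QuotientGroup.mk'_surjective E r
      have hs := (Subgroup.mem_centralizer_singleton_iff.mp hq).symm
      have ht := (Subgroup.mem_centralizer_singleton_iff.mp hr).symm
      have e1 := hmove s (hcomm hs) fun e => hqn (hkill s hs e)
      have e2 := hmove t (hcomm ht) fun e => hrn (hkill t ht e)
      rw [← map_mul]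
      refine hkill (s * t) ?_ ?_
      · exact (Subgroup.mem_centralizer_singleton_iff.mp (map_mul f s t ▸
          (Subgroup.centralizer ({f a} : Set (S ⧸ E))).mul_mem hq hr)).symm
      · have c2 : s * l0 * s⁻¹ = l0 := by rw [hl0c, mul_inv_cancel_right]
        calc s * t * l * (s * t)⁻¹ = s * (t * l * t⁻¹) * s⁻¹ := by group
          _ = (s * l * s⁻¹) * (s * l0 * s⁻¹) := by rw [e2]; group
          _ = l := by rw [e1, c2, mul_assoc, h.hA.sq l0 hl0.1, mul_one]
    · change f x = z at hx
      have hax : f a * f x = f x * f a := by rw [hx]; exact hzc _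
      by_cases hxl : x * l * x⁻¹ = l
      · obtain ⟨v, hv, hvx⟩ := hkill x hax hxl
        have hvE : v ∉ E := fun hvE => hz0n ((QuotientGroup.eq_one_iff z0).mp
          ((hvx.trans hx).symm.trans ((QuotientGroup.eq_one_iff v).mpr hvE)))
        have hxv : x * v⁻¹ ∈ E := by
          apply (QuotientGroup.eq_one_iff _).mp
          show f (x * v⁻¹) = 1
          rw [map_mul, map_inv, hvx, mul_inv_cancel]
        exact (Subgroup.card_le_of_le
          (h.centralizer_single_eq hxv (inv_mul_cancel_right x v).symm)).trans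
            (h.fixed_le_four hv hvE)
      · set H := E ⊓ Subgroup.centralizer {x} with hH
        have hc := hcomm hax
        have hn : ∀ e ∈ H, a * e * a⁻¹ ∈ H := by
          intro e he
          have hex := Subgroup.mem_centralizer_singleton_iff.mp he.2
          refine ⟨h.norm a e he.1, Subgroup.mem_centralizer_singleton_iff.mpr ?_⟩
          set c := cm a x with hcdef
          have hax' : a * x * a⁻¹ = c * x := by rw [hcdef, cm]; group
          have he' : a * e * a⁻¹ ∈ E := h.norm a e he.1
          apply mul_left_cancel (a := c)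
          calc c * (a * e * a⁻¹ * x) = (c * (a * e * a⁻¹)) * x := by group
            _ = (a * e * a⁻¹) * (c * x) := by rw [h.hE.comm c hc _ he']; group
            _ = a * (e * x) * a⁻¹ := by rw [← hax']; group
            _ = (a * x * a⁻¹) * (a * e * a⁻¹) := by rw [hex]; group
            _ = c * (x * (a * e * a⁻¹)) := by rw [hax']; group
        have h1 := card_le_fixed_sq H (h.hE.mono inf_le_left) a (h.hA.sq a ha) hn
        have h2 : Nat.card (H ⊓ Subgroup.centralizer {a} : Subgroup S) ≤ 2 := by
          have hsub : H ⊓ Subgroup.centralizer {a} ≤ A ⊓ E :=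
            (inf_le_inf_right _ inf_le_left).trans hL.le
          have hne : H ⊓ Subgroup.centralizer {a} ≠ A ⊓ E := fun e => hxl (by
            have hm : l ∈ H ⊓ Subgroup.centralizer {a} := e ▸ hl
            rw [← Subgroup.mem_centralizer_singleton_iff.mp hm.1.2, mul_inv_cancel_right])
          obtain ⟨d, hd⟩ := Subgroup.card_dvd_of_le hsub
          rw [h4] at hd
          rcases d with _ | _ | d
          · omega
          · exact absurd (Subgroup.eq_of_le_of_card_ge hsub (by rw [h4]; omega)) hne
          · nlinarith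
        exact h1.trans (Nat.mul_le_mul h2 h2)

/-- The bound when `|E| = 16`. -/
theorem card_le_sixteen_case (h16 : Nat.card E = 16) {X K : Subgroup S} (hXK : SqLE X K) :
    Nat.card X ≤ 16 * Nat.card K := by
  haveI : Fact (Nat.Prime 2) := ⟨Nat.prime_two⟩
  haveI := h.normal
  set f := QuotientGroup.mk' E with hf
  obtain ⟨t, z, ht, hzc, hz2, hxfix⟩ := h.exists_quotient_data h16
  have hQ := h.pgroup.to_quotient E
  have hr2 := card_le_four_mul hQ t ht (hXK.map f)
  have hker : f.ker = E := QuotientGroup.ker_mk' E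
  have hY16 : Nat.card (X ⊓ f.ker : Subgroup S) ≤ 16 :=
    h16 ▸ Subgroup.card_le_of_le (inf_le_right.trans hker.le)
  have hK1 : 0 < Nat.card (K ⊓ f.ker : Subgroup S) := Nat.card_pos
  rcases Nat.lt_or_ge (Nat.card (X.map f)) (4 * Nat.card (K.map f)) with hsmall | hbig
  · have hr2' : Nat.card (X.map f) ≤ 2 * Nat.card (K.map f) :=
      le_of_lt_two_mul hQ (X.map f) (K.map f) 1 hsmall
    by_cases hY : Nat.card (X ⊓ f.ker : Subgroup S) ≤ 8 * Nat.card (K ⊓ f.ker : Subgroup S)
    · exact (card_le_split f hY hr2').trans (by norm_num)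
    have hYE : X ⊓ f.ker = E := by
      refine Subgroup.eq_of_le_of_card_ge (inf_le_right.trans hker.le) ?_
      have := le_of_lt_two_mul h.pgroup E (X ⊓ f.ker) 0
      simp only [zero_add, pow_one, pow_zero, one_mul] at this
      apply this
      rw [h16]; omega
    have hKb : K ⊓ f.ker = ⊥ := Subgroup.eq_bot_of_card_le _ (by omega)
    have hXE : X ≤ E := by
      intro x hx
      rw [← h.centralizer_eq h16]
      refine Subgroup.mem_centralizer_iff.mpr fun e he => ?_
      have heX : e ∈ X ⊓ f.ker := by rw [hYE]; exact he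
      have hce : cm x e ∈ K ⊓ f.ker :=
        ⟨hXK.comm_mem hx heX.1, by rw [hker]; exact h.cm_mem x he⟩
      rw [hKb, Subgroup.mem_bot] at hce
      exact (cm_eq_one.mp hce).symm
    have := Subgroup.card_le_of_le hXE
    have : 0 < Nat.card K := Nat.card_pos
    omega
  · obtain ⟨x, hx, hxz⟩ := mem_of_four_mul hQ t ht (hXK.map f) hbig hzc hz2
    set Y := X ⊓ E with hY
    have hn : ∀ e ∈ Y, x * e * x⁻¹ ∈ Y := fun e he =>
      ⟨X.mul_mem (X.mul_mem hx he.1) (X.inv_mem hx), h.norm x e he.2⟩
    have h1 := card_cmImg Y (h.hE.mono inf_le_right) x hn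
    have h2 : Nat.card (Y ⊓ Subgroup.centralizer {x} : Subgroup S) ≤ 4 :=
      (Subgroup.card_le_of_le (inf_le_inf_right _ inf_le_right)).trans (hxfix x hxz)
    have h3 : cmImg Y (h.hE.mono inf_le_right) x hn ≤ K ⊓ f.ker := by
      intro c hc
      obtain ⟨e, he, rfl⟩ := mem_cmImg.mp hc
      exact ⟨hXK.comm_mem hx he.1, by rw [hker]; exact h.cm_mem x he.2⟩
    refine (card_le_split f (a := 4) ?_ hr2).trans (by norm_num)
    rw [show Nat.card (X ⊓ f.ker : Subgroup S) = Nat.card Y by rw [hker]]
    rw [h1]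
    exact Nat.mul_le_mul h2 (Subgroup.card_le_of_le h3)

end Setting

end CfsgLib.TwoRank
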