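import Cfsg.Agent.Lib.SylowWreathFour.Model

/-!
The group `D₈ ≀ C₂` as `C₂ ≀ D₈`: finite facts used in the study of its overgroups.
-/

set_option autoImplicit false

namespace CfsgLib.DEightWreath

open CfsgLib.SylowWreathFour Equiv

/-- The model. -/
abbrev M := Wreath dih

instance instDecEqM : DecidableEq M := fun x y =>
  decidable_of_iff (x.left = y.left ∧ x.right = y.right)
    ⟨fun h => SemidirectProduct.ext h.1 h.2, fun h => h ▸ ⟨rfl, rfl⟩⟩

instance instFintypeM : Fintype M := Fintype.ofEquiv _ SemidirectProduct.equivProd.symm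

/-- Coordinates of the base. -/
def vec (i : Fin 4) : M := SemidirectProduct.inl (Multiplicative.ofAdd (Pi.single i 1))

/-- The first generator. -/
def A : M := vec 0

/-- The second generator. -/
def B : M := SemidirectProduct.inr ⟨swap 0 1, by decide⟩

/-- The exchange of the two blocks. -/
def T : M := SemidirectProduct.inr ⟨swap 0 2 * swap 1 3, by decide⟩

/-- The conjugate of `A` in the second block. -/
def A' : M := vec 2

/-- The conjugate of `B` in the second block. -/
def B' : M := SemidirectProduct.inr ⟨swap 2 3, by decide⟩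

/-- The central involution. -/
def Z : M := SemidirectProduct.inl (Multiplicative.ofAdd fun _ => 1)

/-- The centres of the blocks. -/
def Z1 : M := vec 0 * vec 1

/-- The centre of the second block. -/
def Z2 : M := vec 2 * vec 3

/-- Both blocks are fixed. -/
def Low (s : dih) : Prop := (s : Perm (Fin 4)) 0 < 2

/-- The vector is constant on the blocks. -/
def Even (v : Vec) : Prop := v.toAdd 0 = v.toAdd 1 ∧ v.toAdd 2 = v.toAdd 3

instance (s : dih) : Decidable (Low s) := by unfold Low; infer_instance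

instance (v : Vec) : Decidable (Even v) := by unfold Even; infer_instance

theorem low_mul : ∀ s t : dih, Low s → Low t → Low (s * t) := by decide +kernel

theorem low_inv : ∀ s : dih, Low s → Low s⁻¹ := by decide +kernel

theorem even_mul : ∀ v w : Vec, Even v → Even w → Even (v * w) := by decide +kernel

theorem even_inv : ∀ v : Vec, Even v → Even v⁻¹ := by decide +kernel

theorem even_perm : ∀ (s : dih) (v : Vec), Low s → Even v → Even (permAut (s : Perm (Fin 4)) v) := by
  decide +kernel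

/-- The product of the two blocks. -/
def DD : Subgroup M where
  carrier := {x | Low x.right}
  one_mem' := show Low 1 by decide
  mul_mem' {x y} (hx : Low x.right) (hy : Low y.right) := low_mul _ _ hx hy
  inv_mem' {x} (hx : Low x.right) := low_inv _ hx

/-- The first normal elementary abelian subgroup of order sixteen. -/
def V₁ : Subgroup M where
  carrier := {x | x.right = 1}
  one_mem' := rfl
  mul_mem' {x y} (hx : x.right = 1) (hy : y.right = 1) := show x.right * y.right = 1 by rw [hx, hy, one_mul]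
  inv_mem' {x} (hx : x.right = 1) := show x.right⁻¹ = 1 by rw [hx, inv_one]

/-- The second normal elementary abelian subgroup of order sixteen. -/
def V₂ : Subgroup M where
  carrier := {x | Even x.left ∧ Low x.right}
  one_mem' := show Even 1 ∧ Low 1 by decide
  mul_mem' {x y} (hx : Even x.left ∧ Low x.right) (hy : Even y.left ∧ Low y.right) :=
    ⟨even_mul _ _ hx.1 (even_perm _ _ hx.2 hy.1), low_mul _ _ hx.2 hy.2⟩
  inv_mem' {x} (hx : Even x.left ∧ Low x.right) :=
    ⟨even_perm _ _ (low_inv _ hx.2) (even_inv _ hx.1), low_inv _ hx.2⟩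

/-- The centre of the product of the blocks. -/
def W : Subgroup M := V₁ ⊓ V₂

instance : DecidablePred (· ∈ DD) := fun x => decidable_of_iff (Low x.right) Iff.rfl

instance : DecidablePred (· ∈ V₁) := fun x => decidable_of_iff (x.right = 1) Iff.rfl

instance : DecidablePred (· ∈ V₂) := fun x => decidable_of_iff (Even x.left ∧ Low x.right) Iff.rfl

instance : DecidablePred (· ∈ W) := fun x => decidable_of_iff (x ∈ V₁ ∧ x ∈ V₂) Iff.rfl

theorem card_V₁ : Nat.card V₁ = 16 := by rw [Nat.card_eq_fintype_card]; decide +kernel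

theorem card_V₂ : Nat.card V₂ = 16 := by rw [Nat.card_eq_fintype_card]; decide +kernel

theorem card_DD : Nat.card DD = 64 := by rw [Nat.card_eq_fintype_card]; decide +kernel

theorem card_W : Nat.card W = 4 := by rw [Nat.card_eq_fintype_card]; decide +kernel

theorem card_M : Nat.card M = 128 := by rw [Nat.card_eq_fintype_card]; decide +kernel

/-- The four elements of `W`. -/
def wList : List M := [1, Z1, Z2, Z]

theorem mem_W : ∀ x ∈ W, x ∈ wList := by decide +kernel

theorem W_list : ∀ w ∈ wList, w ∈ W ∧ w * w = 1 := by decide +kernel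

theorem W_central : ∀ w ∈ wList, ∀ x ∈ DD, x * w = w * x := by decide +kernel

theorem sq_DD : ∀ x ∈ DD, x * x ∈ W := by decide +kernel

theorem centre : ∀ x : M, x * A = A * x → x * B = B * x → x * T = T * x → x = 1 ∨ x = Z := by
  decide +kernel

theorem Z_central : ∀ x : M, x * Z = Z * x := by decide +kernel

theorem Z_ne : Z ≠ 1 ∧ Z * Z = 1 := by decide +kernel

theorem centralizer_gens : ∀ x : M, x * A = A * x → x * A' = A' * x → x * B = B * x →
    x * B' = B' * x → x ∈ W := by decide +kernel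

theorem centralizer_A : ∀ x : M, x * A = A * x → x ∈ DD := by decide +kernel

theorem centralizer_B : ∀ x : M, x * B = B * x → x ∈ DD := by decide +kernel

theorem exists_not_centralizer : ∀ x ∈ V₂, x ∉ W → (∀ g : M, g * x = x * g → g ∈ DD) →
    x * B ∈ W ∨ x * B' ∈ W := by decide +kernel

theorem exists_not_centralizer' : ∀ x ∈ V₁, x ∉ W → (∀ g : M, g * x = x * g → g ∈ DD) →
    x * A ∈ W ∨ x * A' ∈ W := by decide +kernel

theorem split_V₁ : ∀ x ∈ V₁, x * B' = B' * x → x * B ≠ B * x → x * A ∈ W := by decide +kernel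

theorem split_V₁' : ∀ x ∈ V₁, x * B = B * x → x * B' ≠ B' * x → x * A' ∈ W := by decide +kernel

theorem gens_basic : A ∈ V₁ ∧ A' ∈ V₁ ∧ B ∈ V₂ ∧ B' ∈ V₂ ∧ A ∉ W ∧ B ∉ W ∧ B * B' ∉ W ∧ T ∉ DD ∧
    A * A = 1 ∧ A' * A' = 1 ∧ B * B = 1 ∧ B' * B' = 1 ∧ T * T = 1 ∧ A ∈ DD ∧ A' ∈ DD ∧ B ∈ DD ∧
    B' ∈ DD ∧ A * B ≠ B * A ∧ A * B' = B' * A ∧ A' * B = B * A' ∧ A' * B' ≠ B' * A' ∧
    T * A * T = A' ∧ T * B * T = B' ∧ B * A * B = vec 1 ∧ B' * A' * B' = vec 3 := by decide +kernel

theorem squares : ∀ w ∈ wList, ∀ w' ∈ wList, (A * w) * (B * w') * ((A * w) * (B * w')) = Z1 ∧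
    (A' * w) * (B' * w') * ((A' * w) * (B' * w')) = Z2 := by decide +kernel

theorem Z1_mul : Z1 * Z2 = Z := by decide +kernel

theorem vec_prod : ∀ v : Vec, (SemidirectProduct.inl v : M) =
    (if v.toAdd 0 = 1 then vec 0 else 1) * (if v.toAdd 1 = 1 then vec 1 else 1) *
      (if v.toAdd 2 = 1 then vec 2 else 1) * (if v.toAdd 3 = 1 then vec 3 else 1) := by decide +kernel

/-- The parities describing an element of `dih`. -/
def flag (s : dih) : Bool × Bool × Bool :=
  if (s : Perm (Fin 4)) 0 < 2 then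
    (decide ((s : Perm (Fin 4)) 0 = 1), decide ((s : Perm (Fin 4)) 2 = 3), false)
  else (decide ((s : Perm (Fin 4)) 2 = 1), decide ((s : Perm (Fin 4)) 0 = 3), true)

theorem perm_prod : ∀ s : dih, (SemidirectProduct.inr s : M) =
    (if (flag s).1 then B else 1) * (if (flag s).2.1 then B' else 1) *
      (if (flag s).2.2 then T else 1) := by decide +kernel

theorem low_flag : ∀ s : dih, Low s → (flag s).2.2 = false := by decide +kernel

theorem mem_of_gens (H : Subgroup M) (hA : A ∈ H) (hA' : A' ∈ H) (hB : B ∈ H) (hB' : B' ∈ H) :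
    DD ≤ H := by
  intro x hx
  obtain ⟨-, -, -, -, -, -, -, -, -, -, -, -, -, -, -, -, -, -, -, -, -, -, -, h1, h3⟩ := gens_basic
  have e1 : vec 1 ∈ H := h1 ▸ H.mul_mem (H.mul_mem hB hA) hB
  have e3 : vec 3 ∈ H := h3 ▸ H.mul_mem (H.mul_mem hB' hA') hB'
  rw [← SemidirectProduct.inl_left_mul_inr_right x, vec_prod, perm_prod, low_flag x.right hx]
  refine H.mul_mem (H.mul_mem (H.mul_mem (H.mul_mem ?_ ?_) ?_) ?_) (H.mul_mem (H.mul_mem ?_ ?_) ?_)
  all_goals first
    | (split_ifs <;> first | exact H.one_mem | assumption)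
    | exact H.one_mem

theorem closure_gens : Subgroup.closure ({A, B, T} : Set M) = ⊤ := by
  rw [eq_top_iff]
  intro x _
  set H := Subgroup.closure ({A, B, T} : Set M)
  have hA : A ∈ H := Subgroup.subset_closure (by simp)
  have hB : B ∈ H := Subgroup.subset_closure (by simp)
  have hT : T ∈ H := Subgroup.subset_closure (by simp)
  obtain ⟨-, -, -, -, -, -, -, -, -, -, -, -, -, -, -, -, -, -, -, -, -, h2, h4, h1, h3⟩ := gens_basic
  have e2 : A' ∈ H := h2 ▸ H.mul_mem (H.mul_mem hT hA) hT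
  have e4 : B' ∈ H := h4 ▸ H.mul_mem (H.mul_mem hT hB) hT
  have e1 : vec 1 ∈ H := h1 ▸ H.mul_mem (H.mul_mem hB hA) hB
  have e3 : vec 3 ∈ H := h3 ▸ H.mul_mem (H.mul_mem e4 e2) e4
  rw [← SemidirectProduct.inl_left_mul_inr_right x, vec_prod, perm_prod]
  refine H.mul_mem (H.mul_mem (H.mul_mem (H.mul_mem ?_ ?_) ?_) ?_) (H.mul_mem (H.mul_mem ?_ ?_) ?_)
  all_goals (split_ifs <;> first | exact H.one_mem | assumption)

/-- An element of a normal elementary abelian subgroup. -/
def Good (x : M) : Prop :=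
  x * x = 1 ∧ ∀ g ∈ [A, B, T, A * B, B * T, T * A], (g * x * g⁻¹) * x = x * (g * x * g⁻¹)

theorem good_cases : ∀ x : M, Good x → x ∈ V₁ ∨ x ∈ V₂ := by unfold Good; decide +kernel

theorem normal_sixteen (V : Subgroup M) (hn : ∀ g, ∀ v ∈ V, g * v * g⁻¹ ∈ V)
    (hc : ∀ x ∈ V, ∀ y ∈ V, x * y = y * x) (hsq : ∀ x ∈ V, x * x = 1) (h16 : Nat.card V = 16) :
    V = V₁ ∨ V = V₂ := by
  have h : (V : Set M) ⊆ (V₁ : Set M) ∪ V₂ := fun x hx =>
    good_cases x ⟨hsq x hx, fun g _ => hc _ (hn g x hx) x hx⟩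
  by_cases h1 : V ≤ V₁
  · exact Or.inl (Subgroup.eq_of_le_of_card_ge h1 (by rw [h16, card_V₁]))
  refine Or.inr (Subgroup.eq_of_le_of_card_ge (fun x hx => ?_) (by rw [h16, card_V₂]))
  obtain ⟨a, ha, ha1⟩ := SetLike.not_le_iff_exists.mp h1
  have ha2 := (h ha).resolve_left ha1
  by_contra hx2
  have hx1 := (h hx).resolve_right hx2
  rcases h (V.mul_mem ha hx) with h' | h'
  · exact ha1 ((V₁.mul_mem_cancel_right hx1).mp h')
  · exact hx2 ((V₂.mul_mem_cancel_left ha2).mp h')

theorem adjust_pair : ∀ w ∈ wList, ∀ w' ∈ wList, ∃ k ∈ [1, A, B, A * B],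
    (k * (B * w) * k⁻¹ = B ∨ k * (B * w) * k⁻¹ = B * Z) ∧
      (k * (A * w') * k⁻¹ = A ∨ k * (A * w') * k⁻¹ = A * Z) := by decide +kernel

theorem adjust_T : ∀ t : M, t * t = 1 → t ∉ DD →
    ∃ k : M, k * A = A * k ∧ k * B = B * k ∧ k * t * k⁻¹ = T := by decide +kernel

theorem normal_DD : ∀ s t : dih, Low t → Low (s * t * s⁻¹) := by decide +kernel

theorem mem_DD_iff (x : M) : x ∈ DD ↔ ∃ a ∈ V₁, ∃ b ∈ V₂, x = a * b := by
  constructor
  · intro hx
    exact ⟨SemidirectProduct.inl x.left, rfl, SemidirectProduct.inr x.right,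
      ⟨(show Even 1 by decide), hx⟩, (SemidirectProduct.inl_left_mul_inr_right x).symm⟩
  · rintro ⟨a, ha, b, hb, rfl⟩
    show Low (a.right * b.right)
    rw [show a.right = 1 from ha, one_mul]
    exact hb.2

end CfsgLib.DEightWreath
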